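import Mathlib

/-!
# Homocyclic abelian `p`-groups

* `exists_mulEquiv` : a finite commutative group with `x ^ p ^ f = 1` for all `x` in which every `x` with `x ^ p = 1` is
  a `p ^ (f - 1)`-th power is isomorphic to `(ZMod (p ^ f)) ^ k`.
-/

set_option autoImplicit false

namespace Cfsg.Agent.H795

/-- **Homocyclic groups**: a finite commutative group `A` with `x ^ p ^ f = 1` for all `x`, in which every `x` with
`x ^ p = 1` is a `p ^ (f - 1)`-th power (`f ≥ 1`), is a direct power of the cyclic group of order `p ^ f`. -/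
theorem exists_mulEquiv {A : Type*} [CommGroup A] [Finite A] (p : ℕ) [hp : Fact p.Prime] (f : ℕ) (hf : 1 ≤ f)
    (h1 : ∀ x : A, x ^ p ^ f = 1) (h2 : ∀ x : A, x ^ p = 1 → ∃ y : A, y ^ p ^ (f - 1) = x) :
    ∃ k : ℕ, Nonempty (A ≃* (Fin k → Multiplicative (ZMod (p ^ f)))) := by
  classical
  obtain ⟨ι, hι, n, hn, ⟨e⟩⟩ := CommGroup.equiv_prod_multiplicative_zmod_of_finite A
  have hnp : ∀ i, n i = p ^ f := by
    intro i
    have hi : n i ∣ p ^ f := by
      have h3 := h1 (e.symm (Pi.mulSingle i (Multiplicative.ofAdd 1)))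
      rw [← map_pow] at h3
      have h4 : (Pi.mulSingle i (Multiplicative.ofAdd (1 : ZMod (n i))) :
          (j : ι) → Multiplicative (ZMod (n j))) ^ p ^ f = 1 := by
        have := congrArg e h3
        rwa [e.apply_symm_apply, map_one e] at this
      have h5 := congrFun h4 i
      rw [Pi.pow_apply, Pi.mulSingle_eq_same, Pi.one_apply, ← ofAdd_nsmul] at h5
      have h6 : (p ^ f) • (1 : ZMod (n i)) = 0 := by
        have := congrArg Multiplicative.toAdd h5
        simpa using this
      rw [nsmul_eq_mul, mul_one] at h6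
      exact (ZMod.natCast_eq_zero_iff _ _).1 h6
    obtain ⟨a, ha, hna⟩ := (Nat.dvd_prime_pow hp.out).1 hi
    have ha0 : a ≠ 0 := by
      rintro rfl
      rw [pow_zero] at hna
      exact absurd (hn i) (by omega)
    by_contra hne
    have haf : a < f := by
      rcases ha.lt_or_eq with h | h
      · exact h
      · exact absurd (by rw [hna, h]) hne
    -- the element of order `p` in the coordinate `i`
    have h3 : (e.symm (Pi.mulSingle i (Multiplicative.ofAdd ((p ^ (a - 1) : ℕ) : ZMod (n i))))) ^ p = 1 := by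
      rw [← map_pow, ← Pi.mulSingle_pow, ← ofAdd_nsmul, nsmul_eq_mul, ← Nat.cast_mul, ← pow_succ',
        Nat.sub_add_cancel (Nat.one_le_iff_ne_zero.2 ha0), ← hna, ZMod.natCast_self, ofAdd_zero,
        Pi.mulSingle_one, map_one]
    obtain ⟨y, hy⟩ := h2 _ h3
    have h4 := congrFun (congrArg e hy) i
    rw [e.apply_symm_apply, Pi.mulSingle_eq_same, map_pow, Pi.pow_apply] at h4
    have h5 := congrArg Multiplicative.toAdd h4
    rw [toAdd_pow, toAdd_ofAdd, nsmul_eq_mul] at h5
    have h6 : ((p ^ (f - 1) : ℕ) : ZMod (n i)) = 0 := by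
      rw [ZMod.natCast_eq_zero_iff, hna]
      exact pow_dvd_pow p (by omega)
    rw [h6, zero_mul] at h5
    have h7 := (ZMod.natCast_eq_zero_iff _ _).1 h5.symm
    rw [hna] at h7
    have h8 := (Nat.pow_dvd_pow_iff_le_right hp.out.one_lt).1 h7
    omega
  refine ⟨Fintype.card ι, ⟨e.trans ?_⟩⟩
  have e1 : ((i : ι) → Multiplicative (ZMod (n i))) ≃* (ι → Multiplicative (ZMod (p ^ f))) :=
    MulEquiv.piCongrRight fun i => (by
      have := hnp i
      rw [this])
  exact e1.trans (MulEquiv.arrowCongr (Fintype.equivFin ι) (MulEquiv.refl _))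

end Cfsg.Agent.H795
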