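import Mathlib
import Cfsg.Agent.H795.Homocyclic
import Cfsg.Agent.S0660
import Cfsg.Agent.Transfer.AbelianHall
import Cfsg.Prelude.Def_TwoFusion

/-!
# Abelian Sylow `p`-subgroups on which the normaliser acts irreducibly

* `AbIrr p G` : for every abelian Sylow `p`-subgroup `S`, the only `N_G(S)`-invariant subgroups of exponent `p` of `S` are
  `1` and `Ω₁(S)`.
* `AbIrr.of_mulEquiv` : transport;
* `AbIrr.homocyclic` : every nontrivial `N_G(S)`-invariant subgroup of `S` contains `Ω₁(S)` and is homocyclic;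
* `AbIrr.of_subgroup` (index prime to `p`), `AbIrr.of_surjective` (kernel of order prime to `p`);
* `abIrr_of_conj` : all subgroups of order `p` are conjugate;
* `fix_of_fix_small` : an element of `N_G(S)` centralising `Ω₁(S)` centralises `S`;
* `exists_reflection` : `H ≤ S`, `c ∈ C_G(H)` inverts the nontrivial `p`-element `x ∈ C_G(H)`, `p` odd : some element of
  `N_G(S) ∩ C_G(H)` moves an element of order `p` of `S`;
* `exists_invariant_compl`, `le_or_le` : the tools for the reflection criterion.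
-/

set_option autoImplicit false

namespace Cfsg.Agent.H795

open Subgroup

universe u v

/-- For every abelian Sylow `p`-subgroup `S`, the only `N_G(S)`-invariant subgroups of exponent `p` of `S` are
`1` and `Ω₁(S)`. -/
def AbIrr (p : ℕ) (G : Type*) [Group G] : Prop :=
  ∀ S : Sylow p G, IsMulCommutative (S : Subgroup G) →
    ∀ B : Subgroup G, B ≤ (S : Subgroup G) → (∀ b ∈ B, b ^ p = 1) →
      (∀ n ∈ normalizer ((S : Subgroup G) : Set G), ∀ b ∈ B, n * b * n⁻¹ ∈ B) →
      B = ⊥ ∨ ∀ x ∈ (S : Subgroup G), x ^ p = 1 → x ∈ B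

/-- elementwise commutativity of a subgroup -/
theorem comm_of {G : Type*} [Group G] {S : Subgroup G} (h : IsMulCommutative S) {a b : G} (ha : a ∈ S) (hb : b ∈ S) :
    a * b = b * a :=
  congrArg Subtype.val (h.is_comm.comm (⟨a, ha⟩ : S) ⟨b, hb⟩)

theorem isMulCommutative_of {G : Type*} [Group G] {S : Subgroup G} (h : ∀ a ∈ S, ∀ b ∈ S, a * b = b * a) :
    IsMulCommutative S :=
  ⟨⟨fun a b => Subtype.ext (h a a.2 b b.2)⟩⟩

/-- `Ω₁(S)` for a commutative subgroup -/
def om {G : Type*} [Group G] (p : ℕ) (S : Subgroup G) (h : IsMulCommutative S) : Subgroup G where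
  carrier := {x | x ∈ S ∧ x ^ p = 1}
  one_mem' := ⟨S.one_mem, one_pow p⟩
  mul_mem' := fun {a b} ha hb => ⟨S.mul_mem ha.1 hb.1, by
    rw [(show Commute a b from comm_of h ha.1 hb.1).mul_pow, ha.2, hb.2, one_mul]⟩
  inv_mem' := fun {a} ha => ⟨S.inv_mem ha.1, by rw [inv_pow, ha.2, inv_one]⟩

theorem mem_om {G : Type*} [Group G] {p : ℕ} {S : Subgroup G} {h : IsMulCommutative S} {x : G} :
    x ∈ om p S h ↔ x ∈ S ∧ x ^ p = 1 := Iff.rfl

/-- the `m`-th powers of the elements of a commutative subgroup -/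
def powS {G : Type*} [Group G] (m : ℕ) (S : Subgroup G) (h : IsMulCommutative S) : Subgroup G where
  carrier := {x | ∃ a ∈ S, a ^ m = x}
  one_mem' := ⟨1, S.one_mem, one_pow m⟩
  mul_mem' := by
    rintro _ _ ⟨a, ha, rfl⟩ ⟨b, hb, rfl⟩
    exact ⟨a * b, S.mul_mem ha hb, (show Commute a b from comm_of h ha hb).mul_pow m⟩
  inv_mem' := by
    rintro _ ⟨a, ha, rfl⟩
    exact ⟨a⁻¹, S.inv_mem ha, inv_pow a m⟩

theorem mem_powS {G : Type*} [Group G] {m : ℕ} {S : Subgroup G} {h : IsMulCommutative S} {x : G} :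
    x ∈ powS m S h ↔ ∃ a ∈ S, a ^ m = x := Iff.rfl

theorem conj_pow' {G : Type*} [Group G] (n b : G) (m : ℕ) : (n * b * n⁻¹) ^ m = n * b ^ m * n⁻¹ := by
  rw [← MulAut.conj_apply, ← map_pow, MulAut.conj_apply]

/-- transport along an isomorphism -/
theorem AbIrr.of_mulEquiv {p : ℕ} {G : Type u} {G' : Type v} [Group G] [Group G'] (e : G ≃* G') (h : AbIrr p G) :
    AbIrr p G' := by
  intro S hS B hBS hB hinv
  let S0 : Sylow p G := S.comapOfInjective e.toMonoidHom e.injective (by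
    rw [MonoidHom.range_eq_top.2 e.surjective]
    exact le_top)
  have hS0 : (S0 : Subgroup G) = (S : Subgroup G').comap e.toMonoidHom := rfl
  have hmem : ∀ x : G, x ∈ (S0 : Subgroup G) ↔ e x ∈ (S : Subgroup G') := fun x => by
    rw [hS0]
    rfl
  have h1 : IsMulCommutative (S0 : Subgroup G) := isMulCommutative_of fun a ha b hb => by
    apply e.injective
    rw [map_mul, map_mul]
    exact comm_of hS ((hmem a).1 ha) ((hmem b).1 hb)
  have hn : ∀ n : G, n ∈ normalizer ((S0 : Subgroup G) : Set G) → e n ∈ normalizer ((S : Subgroup G') : Set G') := by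
    intro n hn
    rw [mem_normalizer_iff] at hn ⊢
    intro y
    obtain ⟨x, rfl⟩ := e.surjective y
    have h2 := hn x
    rw [hmem, hmem, map_mul, map_mul, map_inv] at h2
    exact h2
  rcases h S0 h1 (B.comap e.toMonoidHom) (fun x hx => (hmem x).2 (hBS hx))
      (fun b hb => by
        apply e.injective
        rw [map_pow, map_one]
        exact hB _ hb)
      (fun n hn' b hb => by
        have h2 := hinv (e n) (hn n hn') (e b) hb
        rw [← map_inv, ← map_mul, ← map_mul] at h2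
        exact h2) with h2 | h2
  · left
    rw [eq_bot_iff]
    intro y hy
    obtain ⟨x, rfl⟩ := e.surjective y
    have h3 : x ∈ B.comap e.toMonoidHom := hy
    rw [h2, mem_bot] at h3
    rw [h3, map_one]
    exact one_mem _
  · right
    intro y hy hyp
    obtain ⟨x, rfl⟩ := e.surjective y
    refine h2 x ((hmem x).2 hy) ?_
    apply e.injective
    rw [map_pow, map_one]
    exact hyp

/-- number of elements of order dividing `p` of `(ZMod (p ^ f)) ^ k` -/
theorem card_torsion (p f k : ℕ) [hp : Fact p.Prime] (hf : 1 ≤ f) :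
    Nat.card {x : Fin k → Multiplicative (ZMod (p ^ f)) // x ^ p = 1} = p ^ k := by
  have hne : NeZero (p ^ f) := ⟨pow_ne_zero _ hp.out.ne_zero⟩
  have h1 : Nat.card (powMonoidHom p : Multiplicative (ZMod (p ^ f)) →* Multiplicative (ZMod (p ^ f))).ker = p := by
    rw [IsCyclic.card_powMonoidHom_ker]
    have h2 : Nat.card (Multiplicative (ZMod (p ^ f))) = p ^ f := by
      rw [Nat.card_congr Multiplicative.toAdd, Nat.card_zmod]
    rw [h2]
    exact Nat.gcd_eq_right (dvd_pow_self p (by omega))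
  have e : {x : Fin k → Multiplicative (ZMod (p ^ f)) // x ^ p = 1} ≃
      (Fin k → (powMonoidHom p : Multiplicative (ZMod (p ^ f)) →* Multiplicative (ZMod (p ^ f))).ker) :=
    { toFun := fun x i => ⟨x.1 i, by
        rw [MonoidHom.mem_ker, powMonoidHom_apply]
        exact congrFun x.2 i⟩
      invFun := fun y => ⟨fun i => (y i).1, by
        funext i
        exact (y i).2⟩
      left_inv := fun x => rfl
      right_inv := fun y => rfl }
  rw [Nat.card_congr e, Nat.card_fun, h1, Nat.card_fin]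

section

variable {G : Type*} [Group G] [Finite G] {p : ℕ} [hp : Fact p.Prime]

/-- **Invariant subgroups**: a nontrivial `N_G(S)`-invariant subgroup `A` of the abelian Sylow `p`-subgroup `S` contains
`Ω₁(S)` and is homocyclic, if `N_G(S)` is irreducible on `Ω₁(S)`. -/
theorem AbIrr.homocyclic (h : AbIrr p G) (S : Sylow p G) (hS : IsMulCommutative (S : Subgroup G)) (A : Subgroup G)
    (hAS : A ≤ (S : Subgroup G)) (hA : A ≠ ⊥)
    (hinv : ∀ n ∈ normalizer ((S : Subgroup G) : Set G), ∀ a ∈ A, n * a * n⁻¹ ∈ A) :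
    (∀ x ∈ (S : Subgroup G), x ^ p = 1 → x ∈ A) ∧
      ∃ f k : ℕ, 1 ≤ f ∧ Nonempty (A ≃* (Fin k → Multiplicative (ZMod (p ^ f)))) := by
  classical
  have hAc : IsMulCommutative A := isMulCommutative_of fun a ha b hb => comm_of hS (hAS ha) (hAS hb)
  have hAp : IsPGroup p A := S.2.to_le hAS
  -- the exponent
  obtain ⟨m, hm⟩ : ∃ m : ℕ, ∀ a ∈ A, a ^ p ^ m = 1 := by
    obtain ⟨m, hm⟩ := IsPGroup.iff_card.1 hAp
    refine ⟨m, fun a ha => ?_⟩
    rw [← hm]
    have := pow_card_eq_one' (x := (⟨a, ha⟩ : A))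
    exact congrArg Subtype.val this
  let f := Nat.find (⟨m, hm⟩ : ∃ m : ℕ, ∀ a ∈ A, a ^ p ^ m = 1)
  have hf : ∀ a ∈ A, a ^ p ^ f = 1 := Nat.find_spec (⟨m, hm⟩ : ∃ m : ℕ, ∀ a ∈ A, a ^ p ^ m = 1)
  have hf1 : 1 ≤ f := by
    by_contra h0
    have h0' : f = 0 := by omega
    apply hA
    rw [eq_bot_iff]
    intro a ha
    have := hf a ha
    rw [h0', pow_zero, pow_one] at this
    rw [this]
    exact one_mem _
  have hfm : ∃ a ∈ A, a ^ p ^ (f - 1) ≠ 1 := by
    have := Nat.find_min (⟨m, hm⟩ : ∃ m : ℕ, ∀ a ∈ A, a ^ p ^ m = 1) (m := f - 1) (by omega)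
    push Not at this
    exact this
  -- the subgroup of powers
  let B := powS (p ^ (f - 1)) A hAc
  have hBA : B ≤ A := by
    rintro _ ⟨a, ha, rfl⟩
    exact A.pow_mem ha _
  have hBp : ∀ b ∈ B, b ^ p = 1 := by
    rintro _ ⟨a, ha, rfl⟩
    rw [← pow_mul, ← pow_succ, Nat.sub_add_cancel hf1]
    exact hf a ha
  rcases h S hS B (hBA.trans hAS) hBp (by
    rintro n hn _ ⟨a, ha, rfl⟩
    exact ⟨n * a * n⁻¹, hinv n hn a ha, conj_pow' n a _⟩) with h1 | h1
  · exfalso
    obtain ⟨a, ha, ha1⟩ := hfm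
    have h2 : a ^ p ^ (f - 1) ∈ B := ⟨a, ha, rfl⟩
    rw [h1, mem_bot] at h2
    exact ha1 h2
  · have h2 : ∀ x ∈ (S : Subgroup G), x ^ p = 1 → x ∈ A := fun x hx hxp => hBA (h1 x hx hxp)
    refine ⟨h2, f, ?_⟩
    let _ : CommGroup A := { (inferInstance : Group A) with mul_comm := hAc.is_comm.comm }
    obtain ⟨k, hk⟩ := exists_mulEquiv (A := A) p f hf1 (fun x => Subtype.ext (hf x x.2)) (fun x hx => by
      have h3 : (x : G) ^ p = 1 := congrArg Subtype.val hx
      obtain ⟨a, ha, hax⟩ := h1 x (hAS x.2) h3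
      exact ⟨⟨a, ha⟩, Subtype.ext hax⟩)
    exact ⟨k, hf1, hk⟩

/-- `S5307` from irreducibility -/
theorem AbIrr.stronglyClosed_iff (h : AbIrr p G) (S : Sylow p G)
    (k e : ℕ) (he : 1 ≤ e) (hS : Nonempty (↥(S : Subgroup G) ≃* (Fin k → Multiplicative (ZMod (p ^ e)))))
    (A : Subgroup G) (hA : A ≠ ⊥) (hAS : A ≤ (S : Subgroup G)) :
    Cfsg.IsStronglyClosed A (S : Subgroup G) ↔
      ∃ f : ℕ, 1 ≤ f ∧ Nonempty (↥A ≃* (Fin k → Multiplicative (ZMod (p ^ f)))) := by
  classical
  obtain ⟨eS⟩ := hS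
  have hSc : IsMulCommutative (S : Subgroup G) := ⟨⟨fun a b => by
    apply eS.injective
    rw [map_mul, map_mul, mul_comm]⟩⟩
  have hcardS : Nat.card {x : (S : Subgroup G) // x ^ p = 1} = p ^ k := by
    rw [← card_torsion p e k he]
    refine Nat.card_congr (eS.toEquiv.subtypeEquiv fun x => ?_)
    constructor
    · intro hx
      change (eS x) ^ p = 1
      rw [← map_pow, hx, map_one]
    · intro hx
      apply eS.injective
      rw [map_pow, map_one]
      exact hx
  constructor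
  · intro hsc
    obtain ⟨h1, f, k', hf, ⟨eA⟩⟩ := h.homocyclic S hSc A hAS hA (fun n hn a ha =>
      hsc.2 a ha n ((mem_normalizer_iff.1 hn a).1 (hAS ha)))
    have hcardA : Nat.card {x : A // x ^ p = 1} = p ^ k' := by
      rw [← card_torsion p f k' hf]
      refine Nat.card_congr (eA.toEquiv.subtypeEquiv fun x => ?_)
      constructor
      · intro hx
        change (eA x) ^ p = 1
        rw [← map_pow, hx, map_one]
      · intro hx
        apply eA.injective
        rw [map_pow, map_one]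
        exact hx
    have hcard : Nat.card {x : A // x ^ p = 1} = Nat.card {x : (S : Subgroup G) // x ^ p = 1} := by
      refine Nat.card_congr
        { toFun := fun x => ⟨⟨x.1.1, hAS x.1.2⟩, Subtype.ext (show (x.1.1 : G) ^ p = 1 from congrArg Subtype.val x.2)⟩
          invFun := fun x => ⟨⟨x.1.1, h1 _ x.1.2 (congrArg Subtype.val x.2)⟩,
            Subtype.ext (show (x.1.1 : G) ^ p = 1 from congrArg Subtype.val x.2)⟩
          left_inv := fun x => rfl
          right_inv := fun x => rfl }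
    rw [hcardA, hcardS] at hcard
    have hkk : k' = k := Nat.pow_right_injective hp.out.two_le hcard
    subst hkk
    exact ⟨f, hf, ⟨eA⟩⟩
  · rintro ⟨f, hf, ⟨eA⟩⟩
    -- `f ≤ e` and `A = {x ∈ S | x ^ p ^ f = 1}`
    have hAexp : ∀ a ∈ A, a ^ p ^ f = 1 := by
      intro a ha
      have h1 : (⟨a, ha⟩ : A) ^ p ^ f = 1 := by
        apply eA.injective
        rw [map_pow, map_one]
        funext i
        change (eA ⟨a, ha⟩ i) ^ p ^ f = 1
        have h2 : Nat.card (Multiplicative (ZMod (p ^ f))) = p ^ f := by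
          rw [Nat.card_congr Multiplicative.toAdd, Nat.card_zmod]
        have h3 := pow_card_eq_one' (x := eA ⟨a, ha⟩ i)
        rw [h2] at h3
        exact h3
      exact congrArg Subtype.val h1
    have hAcard : Nat.card A = (p ^ f) ^ k := by
      rw [Nat.card_congr eA.toEquiv, Nat.card_fun, Nat.card_congr Multiplicative.toAdd, Nat.card_zmod, Nat.card_fin]
    -- count the elements of `S` killed by `p ^ f`
    have hle : Nat.card {x : (S : Subgroup G) // x ^ p ^ f = 1} ≤ (p ^ f) ^ k := by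
      have e1 : {x : (S : Subgroup G) // x ^ p ^ f = 1} ≃
          (Fin k → (powMonoidHom (p ^ f) : Multiplicative (ZMod (p ^ e)) →* Multiplicative (ZMod (p ^ e))).ker) :=
        { toFun := fun x i => ⟨eS x.1 i, by
            rw [MonoidHom.mem_ker, powMonoidHom_apply]
            have h1 := x.2
            have h2 := congrArg eS h1
            rw [map_pow, map_one] at h2
            exact congrFun h2 i⟩
          invFun := fun y => ⟨eS.symm fun i => (y i).1, by
            apply eS.injective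
            rw [map_pow, map_one, eS.apply_symm_apply]
            funext i
            exact (y i).2⟩
          left_inv := fun x => Subtype.ext (eS.symm_apply_apply _)
          right_inv := fun y => by
            funext i
            apply Subtype.ext
            change eS (eS.symm fun i => (y i).1) i = (y i).1
            rw [eS.apply_symm_apply] }
      have hne : NeZero (p ^ e) := ⟨pow_ne_zero _ hp.out.ne_zero⟩
      rw [Nat.card_congr e1, Nat.card_fun, Nat.card_fin, IsCyclic.card_powMonoidHom_ker]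
      exact Nat.pow_le_pow_left (Nat.gcd_le_right _ (pow_pos hp.out.pos _)) _
    have hall : ∀ x ∈ (S : Subgroup G), x ^ p ^ f = 1 → x ∈ A := by
      let T : Subgroup G := om (p ^ f) (S : Subgroup G) hSc
      have hAT : A ≤ T := fun a ha => ⟨hAS ha, hAexp a ha⟩
      have hT : Nat.card T = Nat.card {x : (S : Subgroup G) // x ^ p ^ f = 1} :=
        Nat.card_congr
          { toFun := fun x => ⟨⟨x.1, x.2.1⟩, Subtype.ext x.2.2⟩
            invFun := fun x => ⟨x.1.1, x.1.2, congrArg Subtype.val x.2⟩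
            left_inv := fun x => rfl
            right_inv := fun x => rfl }
      have hEq : A = T := Subgroup.eq_of_le_of_card_ge hAT (by rw [hT, hAcard]; exact hle)
      intro x hx hxp
      rw [hEq]
      exact ⟨hx, hxp⟩
    refine ⟨hAS, fun x hx g hg => hall _ hg ?_⟩
    rw [conj_pow', hAexp x hx, mul_one, mul_inv_cancel]

omit [Finite G] hp in
/-- a `p`-element normalising a Sylow `p`-subgroup lies in it -/
theorem mem_sylow_of_normalizer (S : Sylow p G) {x : G} {k : ℕ} (hx : x ^ p ^ k = 1)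
    (hn : x ∈ normalizer ((S : Subgroup G) : Set G)) : x ∈ (S : Subgroup G) := by
  have h1 : IsPGroup p (zpowers x) := by
    rintro ⟨y, hy⟩
    obtain ⟨i, rfl⟩ := mem_zpowers_iff.1 hy
    refine ⟨k, Subtype.ext ?_⟩
    change (x ^ i) ^ p ^ k = 1
    rw [← zpow_natCast, ← zpow_mul, mul_comm, zpow_mul, zpow_natCast, hx, one_zpow]
  have h2 := h1.inf_normalizer_sylow S
  have h3 : x ∈ zpowers x ⊓ normalizer (S : Set G) := ⟨mem_zpowers x, hn⟩
  rw [h2] at h3
  exact h3.2

/-- An element normalising the abelian Sylow subgroup `S` and centralising `Ω₁(S)` centralises `S`. -/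
theorem fix_of_fix_small (S : Sylow p G) (hS : IsMulCommutative (S : Subgroup G)) {n : G}
    (hn : n ∈ normalizer ((S : Subgroup G) : Set G))
    (h : ∀ x ∈ (S : Subgroup G), x ^ p = 1 → n * x * n⁻¹ = x) : ∀ x ∈ (S : Subgroup G), n * x * n⁻¹ = x := by
  classical
  -- `n ^ m ∈ S` for `m` the `p'`-part of the order
  obtain ⟨a, m, hm, hnm⟩ := Nat.exists_eq_pow_mul_and_not_dvd (orderOf_pos n).ne' p hp.out.ne_one
  have h1 : n ^ m ∈ (S : Subgroup G) := by
    refine mem_sylow_of_normalizer (k := a) S ?_ (pow_mem hn m)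
    rw [← pow_mul, mul_comm, ← hnm, pow_orderOf_eq_one]
  have hcop : m.Coprime p := ((Nat.Prime.coprime_iff_not_dvd hp.out).2 hm).symm
  have key : ∀ k : ℕ, ∀ x ∈ (S : Subgroup G), x ^ p ^ k = 1 → n * x * n⁻¹ = x := by
    intro k
    induction k with
    | zero =>
      intro x _ hx
      rw [pow_zero, pow_one] at hx
      rw [hx, mul_one, mul_inv_cancel]
    | succ k ih =>
      intro x hx hxk
      have hnx : n * x * n⁻¹ ∈ (S : Subgroup G) := (mem_normalizer_iff.1 hn x).1 hx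
      set t := x⁻¹ * (n * x * n⁻¹) with ht
      have htS : t ∈ (S : Subgroup G) := mul_mem (inv_mem hx) hnx
      have hxt : n * x * n⁻¹ = x * t := by rw [ht, mul_inv_cancel_left]
      have hxp : n * x ^ p * n⁻¹ = x ^ p := ih _ (pow_mem hx p) (by rw [← pow_mul, ← pow_succ', hxk])
      have htp : t ^ p = 1 := by
        rw [ht, (show Commute x⁻¹ (n * x * n⁻¹) from comm_of hS (inv_mem hx) hnx).mul_pow, conj_pow', hxp, inv_pow,
          inv_mul_cancel]
      have htn : n * t * n⁻¹ = t := h t htS htp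
      have hj : ∀ j : ℕ, n ^ j * x * (n ^ j)⁻¹ = x * t ^ j := by
        intro j
        induction j with
        | zero => simp
        | succ j ihj =>
          have h2 : n * t ^ j * n⁻¹ = t ^ j := by rw [← conj_pow', htn]
          calc n ^ (j + 1) * x * (n ^ (j + 1))⁻¹ = n * (n ^ j * x * (n ^ j)⁻¹) * n⁻¹ := by
                rw [pow_succ', mul_inv_rev]
                group
            _ = n * (x * t ^ j) * n⁻¹ := by rw [ihj]
            _ = (n * x * n⁻¹) * (n * t ^ j * n⁻¹) := by group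
            _ = x * t ^ (j + 1) := by rw [hxt, h2, mul_assoc, ← pow_succ']
      have h3 := hj m
      rw [comm_of hS h1 hx, mul_inv_cancel_right] at h3
      have h4 : t ^ m = 1 := by
        have := congrArg (fun z => x⁻¹ * z) h3
        simpa using this.symm
      have h5 : t = 1 := by
        have h6 : t ^ Nat.gcd m p = 1 := pow_gcd_eq_one.2 ⟨h4, htp⟩
        rwa [hcop, pow_one] at h6
      rw [hxt, h5, mul_one]
  intro x hx
  obtain ⟨k, hk⟩ := S.2 ⟨x, hx⟩
  exact key k x hx (congrArg Subtype.val hk)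

/-- **Reflections**: `S` an abelian Sylow `p`-subgroup, `H ≤ S`; if `x` is a `p`-element of `C_G(H)` and `c ∈ C_G(H)` is
such that `c x c⁻¹ ≠ x` commutes with `x`, then some `n ∈ N_G(S)` centralises `H` and moves an element of order `p` of
`S`. -/
theorem exists_reflection (S : Sylow p G) (hS : IsMulCommutative (S : Subgroup G)) (H : Subgroup G)
    (hH : H ≤ (S : Subgroup G)) {x c : G} (hx : ∀ h ∈ H, h * x = x * h) (hc : ∀ h ∈ H, h * c = c * h) {k : ℕ}
    (hxp : x ^ p ^ k = 1) (hcomm : x * (c * x * c⁻¹) = (c * x * c⁻¹) * x) (hne : c * x * c⁻¹ ≠ x) :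
    ∃ n ∈ normalizer ((S : Subgroup G) : Set G), (∀ h ∈ H, n * h * n⁻¹ = h) ∧
      ∃ s ∈ (S : Subgroup G), s ^ p = 1 ∧ n * s * n⁻¹ ≠ s := by
  classical
  set C := centralizer (H : Set G) with hC
  have hSC : (S : Subgroup G) ≤ C := by
    intro s hs
    rw [hC, mem_centralizer_iff]
    intro h hh
    exact comm_of hS (hH hh) hs
  have hxC : x ∈ C := mem_centralizer_iff.2 hx
  have hcC : c ∈ C := mem_centralizer_iff.2 hc
  set y := c * x * c⁻¹ with hy
  have hyC : y ∈ C := mul_mem (mul_mem hcC hxC) (inv_mem hcC)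
  have hyp : y ^ p ^ k = 1 := by rw [hy, conj_pow', hxp, mul_one, mul_inv_cancel]
  let x' : C := ⟨x, hxC⟩
  let y' : C := ⟨y, hyC⟩
  let c' : C := ⟨c, hcC⟩
  have hz : ∀ z : C, z ^ p ^ k = 1 → IsPGroup p (zpowers z) := by
    rintro z hz ⟨w, hw⟩
    obtain ⟨i, rfl⟩ := mem_zpowers_iff.1 hw
    refine ⟨k, Subtype.ext ?_⟩
    change (z ^ i) ^ p ^ k = 1
    rw [← zpow_natCast, ← zpow_mul, mul_comm, zpow_mul, zpow_natCast, hz, one_zpow]
  have hx'p := hz x' (Subtype.ext hxp)
  have hy'p := hz y' (Subtype.ext hyp)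
  have hnorm : zpowers x' ≤ normalizer ((zpowers y' : Subgroup C) : Set C) := by
    rw [zpowers_le]
    have h1 : x' ∈ centralizer ((zpowers y' : Subgroup C) : Set C) := by
      rw [mem_centralizer_iff]
      intro z hz
      obtain ⟨i, rfl⟩ := mem_zpowers_iff.1 hz
      have h2 : Commute x' y' := Subtype.ext hcomm
      exact (h2.zpow_right i).symm
    exact centralizer_le_normalizer _ h1
  have hP : IsPGroup p (zpowers x' ⊔ zpowers y' : Subgroup C) := hx'p.to_sup_of_normal_right' hy'p hnorm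
  obtain ⟨Q, hQ⟩ := hP.exists_le_sylow
  obtain ⟨d, hd⟩ := MulAction.exists_smul_eq C Q (S.subtype hSC)
  have hmem : ∀ z : C, z ∈ (Q : Subgroup C) → ((d * z * d⁻¹ : C) : G) ∈ (S : Subgroup G) := by
    intro z hz
    have h1 : d * z * d⁻¹ ∈ ((d • Q : Sylow p C) : Subgroup C) := by
      rw [Sylow.coe_subgroup_smul]
      exact Subgroup.smul_mem_pointwise_smul z (MulAut.conj d) (Q : Subgroup C) hz
    rw [hd] at h1
    exact h1
  have hx2 : d * x' * d⁻¹ ∈ ((S.subtype hSC : Sylow p C) : Subgroup C) :=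
    hmem x' (hQ (mem_sup_left (mem_zpowers x')))
  have hy2 : d * y' * d⁻¹ ∈ ((S.subtype hSC : Sylow p C) : Subgroup C) :=
    hmem y' (hQ (mem_sup_right (mem_zpowers y')))
  have hScomm : IsMulCommutative ((S.subtype hSC : Sylow p C) : Subgroup C) :=
    isMulCommutative_of fun a ha b hb => Subtype.ext (comm_of hS ha hb)
  have hy3 : (d * c'⁻¹ * d⁻¹)⁻¹ * (d * x' * d⁻¹) * (d * c'⁻¹ * d⁻¹) = d * y' * d⁻¹ := by
    have : y' = c' * x' * c'⁻¹ := Subtype.ext hy
    rw [this]
    group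
  obtain ⟨n, hn, hn2⟩ := Sylow.conj_eq_normalizer_conj_of_mem (S.subtype hSC) (d * x' * d⁻¹) (d * c'⁻¹ * d⁻¹) hx2
    (by rw [hy3]; exact hy2)
  rw [hy3] at hn2
  have hnN : ((n⁻¹ : C) : G) ∈ normalizer ((S : Subgroup G) : Set G) := by
    have h1 : n⁻¹ ∈ normalizer (((S.subtype hSC : Sylow p C) : Subgroup C) : Set C) := inv_mem hn
    have h2 : ∀ m ∈ normalizer (((S.subtype hSC : Sylow p C) : Subgroup C) : Set C), ∀ s ∈ (S : Subgroup G),
        (m : G) * s * (m : G)⁻¹ ∈ (S : Subgroup G) := by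
      intro m hm s hs
      exact (mem_normalizer_iff.1 hm ⟨s, hSC hs⟩).1 hs
    rw [mem_normalizer_iff]
    intro s
    constructor
    · exact h2 _ h1 s
    · intro hs
      have h3 := h2 _ (inv_mem h1) _ hs
      have h4 : ((n⁻¹)⁻¹ : C) * (((n⁻¹ : C) : G) * s * ((n⁻¹ : C) : G)⁻¹) * (((n⁻¹)⁻¹ : C) : G)⁻¹ = s := by
        push_cast
        group
      rwa [h4] at h3
  refine ⟨((n⁻¹ : C) : G), hnN, ?_, ?_⟩
  · intro h hh
    have h1 := mem_centralizer_iff.1 (n⁻¹).2 h hh
    rw [← h1, mul_inv_cancel_right]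
  · by_contra hcon
    push Not at hcon
    have h1 := fix_of_fix_small S hS hnN hcon _ hx2
    have h2 : n⁻¹ * (d * x' * d⁻¹) * n⁻¹⁻¹ = d * x' * d⁻¹ := Subtype.ext h1
    rw [inv_inv, ← hn2] at h2
    have h3 : y' = x' := mul_left_cancel (mul_right_cancel h2)
    exact hne (congrArg Subtype.val h3)

/-- the inverting form, `p` odd -/
theorem exists_reflection_inv (hp2 : p ≠ 2) (S : Sylow p G) (hS : IsMulCommutative (S : Subgroup G)) (H : Subgroup G)
    (hH : H ≤ (S : Subgroup G)) {x c : G} (hx : ∀ h ∈ H, h * x = x * h) (hc : ∀ h ∈ H, h * c = c * h) {k : ℕ}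
    (hxp : x ^ p ^ k = 1) (hx1 : x ≠ 1) (hinv : c * x * c⁻¹ = x⁻¹) :
    ∃ n ∈ normalizer ((S : Subgroup G) : Set G), (∀ h ∈ H, n * h * n⁻¹ = h) ∧
      ∃ s ∈ (S : Subgroup G), s ^ p = 1 ∧ n * s * n⁻¹ ≠ s := by
  refine exists_reflection S hS H hH hx hc hxp ?_ ?_
  · rw [hinv, mul_inv_cancel, inv_mul_cancel]
  · rw [hinv]
    intro h1
    apply hx1
    have h2 : x ^ 2 = 1 := by
      rw [pow_two]
      nth_rewrite 1 [← h1]
      exact inv_mul_cancel x
    have h3 : x ^ Nat.gcd 2 (p ^ k) = 1 := pow_gcd_eq_one.2 ⟨h2, hxp⟩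
    have h4 : Nat.gcd 2 (p ^ k) = 1 :=
      Nat.Coprime.pow_right k ((Nat.coprime_primes Nat.prime_two hp.out).2 (Ne.symm hp2))
    rwa [h4, pow_one] at h3

omit [Finite G] hp in
/-- the hyperplane alternative -/
theorem le_or_le (S : Sylow p G) (hS : IsMulCommutative (S : Subgroup G)) (B1 B2 H : Subgroup G)
    (h1S : B1 ≤ om p (S : Subgroup G) hS) (h2S : B2 ≤ om p (S : Subgroup G) hS)
    (h1 : ∀ n ∈ normalizer ((S : Subgroup G) : Set G), ∀ b ∈ B1, n * b * n⁻¹ ∈ B1)
    (h2 : ∀ n ∈ normalizer ((S : Subgroup G) : Set G), ∀ b ∈ B2, n * b * n⁻¹ ∈ B2)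
    (h12 : B1 ⊓ B2 = ⊥)
    (hyp : ∀ a ∈ om p (S : Subgroup G) hS, a ∉ H → ∀ b ∈ om p (S : Subgroup G) hS, ∃ k : ℤ, b * a ^ k ∈ H)
    {n : G} (hn : n ∈ normalizer ((S : Subgroup G) : Set G)) (hnH : ∀ h ∈ H, n * h * n⁻¹ = h)
    (hns : ∃ s ∈ (S : Subgroup G), s ^ p = 1 ∧ n * s * n⁻¹ ≠ s) : B1 ≤ H ∨ B2 ≤ H := by
  by_contra hcon
  push Not at hcon
  obtain ⟨hc1, hc2⟩ := hcon
  obtain ⟨b1, hb1, hb1H⟩ := SetLike.not_le_iff_exists.1 hc1
  obtain ⟨b2, hb2, hb2H⟩ := SetLike.not_le_iff_exists.1 hc2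
  obtain ⟨k, hk⟩ := hyp b1 (h1S hb1) hb1H b2 (h2S hb2)
  have e1 := hnH _ hk
  have e2 : n * (b2 * b1 ^ k) * n⁻¹ = (n * b2 * n⁻¹) * (n * b1 ^ k * n⁻¹) := by group
  rw [e2] at e1
  -- `b2⁻¹ (n b2 n⁻¹) = b1 ^ k (n b1 ^ k n⁻¹)⁻¹`
  have e3 : b2⁻¹ * (n * b2 * n⁻¹) = b1 ^ k * (n * b1 ^ k * n⁻¹)⁻¹ := by
    rw [eq_mul_inv_iff_mul_eq, mul_assoc, e1, inv_mul_cancel_left]
  have m2 : b2⁻¹ * (n * b2 * n⁻¹) ∈ B2 := mul_mem (inv_mem hb2) (h2 n hn b2 hb2)
  have m1 : b2⁻¹ * (n * b2 * n⁻¹) ∈ B1 := by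
    rw [e3]
    exact mul_mem (zpow_mem hb1 k) (inv_mem (h1 n hn _ (zpow_mem hb1 k)))
  have m0 : b2⁻¹ * (n * b2 * n⁻¹) ∈ B1 ⊓ B2 := ⟨m1, m2⟩
  rw [h12, mem_bot] at m0
  have fb2 : n * b2 * n⁻¹ = b2 := (inv_mul_eq_one.1 m0).symm
  obtain ⟨s, hs, hsp, hsn⟩ := hns
  obtain ⟨j, hj⟩ := hyp b2 (h2S hb2) hb2H s ⟨hs, hsp⟩
  apply hsn
  have e4 := hnH _ hj
  have e5 : n * (s * b2 ^ j) * n⁻¹ = (n * s * n⁻¹) * (n * b2 * n⁻¹) ^ j := by
    rw [show (n * b2 * n⁻¹) ^ j = n * b2 ^ j * n⁻¹ by rw [← MulAut.conj_apply, ← map_zpow, MulAut.conj_apply]]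
    group
  rw [e5, fb2] at e4
  exact mul_right_cancel e4

omit [Finite G] in
theorem exists_compl_aux {V : Type*} [AddCommGroup V] [Module (ZMod p) V] (U : AddSubgroup V) :
    ∃ W : AddSubgroup V, (∀ v, v ∈ U → v ∈ W → v = 0) ∧ ∀ v, ∃ u ∈ U, ∃ w ∈ W, u + w = v := by
  obtain ⟨W, hW⟩ := Submodule.exists_isCompl (AddSubgroup.toZModSubmodule p U)
  refine ⟨W.toAddSubgroup, fun v h1 h2 => ?_, fun v => ?_⟩
  · exact Submodule.disjoint_def.1 hW.disjoint v h1 h2
  · have h1 : v ∈ (AddSubgroup.toZModSubmodule p U) ⊔ W := by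
      rw [hW.sup_eq_top]
      exact Submodule.mem_top
    exact Submodule.mem_sup.1 h1

/-- complements of subgroups of elementary abelian groups -/
theorem exists_compl_elem {V : Type*} [CommGroup V] (hV : ∀ v : V, v ^ p = 1) (U : Subgroup V) :
    ∃ W : Subgroup V, U ⊓ W = ⊥ ∧ U ⊔ W = ⊤ := by
  have h0 : ∀ v : Additive V, p • v = 0 := fun v => by
    apply Additive.toMul.injective
    rw [toMul_nsmul]
    exact hV _
  let _ : Module (ZMod p) (Additive V) := AddCommGroup.zmodModule h0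
  obtain ⟨W, hW1, hW2⟩ := exists_compl_aux (p := p) (Subgroup.toAddSubgroup U)
  refine ⟨AddSubgroup.toSubgroup' W, ?_, ?_⟩
  · rw [eq_bot_iff]
    rintro v ⟨hv1, hv2⟩
    rw [mem_bot]
    exact congrArg Additive.toMul (hW1 _ hv1 hv2)
  · rw [eq_top_iff]
    intro v _
    obtain ⟨u, hu, w, hw, huw⟩ := hW2 (Additive.ofMul v)
    have h2 : v = Additive.toMul u * Additive.toMul w := by
      rw [← toMul_add, huw]
      rfl
    rw [h2]
    exact mul_mem (mem_sup_left hu) (mem_sup_right hw)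

/-- invariant complements in `Ω₁(S)` -/
theorem exists_invariant_compl (S : Sylow p G) (hS : IsMulCommutative (S : Subgroup G)) (B : Subgroup G)
    (hB : B ≤ om p (S : Subgroup G) hS)
    (hinv : ∀ n ∈ normalizer ((S : Subgroup G) : Set G), ∀ b ∈ B, n * b * n⁻¹ ∈ B) :
    ∃ B2 : Subgroup G, B2 ≤ om p (S : Subgroup G) hS ∧
      (∀ n ∈ normalizer ((S : Subgroup G) : Set G), ∀ b ∈ B2, n * b * n⁻¹ ∈ B2) ∧
      B ⊓ B2 = ⊥ ∧ B ⊔ B2 = om p (S : Subgroup G) hS := by
  classical
  set N := normalizer ((S : Subgroup G) : Set G) with hN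
  set E := om p (S : Subgroup G) hS with hE
  have hES : E ≤ (S : Subgroup G) := fun x hx => hx.1
  have hEc : IsMulCommutative E := isMulCommutative_of fun a ha b hb => comm_of hS (hES ha) (hES hb)
  have hEp : ∀ v : E, v ^ p = 1 := fun v => Subtype.ext v.2.2
  -- a `p`-complement of `N`
  have hSN : (S : Subgroup G) ≤ N := le_normalizer
  have hnorm : ((S : Subgroup G).subgroupOf N).Normal := normal_subgroupOf_of_le_normalizer le_rfl
  have hcop : (Nat.card ((S : Subgroup G).subgroupOf N)).Coprime ((S : Subgroup G).subgroupOf N).index := by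
    have h1 : Nat.card ((S : Subgroup G).subgroupOf N) = Nat.card (S : Subgroup G) :=
      Nat.card_congr (subgroupOfEquivOfLe hSN).toEquiv
    rw [h1]
    have h2 : ((S : Subgroup G).subgroupOf N).index ∣ (S : Subgroup G).index := relIndex_dvd_index_of_le hSN
    exact (Sylow.card_coprime_index S).coprime_dvd_right h2
  obtain ⟨K, hK⟩ := Subgroup.exists_right_complement'_of_coprime hcop
  set A := K.map N.subtype with hA
  have hAN : A ≤ N := map_subtype_le K
  have hAcop : (Nat.card A).Coprime (Nat.card E) := by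
    have h1 : Nat.card A = Nat.card K := (Nat.card_congr (K.equivMapOfInjective N.subtype N.subtype_injective).toEquiv).symm
    have h2 : Nat.card K = ((S : Subgroup G).subgroupOf N).index := hK.card_right
    have h3 : Nat.card E ∣ Nat.card ((S : Subgroup G).subgroupOf N) := by
      rw [Nat.card_congr (subgroupOfEquivOfLe hSN).toEquiv]
      exact card_dvd_of_le hES
    rw [h1, h2]
    exact (hcop.coprime_dvd_left h3).symm
  have hNE : ∀ n ∈ N, ∀ b ∈ E, n * b * n⁻¹ ∈ E := by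
    intro n hn b hb
    refine ⟨(mem_normalizer_iff.1 hn b).1 hb.1, ?_⟩
    rw [conj_pow', hb.2, mul_one, mul_inv_cancel]
  have hto : ∀ (D : Subgroup G), (∀ n ∈ N, ∀ b ∈ D, n * b * n⁻¹ ∈ D) → N ≤ normalizer (D : Set G) := by
    intro D hD n hn
    rw [mem_normalizer_iff]
    intro b
    constructor
    · exact hD n hn b
    · intro hb
      have := hD n⁻¹ (inv_mem hn) _ hb
      have h4 : n⁻¹ * (n * b * n⁻¹) * n⁻¹⁻¹ = b := by group
      rwa [h4] at this
  -- a complement
  obtain ⟨W, hW1, hW2⟩ : ∃ W : Subgroup G, W ≤ E ∧ B ⊓ W = ⊥ ∧ B ⊔ W = E := by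
    let _ : CommGroup E := { (inferInstance : Group E) with mul_comm := hEc.is_comm.comm }
    obtain ⟨W, hW1, hW2⟩ := exists_compl_elem (p := p) hEp (B.subgroupOf E)
    refine ⟨W.map E.subtype, map_subtype_le W, ?_, ?_⟩
    · rw [eq_bot_iff]
      rintro x ⟨hx1, w, hw, rfl⟩
      have h1 : w ∈ B.subgroupOf E ⊓ W := ⟨hx1, hw⟩
      rw [hW1, mem_bot] at h1
      rw [h1]
      exact one_mem _
    · have h1 : (B.subgroupOf E ⊔ W).map E.subtype = (⊤ : Subgroup E).map E.subtype := by rw [hW2]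
      rw [Subgroup.map_sup, subgroupOf_map_subtype, inf_eq_left.2 hB, ← MonoidHom.range_eq_map, range_subtype] at h1
      exact h1
  obtain ⟨B2, hB2E, hB2A, hB2a, hB2b⟩ := S0660.result E A B hEc (hAN.trans (hto E hNE)) hAcop hB
    (hAN.trans (hto B hinv)) W hW1 hW2.1 hW2.2
  refine ⟨B2, hB2E, ?_, hB2a, hB2b⟩
  intro n hn b hb
  -- `n = s a`
  have h1 : (⟨n, hn⟩ : N) ∈ (S : Subgroup G).subgroupOf N ⊔ K := by
    rw [hK.sup_eq_top]
    trivial
  rw [Subgroup.mem_sup_of_normal_left] at h1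
  obtain ⟨s, hs, a, ha, hsa⟩ := h1
  have h2 : n = (s : G) * (a : G) := congrArg Subtype.val hsa.symm
  have h3 : (a : G) * b * (a : G)⁻¹ ∈ B2 := (mem_normalizer_iff.1 (hB2A ⟨a, ha, rfl⟩) b).1 hb
  have h4 : (s : G) * ((a : G) * b * (a : G)⁻¹) = ((a : G) * b * (a : G)⁻¹) * s :=
    comm_of hS hs (hES (hB2E h3))
  have h5 : n * b * n⁻¹ = (s : G) * ((a : G) * b * (a : G)⁻¹) * (s : G)⁻¹ := by
    rw [h2, mul_inv_rev]
    group
  rw [h5, h4, mul_inv_cancel_right]
  exact h3

/-- `AbIrr` passes to groups containing a subgroup of index prime to `p` with this property. -/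
theorem AbIrr.of_subgroup {H : Subgroup G} (hH : ¬ p ∣ H.index) (h : AbIrr p H) : AbIrr p G := by
  intro S hS B hBS hB hinv
  obtain ⟨P, hP⟩ := Transfer.AbelianHall.exists_sylow_le p H hH
  obtain ⟨g, hg⟩ := MulAction.exists_smul_eq G S P
  -- `x ↦ g x g⁻¹` maps `S` onto `P`
  have hSP : ∀ x : G, x ∈ (S : Subgroup G) ↔ g * x * g⁻¹ ∈ (P : Subgroup G) := by
    intro x
    rw [← hg, Sylow.coe_subgroup_smul, Subgroup.mem_pointwise_smul_iff_inv_smul_mem, ← map_inv, MulAut.smul_def,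
      MulAut.conj_apply]
    have : g⁻¹ * (g * x * g⁻¹) * g⁻¹⁻¹ = x := by group
    rw [this]
  have hPc : IsMulCommutative ((P.subtype hP : Sylow p H) : Subgroup H) := by
    refine isMulCommutative_of fun a ha b hb => Subtype.ext ?_
    have ha' : (a : G) ∈ (P : Subgroup G) := ha
    have hb' : (b : G) ∈ (P : Subgroup G) := hb
    have e : ∀ z : G, g * (g⁻¹ * z * g) * g⁻¹ = z := fun z => by group
    have h1 := comm_of hS (a := g⁻¹ * a * g) (b := g⁻¹ * b * g) ((hSP _).2 (by rw [e]; exact ha'))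
      ((hSP _).2 (by rw [e]; exact hb'))
    have h2 : g⁻¹ * ((a : G) * b) * g = g⁻¹ * ((b : G) * a) * g := by
      calc g⁻¹ * ((a : G) * b) * g = (g⁻¹ * a * g) * (g⁻¹ * b * g) := by group
        _ = (g⁻¹ * b * g) * (g⁻¹ * a * g) := h1
        _ = g⁻¹ * ((b : G) * a) * g := by group
    exact mul_left_cancel (mul_right_cancel h2)
  let B' : Subgroup H := (B.map (MulAut.conj g).toMonoidHom).subgroupOf H
  have hB' : ∀ x : H, x ∈ B' ↔ g⁻¹ * (x : G) * g ∈ B := by
    intro x
    constructor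
    · rintro ⟨b, hb, hbx⟩
      have h1 : g * b * g⁻¹ = (x : G) := hbx
      rw [← h1]
      have : g⁻¹ * (g * b * g⁻¹) * g = b := by group
      rw [this]
      exact hb
    · intro hx
      refine ⟨_, hx, ?_⟩
      change g * (g⁻¹ * (x : G) * g) * g⁻¹ = x
      group
  rcases h (P.subtype hP) hPc B' (fun x hx => (by
      have h1 := (hSP _).1 (hBS ((hB' x).1 hx))
      have : g * (g⁻¹ * (x : G) * g) * g⁻¹ = x := by group
      rw [this] at h1
      exact h1 : x ∈ ((P.subtype hP : Sylow p H) : Subgroup H)))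
    (fun x hx => Subtype.ext (by
      have h1 := hB _ ((hB' x).1 hx)
      have h2 : (g⁻¹ * (x : G) * g) ^ p = g⁻¹ * (x : G) ^ p * g := by
        have := conj_pow' g⁻¹ (x : G) p
        rwa [inv_inv] at this
      rw [h2] at h1
      have h3 : (x : G) ^ p = g * (g⁻¹ * (x : G) ^ p * g) * g⁻¹ := by group
      rw [h1, mul_one, mul_inv_cancel] at h3
      exact h3))
    (fun n hn x hx => by
      rw [hB'] at hx ⊢
      have hn' : g⁻¹ * (n : G) * g ∈ normalizer ((S : Subgroup G) : Set G) := by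
        have hnP : ∀ m : H, m ∈ normalizer (((P.subtype hP : Sylow p H) : Subgroup H) : Set H) → ∀ s ∈ (S : Subgroup G),
            (g⁻¹ * (m : G) * g) * s * (g⁻¹ * (m : G) * g)⁻¹ ∈ (S : Subgroup G) := by
          intro m hm s hs
          have h1 := (hSP s).1 hs
          have h2 := (mem_normalizer_iff.1 hm ⟨g * s * g⁻¹, hP h1⟩).1 h1
          rw [hSP]
          have h3 : g * ((g⁻¹ * (m : G) * g) * s * (g⁻¹ * (m : G) * g)⁻¹) * g⁻¹ = (m : G) * (g * s * g⁻¹) * (m : G)⁻¹ := by
            group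
          rw [h3]
          exact h2
        rw [mem_normalizer_iff]
        intro s
        refine ⟨hnP n hn s, fun hs => ?_⟩
        have h1 := hnP n⁻¹ (inv_mem hn) _ hs
        have h2 : (g⁻¹ * ((n⁻¹ : H) : G) * g) * ((g⁻¹ * (n : G) * g) * s * (g⁻¹ * (n : G) * g)⁻¹) *
            (g⁻¹ * ((n⁻¹ : H) : G) * g)⁻¹ = s := by
          push_cast
          group
        rwa [h2] at h1
      have h1 := hinv _ hn' _ hx
      have h2 : g⁻¹ * ((n * x * n⁻¹ : H) : G) * g = (g⁻¹ * (n : G) * g) * (g⁻¹ * (x : G) * g) * (g⁻¹ * (n : G) * g)⁻¹ := by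
        push_cast
        group
      rw [h2]
      exact h1) with h1 | h1
  · left
    rw [eq_bot_iff]
    intro b hb
    have h2 : g * b * g⁻¹ ∈ H := hP ((hSP b).1 (hBS hb))
    have h3 : (⟨g * b * g⁻¹, h2⟩ : H) ∈ B' := by
      rw [hB']
      have : g⁻¹ * (g * b * g⁻¹) * g = b := by group
      change g⁻¹ * (g * b * g⁻¹) * g ∈ B
      rw [this]
      exact hb
    rw [h1, mem_bot] at h3
    have h4 : g * b * g⁻¹ = 1 := congrArg Subtype.val h3
    rw [mem_bot]
    calc b = g⁻¹ * (g * b * g⁻¹) * g := by group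
      _ = 1 := by rw [h4]; group
  · right
    intro x hx hxp
    have h2 : g * x * g⁻¹ ∈ (P : Subgroup G) := (hSP x).1 hx
    have h3 := h1 ⟨g * x * g⁻¹, hP h2⟩ h2 (Subtype.ext (by
      change (g * x * g⁻¹) ^ p = 1
      rw [conj_pow', hxp, mul_one, mul_inv_cancel]))
    rw [hB'] at h3
    have : g⁻¹ * (g * x * g⁻¹) * g = x := by group
    change g⁻¹ * (g * x * g⁻¹) * g ∈ B at h3
    rwa [this] at h3

/-- `AbIrr` passes to quotients by `p'`-groups. -/
theorem AbIrr.of_surjective {G' : Type v} [Group G'] [Finite G'] (f : G →* G') (hf : Function.Surjective f)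
    (hker : ¬ p ∣ Nat.card f.ker) (h : AbIrr p G) : AbIrr p G' := by
  intro S hS B hBS hB hinv
  -- a Sylow subgroup over `S`
  obtain ⟨P, hP⟩ : ∃ P : Sylow p G, ∀ x ∈ (P : Subgroup G), f x ∈ (S : Subgroup G') := by
    let P0 : Sylow p G := default
    obtain ⟨T, hT⟩ := (P0.2.map f).exists_le_sylow
    obtain ⟨g', hg'⟩ := MulAction.exists_smul_eq G' T S
    obtain ⟨g, rfl⟩ := hf g'
    refine ⟨g • P0, fun x hx => ?_⟩
    rw [Sylow.coe_subgroup_smul, Subgroup.mem_pointwise_smul_iff_inv_smul_mem, ← map_inv, MulAut.smul_def,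
      MulAut.conj_apply, inv_inv] at hx
    rw [← hg', Sylow.coe_subgroup_smul, Subgroup.mem_pointwise_smul_iff_inv_smul_mem, ← map_inv, MulAut.smul_def,
      MulAut.conj_apply, inv_inv, ← map_inv, ← map_mul, ← map_mul]
    exact hT ⟨_, hx, rfl⟩
  have hinj : ∀ x ∈ (P : Subgroup G), f x = 1 → x = 1 := by
    intro x hx hfx
    obtain ⟨k, hk⟩ := P.2 ⟨x, hx⟩
    have hk' : x ^ p ^ k = 1 := congrArg Subtype.val hk
    have h1 : x ^ Nat.card f.ker = 1 := by
      have := pow_card_eq_one' (x := (⟨x, hfx⟩ : f.ker))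
      exact congrArg Subtype.val this
    have h2 : x ^ Nat.gcd (Nat.card f.ker) (p ^ k) = 1 := pow_gcd_eq_one.2 ⟨h1, hk'⟩
    have h3 : Nat.gcd (Nat.card f.ker) (p ^ k) = 1 :=
      Nat.Coprime.pow_right k ((Nat.Prime.coprime_iff_not_dvd hp.out).2 hker).symm
    rwa [h3, pow_one] at h2
  have hsurj : ∀ y ∈ (S : Subgroup G'), ∃ x ∈ (P : Subgroup G), f x = y := by
    have h1 : (P : Subgroup G).map f ≤ (S : Subgroup G') := by
      rintro _ ⟨x, hx, rfl⟩
      exact hP x hx
    have h2 : (P : Subgroup G).map f = (S : Subgroup G') := by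
      refine Subgroup.eq_of_le_of_card_ge h1 ?_
      have hcard : Nat.card (P.map f) = Nat.card P := by
        have hi : Function.Injective (f.comp (P : Subgroup G).subtype) := by
          rw [injective_iff_map_eq_one]
          intro x hx
          exact Subtype.ext (hinj x x.2 hx)
        have h3 : (P : Subgroup G).map f = (f.comp (P : Subgroup G).subtype).range := by
          rw [MonoidHom.range_comp, range_subtype]
        change Nat.card ((P : Subgroup G).map f) = _
        rw [h3]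
        exact (Nat.card_congr (MonoidHom.ofInjective hi).toEquiv).symm
      have h4 : Nat.card (S : Subgroup G') ∣ Nat.card (P : Subgroup G) := by
        rw [P.card_eq_multiplicity, S.card_eq_multiplicity]
        refine pow_dvd_pow p ?_
        exact (Nat.factorization_le_iff_dvd Nat.card_pos.ne' Nat.card_pos.ne').2
          (Subgroup.card_dvd_of_surjective f hf) p
      have h5 : Nat.card ((P : Subgroup G).map f) = Nat.card (P : Subgroup G) := hcard
      rw [h5]
      exact Nat.le_of_dvd Nat.card_pos h4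
    intro y hy
    rw [← h2] at hy
    exact hy
  have hPc : IsMulCommutative (P : Subgroup G) := isMulCommutative_of fun a ha b hb => by
    have h1 : f (a * b * (b * a)⁻¹) = 1 := by
      rw [map_mul, map_inv, map_mul, map_mul, comm_of hS (hP a ha) (hP b hb), mul_inv_cancel]
    exact mul_inv_eq_one.1 (hinj _ (mul_mem (mul_mem ha hb) (inv_mem (mul_mem hb ha))) h1)
  rcases h P hPc (B.comap f ⊓ (P : Subgroup G)) inf_le_right (fun b hb => hinj _ (pow_mem hb.2 p) (by
      rw [map_pow]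
      exact hB _ hb.1))
    (fun n hn b hb => ⟨by
      change f (n * b * n⁻¹) ∈ B
      rw [map_mul, map_mul, map_inv]
      refine hinv (f n) ?_ (f b) hb.1
      have hn' : ∀ m ∈ normalizer ((P : Subgroup G) : Set G), ∀ s ∈ (S : Subgroup G'),
          f m * s * (f m)⁻¹ ∈ (S : Subgroup G') := by
        intro m hm s hs
        obtain ⟨x, hx, rfl⟩ := hsurj s hs
        rw [← map_mul, ← map_inv, ← map_mul]
        exact hP _ ((mem_normalizer_iff.1 hm x).1 hx)
      rw [mem_normalizer_iff]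
      intro s
      refine ⟨hn' n hn s, fun hs => ?_⟩
      have h1 := hn' n⁻¹ (inv_mem hn) _ hs
      have h2 : f n⁻¹ * (f n * s * (f n)⁻¹) * (f n⁻¹)⁻¹ = s := by
        rw [map_inv]
        group
      rwa [h2] at h1, (mem_normalizer_iff.1 hn b).1 hb.2⟩) with h1 | h1
  · left
    rw [eq_bot_iff]
    intro b hb
    obtain ⟨x, hx, rfl⟩ := hsurj b (hBS hb)
    have h2 : x ∈ B.comap f ⊓ (P : Subgroup G) := ⟨hb, hx⟩
    rw [h1, mem_bot] at h2
    rw [h2, map_one]
    exact one_mem _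
  · right
    intro y hy hyp
    obtain ⟨x, hx, rfl⟩ := hsurj y hy
    exact (h1 x hx (hinj _ (pow_mem hx p) (by rw [map_pow, hyp]))).1

/-- If all subgroups of order `p` of `G` are conjugate then `AbIrr p G`. -/
theorem abIrr_of_conj (h : ∀ x y : G, orderOf x = p → orderOf y = p → ∃ g : G, g * x * g⁻¹ ∈ zpowers y) :
    AbIrr p G := by
  intro S hS B hBS hB hinv
  by_cases hB0 : B = ⊥
  · exact Or.inl hB0
  right
  obtain ⟨b, hb, hb1⟩ : ∃ b ∈ B, b ≠ 1 := by
    by_contra hcon
    push Not at hcon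
    exact hB0 ((eq_bot_iff_forall B).2 hcon)
  intro x hx hxp
  by_cases hx1 : x = 1
  · rw [hx1]
    exact one_mem _
  have ho : ∀ z : G, z ^ p = 1 → z ≠ 1 → orderOf z = p := fun z h1 h2 => orderOf_eq_prime h1 h2
  obtain ⟨g, hg⟩ := h b x (ho b (hB b hb) hb1) (ho x hxp hx1)
  have hxS : zpowers x ≤ (S : Subgroup G) := by rwa [zpowers_le]
  obtain ⟨n, hn, hn2⟩ := Sylow.conj_eq_normalizer_conj_of_mem S b g⁻¹ (hBS hb) (by
    rw [inv_inv]
    exact hxS hg)
  rw [inv_inv] at hn2
  have h1 : g * b * g⁻¹ ∈ B := by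
    rw [hn2]
    have := hinv n⁻¹ (inv_mem hn) b hb
    rwa [inv_inv] at this
  -- `x` is a power of `g b g⁻¹`
  have h2 : zpowers (g * b * g⁻¹) = zpowers x := by
    refine Subgroup.eq_of_le_of_card_ge ?_ ?_
    · rwa [zpowers_le]
    · rw [Nat.card_zpowers, Nat.card_zpowers, ho x hxp hx1]
      refine (ho _ ?_ ?_).ge
      · rw [conj_pow', hB b hb, mul_one, mul_inv_cancel]
      · intro h3
        apply hb1
        have : b = g⁻¹ * (g * b * g⁻¹) * g := by group
        rw [this, h3]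
        group
  have h3 : zpowers (g * b * g⁻¹) ≤ B := by rwa [zpowers_le]
  rw [h2] at h3
  exact h3 (mem_zpowers x)

end

end Cfsg.Agent.H795
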