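import Mathlib
import Cfsg.Agent.H795.AbSyl

/-!
# The hyperplane criterion for irreducibility on `Ω₁(S)`, and the core of S5304

`S` an abelian Sylow `p`-subgroup of the finite group `G`, `E = om p S = Ω₁(S)`.

* `Hyp p S hS H` : `H` is `E` or a hyperplane of `E` (quotient of order dividing `p`);
* `Refl p H` : `C_G(H)` contains a `p`-element `x` and an element `c` such that `c x c⁻¹ ≠ x` commutes with `x`;
* `irr_of_hyperplanes` : hyperplanes `R i` with trivial intersection, all with `Refl`, connected by the relation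
  `∃ H, Hyp H, Refl H, H ∩ R i = H ∩ R j`, imply that `N_G(S)` is irreducible on `E`;
* `hyp_ker` : kernels of homomorphisms `E → Z_p`;
* `NormOm p G` : `C_G(Ω₁(S)) ≤ N_G(S)` for abelian Sylow `p`-subgroups; `NormOm.normalizer_eq` is S5304;
* `not_refl` : `C_G(Ω₁(S))` has no reflection data (it is `p`-nilpotent).
-/

set_option autoImplicit false

namespace Cfsg.Agent.H795

open Subgroup

universe u v

/-- `H` is a subgroup of `Ω₁(S)` such that `Ω₁(S) / H` is cyclic (of order dividing `p`). -/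
def Hyp {G : Type*} [Group G] (p : ℕ) (S : Subgroup G) (hS : IsMulCommutative S) (H : Subgroup G) : Prop :=
  ∀ a ∈ om p S hS, a ∉ H → ∀ b ∈ om p S hS, ∃ k : ℤ, b * a ^ k ∈ H

/-- reflection data in `C_G(H)` -/
def Refl {G : Type*} [Group G] (p : ℕ) (H : Subgroup G) : Prop :=
  ∃ x c : G, (∀ h ∈ H, h * x = x * h) ∧ (∀ h ∈ H, h * c = c * h) ∧ (∃ k : ℕ, x ^ p ^ k = 1) ∧
    x * (c * x * c⁻¹) = (c * x * c⁻¹) * x ∧ c * x * c⁻¹ ≠ x

/-- the inverting form of reflection data, `p` odd -/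
theorem Refl.of_inv {G : Type*} [Group G] {p : ℕ} (hp : p.Prime) (hp2 : p ≠ 2) {H : Subgroup G} {x c : G}
    (hx : ∀ h ∈ H, h * x = x * h) (hc : ∀ h ∈ H, h * c = c * h) {k : ℕ} (hxp : x ^ p ^ k = 1) (hx1 : x ≠ 1)
    (hinv : c * x * c⁻¹ = x⁻¹) : Refl p H := by
  refine ⟨x, c, hx, hc, ⟨k, hxp⟩, ?_, ?_⟩
  · rw [hinv, mul_inv_cancel, inv_mul_cancel]
  · rw [hinv]
    intro h1
    apply hx1
    have h2 : x ^ 2 = 1 := by
      rw [pow_two]
      nth_rewrite 1 [← h1]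
      exact inv_mul_cancel x
    have h3 : x ^ Nat.gcd 2 (p ^ k) = 1 := pow_gcd_eq_one.2 ⟨h2, hxp⟩
    have h4 : Nat.gcd 2 (p ^ k) = 1 :=
      Nat.Coprime.pow_right k ((Nat.coprime_primes Nat.prime_two hp).2 (Ne.symm hp2))
    rwa [h4, pow_one] at h3

theorem Refl.mono {G : Type*} [Group G] {p : ℕ} {H K : Subgroup G} (h : Refl p K) (hHK : H ≤ K) : Refl p H := by
  obtain ⟨x, c, h1, h2, h3⟩ := h
  exact ⟨x, c, fun y hy => h1 y (hHK hy), fun y hy => h2 y (hHK hy), h3⟩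

/-- kernels of homomorphisms of `Ω₁(S)` into groups of order `p` are hyperplanes -/
theorem hyp_ker {G : Type*} [Group G] {p : ℕ} [hp : Fact p.Prime] {S : Subgroup G} {hS : IsMulCommutative S}
    {A : Type*} [Group A] (hA : Nat.card A = p) (f : ↥(om p S hS) →* A) :
    Hyp p S hS (f.ker.map (om p S hS).subtype) := by
  intro a ha haH b hb
  have h1 : f ⟨a, ha⟩ ≠ 1 := fun h => haH ⟨⟨a, ha⟩, h, rfl⟩
  have h2 : f ⟨b, hb⟩⁻¹ ∈ zpowers (f ⟨a, ha⟩) := mem_zpowers_of_prime_card hA h1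
  obtain ⟨k, hk⟩ := mem_zpowers_iff.1 h2
  refine ⟨k, ⟨⟨b, hb⟩ * ⟨a, ha⟩ ^ k, ?_, rfl⟩⟩
  change f (⟨b, hb⟩ * ⟨a, ha⟩ ^ k) = 1
  rw [map_mul, map_zpow, hk, map_inv, mul_inv_cancel]

theorem mem_ker_map {G : Type*} [Group G] {K : Subgroup G} {A : Type*} [Group A] (f : ↥K →* A) {x : G} :
    x ∈ f.ker.map K.subtype ↔ ∃ h : x ∈ K, f ⟨x, h⟩ = 1 := by
  constructor
  · rintro ⟨y, hy, rfl⟩
    exact ⟨y.2, hy⟩
  · rintro ⟨h, h1⟩
    exact ⟨⟨x, h⟩, h1, rfl⟩

section

variable {G : Type*} [Group G] [Finite G] {p : ℕ} [hp : Fact p.Prime]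

/-- **The hyperplane criterion.** -/
theorem irr_of_hyperplanes (S : Sylow p G) (hS : IsMulCommutative (S : Subgroup G)) {ι : Type*} (R : ι → Subgroup G)
    (hle : ∀ i, R i ≤ (S : Subgroup G)) (hR : ∀ i, Hyp p (S : Subgroup G) hS (R i))
    (hne : ∀ i, ¬ om p (S : Subgroup G) hS ≤ R i) (hr : ∀ i, Refl p (R i))
    (hinf : ∀ e ∈ om p (S : Subgroup G) hS, (∀ i, e ∈ R i) → e = 1)
    (hadj : ∀ i j, Relation.ReflTransGen (fun i j => ∃ H : Subgroup G, H ≤ (S : Subgroup G) ∧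
      Hyp p (S : Subgroup G) hS H ∧ Refl p H ∧ H ⊓ R i = H ⊓ R j) i j)
    (B : Subgroup G) (hBS : B ≤ (S : Subgroup G)) (hB : ∀ b ∈ B, b ^ p = 1)
    (hinv : ∀ n ∈ normalizer ((S : Subgroup G) : Set G), ∀ b ∈ B, n * b * n⁻¹ ∈ B) :
    B = ⊥ ∨ ∀ x ∈ (S : Subgroup G), x ^ p = 1 → x ∈ B := by
  have hBE : B ≤ om p (S : Subgroup G) hS := fun b hb => ⟨hBS hb, hB b hb⟩
  obtain ⟨B2, hB2E, hB2inv, hBB, hsup⟩ := exists_invariant_compl S hS B hBE hinv
  -- the alternative for hyperplanes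
  have alt : ∀ H : Subgroup G, H ≤ (S : Subgroup G) → Hyp p (S : Subgroup G) hS H → Refl p H → B ≤ H ∨ B2 ≤ H := by
    rintro H hHS hH ⟨x, c, hx, hc, ⟨k, hk⟩, hcomm, hne⟩
    obtain ⟨n, hn, hnH, hns⟩ := exists_reflection S hS H hHS hx hc hk hcomm hne
    exact le_or_le S hS B B2 H hBE hB2E hinv hB2inv hBB hH hn hnH hns
  by_cases h1 : ∀ i, B ≤ R i
  · left
    rw [eq_bot_iff]
    intro b hb
    exact (mem_bot).2 (hinf b (hBE hb) fun i => h1 i hb)
  by_cases h2 : ∀ i, B2 ≤ R i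
  · right
    have h3 : B2 = ⊥ := by
      rw [eq_bot_iff]
      intro b hb
      exact (mem_bot).2 (hinf b (hB2E hb) fun i => h2 i hb)
    rw [h3, sup_bot_eq] at hsup
    intro x hx hxp
    rw [hsup]
    exact ⟨hx, hxp⟩
  exfalso
  push Not at h1 h2
  obtain ⟨i, hi⟩ := h1
  obtain ⟨j, hj⟩ := h2
  have hi2 : B2 ≤ R i := (alt (R i) (hle i) (hR i) (hr i)).resolve_left hi
  have hj1 : B ≤ R j := (alt (R j) (hle j) (hR j) (hr j)).resolve_right hj
  -- along the path, `B2 ≤ R k`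
  have key : ∀ k, Relation.ReflTransGen (fun i j => ∃ H : Subgroup G, H ≤ (S : Subgroup G) ∧
      Hyp p (S : Subgroup G) hS H ∧ Refl p H ∧ H ⊓ R i = H ⊓ R j) i k → B2 ≤ R k ∧ ¬ B ≤ R k := by
    intro k hk
    induction hk with
    | refl => exact ⟨hi2, hi⟩
    | tail _ hst ih =>
      rename_i k l _
      obtain ⟨H, hHS, hH, hrH, hkl⟩ := hst
      have notboth : ¬ (B ≤ R l ∧ B2 ≤ R l) := fun h => hne l (by rw [← hsup]; exact sup_le h.1 h.2)
      rcases alt H hHS hH hrH with h3 | h3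
      · -- `B ≤ H`
        have h4 : ¬ B ≤ R l := by
          intro h5
          apply ih.2
          have h6 : B ≤ H ⊓ R l := le_inf h3 h5
          rw [← hkl] at h6
          exact h6.trans inf_le_right
        exact ⟨(alt (R l) (hle l) (hR l) (hr l)).resolve_left h4, h4⟩
      · have h4 : B2 ≤ R l := by
          have h6 : B2 ≤ H ⊓ R k := le_inf h3 ih.1
          rw [hkl] at h6
          exact h6.trans inf_le_right
        exact ⟨h4, fun h5 => notboth ⟨h5, h4⟩⟩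
  exact hj (key j (hadj i j)).1

/-- `C_G(Ω₁(S))` has no reflection data. -/
theorem not_refl (S : Sylow p G) (hS : IsMulCommutative (S : Subgroup G)) : ¬ Refl p (om p (S : Subgroup G) hS) := by
  rintro ⟨x, c, hx, hc, ⟨k, hk⟩, hcomm, hne⟩
  obtain ⟨n, -, hnH, s, hs, hsp, hsn⟩ := exists_reflection S hS (om p (S : Subgroup G) hS) (fun y hy => hy.1) hx hc hk
    hcomm hne
  exact hsn (hnH s ⟨hs, hsp⟩)

/-- a `p`-element of `C_G(Ω₁(S))` commuting with a conjugate of itself under `C_G(Ω₁(S))` is equal to it -/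
theorem eq_of_commute (S : Sylow p G) (hS : IsMulCommutative (S : Subgroup G)) {x c : G}
    (hx : ∀ h ∈ om p (S : Subgroup G) hS, h * x = x * h) (hc : ∀ h ∈ om p (S : Subgroup G) hS, h * c = c * h) {k : ℕ}
    (hk : x ^ p ^ k = 1) (hcomm : x * (c * x * c⁻¹) = (c * x * c⁻¹) * x) : c * x * c⁻¹ = x := by
  by_contra hne
  exact not_refl S hS ⟨x, c, hx, hc, ⟨k, hk⟩, hcomm, hne⟩

end

/-- `C_G(Ω₁(S)) ≤ N_G(S)` for all abelian Sylow `p`-subgroups `S`. -/
def NormOm (p : ℕ) (G : Type*) [Group G] : Prop :=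
  ∀ S : Sylow p G, ∀ _ : IsMulCommutative (S : Subgroup G), ∀ c : G,
    (∀ x ∈ (S : Subgroup G), x ^ p = 1 → c * x * c⁻¹ = x) → c ∈ normalizer ((S : Subgroup G) : Set G)

/-- **S5304 from `NormOm`.** -/
theorem NormOm.normalizer_eq {G : Type*} [Group G] [Finite G] {p : ℕ} [hp : Fact p.Prime] (h : NormOm p G)
    (S : Sylow p G) (hab : IsMulCommutative (S : Subgroup G)) (Ω : Subgroup G)
    (hΩ : ∀ x : G, x ∈ Ω ↔ x ∈ (S : Subgroup G) ∧ x ^ p = 1) :
    normalizer (Ω : Set G) = normalizer ((S : Subgroup G) : Set G) := by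
  set C := centralizer (Ω : Set G) with hC
  have hSC : (S : Subgroup G) ≤ C := by
    intro s hs
    rw [hC, mem_centralizer_iff]
    intro w hw
    exact comm_of hab ((hΩ w).1 hw).1 hs
  have hCN : C ≤ normalizer ((S : Subgroup G) : Set G) := by
    intro c hc
    refine h S hab c fun x hx hxp => ?_
    rw [← mem_centralizer_iff.1 hc x ((hΩ x).2 ⟨hx, hxp⟩), mul_inv_cancel_right]
  apply le_antisymm
  · intro n hn
    -- `n S n⁻¹` is a Sylow subgroup of `C`, which normalises `S`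
    have h1 : ((n • S : Sylow p G) : Subgroup G) ≤ C := by
      intro y hy
      rw [Sylow.coe_subgroup_smul, Subgroup.mem_pointwise_smul_iff_inv_smul_mem, ← map_inv, MulAut.smul_def,
        MulAut.conj_apply, inv_inv] at hy
      rw [hC, mem_centralizer_iff]
      intro w hw
      have h2 : n⁻¹ * w * n ∈ Ω := by
        have := (mem_normalizer_iff.1 (inv_mem hn) w).1 hw
        rwa [inv_inv] at this
      have h3 := mem_centralizer_iff.1 (hSC hy) _ h2
      calc w * y = n * ((n⁻¹ * w * n) * (n⁻¹ * y * n)) * n⁻¹ := by group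
        _ = n * ((n⁻¹ * y * n) * (n⁻¹ * w * n)) * n⁻¹ := by rw [h3]
        _ = y * w := by group
    have h2 : ((n • S : Sylow p G) : Subgroup G) ≤ normalizer ((S : Subgroup G) : Set G) := h1.trans hCN
    have h3 : ((n • S : Sylow p G) : Subgroup G) ≤ (S : Subgroup G) := by
      intro y hy
      obtain ⟨k, hk⟩ := (n • S : Sylow p G).2 ⟨y, hy⟩
      exact mem_sylow_of_normalizer S (congrArg Subtype.val hk : y ^ p ^ k = 1) (h2 hy)
    have h4 : ((n • S : Sylow p G) : Subgroup G) = (S : Subgroup G) := by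
      refine Subgroup.eq_of_le_of_card_ge h3 ?_
      rw [Sylow.card_eq_multiplicity, Sylow.card_eq_multiplicity]
    rw [mem_normalizer_iff_map_conj_eq]
    rw [Sylow.coe_subgroup_smul] at h4
    exact h4
  · intro n hn
    rw [mem_normalizer_iff]
    intro w
    rw [hΩ, hΩ]
    have h1 := mem_normalizer_iff.1 hn w
    constructor
    · rintro ⟨h2, h3⟩
      refine ⟨h1.1 h2, ?_⟩
      rw [conj_pow', h3, mul_one, mul_inv_cancel]
    · rintro ⟨h2, h3⟩
      refine ⟨h1.2 h2, ?_⟩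
      rw [conj_pow'] at h3
      have : w ^ p = n⁻¹ * (n * w ^ p * n⁻¹) * n := by group
      rw [this, h3]
      group

end Cfsg.Agent.H795
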