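import Cfsg.Agent.H795.SetTor
import Cfsg.Agent.H129.WData

/-!
# Elements of order 5 and 7 of the Weyl groups of type E

`tors_of_data`; the data for `E₆` (5), `E₇` (5, 7), `E₈` (7).
-/

set_option autoImplicit false
set_option linter.unusedSectionVars false

namespace Cfsg.Agent.H795.TorsData

open CoxeterSystem Cfsg Cfsg.Lie Cfsg.Lie.ChevalleyDatum
open Cfsg.Agent.ChevalleyStructure Cfsg.Agent.ChevalleyStructure.CoxeterGeom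
  Cfsg.Agent.ChevalleyStructure.CoxeterGeomTypes Cfsg.Agent.ChevalleyStructure.NPerm
open Cfsg.Agent.Tits.Roots Cfsg.Agent.Tits.Core Cfsg.Agent.Nodes Cfsg.Agent.Nodes.Reps
  Cfsg.Agent.Nodes.RGDChev
open Cfsg.Agent.H129.WData Cfsg.Agent.H129.TorusChar Cfsg.Agent.H795.SetTor

/-- the first matrix of a list -/
def hdm {l : ℕ} : List (Mat l) → Mat l
  | [] => fun j m => if j = m then 1 else 0
  | U :: _ => U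

/-- a list of powers of the matrix `Th` -/
def PowOK {l : ℕ} (Th : Mat l) : List (Mat l) → Prop
  | [] => True
  | P :: L => (∀ j m, P j m = ∑ n, hdm L j n * Th n m) ∧ PowOK Th L

instance decPowOK {l : ℕ} (Th : Mat l) : ∀ L : List (Mat l), Decidable (PowOK Th L)
  | [] => isTrue trivial
  | P :: L =>
    have := decPowOK Th L
    inferInstanceAs (Decidable ((∀ j m, P j m = ∑ n, hdm L j n * Th n m) ∧ PowOK Th L))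

section

variable {D : ChevalleyDatum} {l : ℕ} {M : CoxeterMatrix (Fin l)} (hp : IsType D l M)
  {W : Type*} [Group W] (cs : CoxeterSystem M W)

theorem rep_of_sr {w : W} {Th : Mat l} (h : ∀ j, rep cs hp.isCartan w (sr j) = Th j) (x : Fin l → ℤ) (m : Fin l) :
    rep cs hp.isCartan w x m = ∑ n, x n * Th n m := by
  conv_lhs => rw [IsMC.eq_sum_sr x]
  rw [map_sum, Finset.sum_apply]
  refine Finset.sum_congr rfl fun j _ => ?_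
  rw [map_zsmul, Pi.smul_apply, smul_eq_mul, h j]

theorem pow_rep {w : W} {Th : Mat l} (h : ∀ j, rep cs hp.isCartan w (sr j) = Th j) {L : List (Mat l)}
    (hL : PowOK Th L) (j : Fin l) : rep cs hp.isCartan (w ^ L.length) (sr j) = hdm L j := by
  induction L with
  | nil =>
    rw [List.length_nil, pow_zero, map_one, Module.End.one_apply]
    funext m
    show (sr j : Fin l → ℤ) m = if j = m then 1 else 0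
    by_cases hm : j = m
    · subst hm; rw [if_pos rfl, sr_self]
    · rw [if_neg hm, sr_ne (Ne.symm hm)]
  | cons P L ih =>
    obtain ⟨h1, h2⟩ := hL
    rw [List.length_cons, pow_succ', rep_mul_apply, ih h2]
    funext m
    rw [rep_of_sr hp cs h]
    exact (h1 j m).symm

theorem tors_of_data [Finite W] {A : Mat l} (hA : ∀ i j, A i j = cartanOf D l i j) {C : List (Fin l × Mat l)}
    (hC : ChainOK A C) {q : ℕ} (hq : q.Prime) {P : List (Mat l)} (hP : PowOK (hd C) P) (hlen : P.length = q)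
    (h1 : ∀ j m, hdm P j m = if j = m then 1 else 0) (hne : ∃ j m, hd C j m ≠ if j = m then 1 else 0)
    {x : Fin l → Fin l → ℤ}
    (hx : ∀ j ∈ C.map Prod.fst, ∀ m, ∑ n, x j n * hd C n m - x j m = if m = j then 1 else 0)
    (hW : ¬ q ^ 2 ∣ Nat.card W) : Tors cs hp.isCartan q := by
  have hrep := chain_rep hp cs hA hC
  have hid : ∀ j m : Fin l, (sr j : Fin l → ℤ) m = if j = m then 1 else 0 := by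
    intro j m
    by_cases hm : j = m
    · subst hm; rw [if_pos rfl, sr_self]
    · rw [if_neg hm, sr_ne (Ne.symm hm)]
  refine tors_of_cert hq hW (C.map Prod.fst) _ rfl ?_ ?_
  · have hfq : Fact q.Prime := ⟨hq⟩
    refine orderOf_eq_prime ?_ ?_
    · apply rep_injective cs hp.isCartan
      rw [map_one]
      apply LinearMap.ext
      intro y
      funext m
      rw [← hlen, rep_of_sr hp cs (Th := hdm P) (pow_rep hp cs hrep hP) y m, Module.End.one_apply]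
      simp only [h1]
      simp
    · intro h2
      obtain ⟨j, m, hjm⟩ := hne
      apply hjm
      rw [← hrep j, h2, map_one, Module.End.one_apply, hid]
  · intro j hj
    refine ⟨x j, ?_⟩
    funext m
    rw [Pi.sub_apply, rep_of_sr hp cs hrep, hx j hj m, hid]
    by_cases h : j = m
    · rw [if_pos h, if_pos h.symm]
    · rw [if_neg h, if_neg (Ne.symm h)]

end

namespace E6q5

/-- the Cartan matrix -/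
def Am : Mat 6 := ![![2, 0, -1, 0, 0, 0], ![0, 2, 0, -1, 0, 0], ![-1, 0, 2, -1, 0, 0], ![0, -1, -1, 2, -1, 0], ![0, 0, 0, -1, 2, -1], ![0, 0, 0, 0, -1, 2]]

/-- the partial products -/
def chain : List (Fin 6 × Mat 6) := [
    (0, ![![0, 0, 1, 0, 0, 0], ![1, 1, 1, 1, 0, 0], ![0, 0, 0, 1, 0, 0], ![0, 0, 0, 0, 1, 0], ![-1, 0, -1, -1, -1, 0], ![1, 0, 1, 1, 1, 1]]),
    (2, ![![1, 0, 1, 0, 0, 0], ![0, 1, 1, 1, 0, 0], ![0, 0, 0, 1, 0, 0], ![0, 0, 0, 0, 1, 0], ![0, 0, -1, -1, -1, 0], ![0, 0, 1, 1, 1, 1]]),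
    (3, ![![1, 0, 0, 0, 0, 0], ![0, 1, 0, 1, 0, 0], ![0, 0, 1, 1, 0, 0], ![0, 0, 0, 0, 1, 0], ![0, 0, 0, -1, -1, 0], ![0, 0, 0, 1, 1, 1]]),
    (4, ![![1, 0, 0, 0, 0, 0], ![0, 1, 0, 0, 0, 0], ![0, 0, 1, 0, 0, 0], ![0, 0, 0, 1, 1, 0], ![0, 0, 0, 0, -1, 0], ![0, 0, 0, 0, 1, 1]])]

/-- the powers -/
def pw : List (Mat 6) := [
    ![![1, 0, 0, 0, 0, 0], ![0, 1, 0, 0, 0, 0], ![0, 0, 1, 0, 0, 0], ![0, 0, 0, 1, 0, 0], ![0, 0, 0, 0, 1, 0], ![0, 0, 0, 0, 0, 1]],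
    ![![-1, 0, -1, -1, -1, 0], ![0, 1, 0, 1, 1, 0], ![1, 0, 0, 0, 0, 0], ![0, 0, 1, 0, 0, 0], ![0, 0, 0, 1, 0, 0], ![0, 0, 0, 0, 1, 1]],
    ![![0, 0, 0, 0, 1, 0], ![0, 1, 1, 2, 1, 0], ![-1, 0, -1, -1, -1, 0], ![1, 0, 0, 0, 0, 0], ![0, 0, 1, 0, 0, 0], ![0, 0, 0, 1, 1, 1]],
    ![![0, 0, 0, 1, 0, 0], ![1, 1, 2, 2, 1, 0], ![0, 0, 0, 0, 1, 0], ![-1, 0, -1, -1, -1, 0], ![1, 0, 0, 0, 0, 0], ![0, 0, 1, 1, 1, 1]],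
    ![![0, 0, 1, 0, 0, 0], ![1, 1, 1, 1, 0, 0], ![0, 0, 0, 1, 0, 0], ![0, 0, 0, 0, 1, 0], ![-1, 0, -1, -1, -1, 0], ![1, 0, 1, 1, 1, 1]]]

/-- the solutions -/
def xs : Mat 6 := ![![0, 2, 1, 2, 1, 0], ![0, 0, 0, 0, 0, 0], ![1, 2, 1, 2, 1, 0], ![1, 2, 2, 2, 1, 0], ![1, 2, 2, 3, 1, 0], ![0, 0, 0, 0, 0, 0]]

theorem hA : ∀ i j, Am i j = cartanOf chevE6 6 i j := by decide +kernel
theorem chainOK : ChainOK Am chain := by decide +kernel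
theorem powOK : PowOK (hd chain) pw := by decide +kernel
theorem oneOK : ∀ j m, hdm pw j m = if j = m then 1 else 0 := by decide +kernel
theorem neOK : ∃ j m, hd chain j m ≠ if j = m then 1 else 0 := by decide +kernel
theorem xOK : ∀ j ∈ chain.map Prod.fst, ∀ m, ∑ n, xs j n * hd chain n m - xs j m = if m = j then 1 else 0 := by
  decide +kernel

end E6q5

namespace E7q5

/-- the Cartan matrix -/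
def Am : Mat 7 := ![![2, 0, -1, 0, 0, 0, 0], ![0, 2, 0, -1, 0, 0, 0], ![-1, 0, 2, -1, 0, 0, 0], ![0, -1, -1, 2, -1, 0, 0], ![0, 0, 0, -1, 2, -1, 0], ![0, 0, 0, 0, -1, 2, -1], ![0, 0, 0, 0, 0, -1, 2]]

/-- the partial products -/
def chain : List (Fin 7 × Mat 7) := [
    (0, ![![0, 0, 1, 0, 0, 0, 0], ![1, 1, 1, 1, 0, 0, 0], ![0, 0, 0, 1, 0, 0, 0], ![0, 0, 0, 0, 1, 0, 0], ![-1, 0, -1, -1, -1, 0, 0], ![1, 0, 1, 1, 1, 1, 0], ![0, 0, 0, 0, 0, 0, 1]]),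
    (2, ![![1, 0, 1, 0, 0, 0, 0], ![0, 1, 1, 1, 0, 0, 0], ![0, 0, 0, 1, 0, 0, 0], ![0, 0, 0, 0, 1, 0, 0], ![0, 0, -1, -1, -1, 0, 0], ![0, 0, 1, 1, 1, 1, 0], ![0, 0, 0, 0, 0, 0, 1]]),
    (3, ![![1, 0, 0, 0, 0, 0, 0], ![0, 1, 0, 1, 0, 0, 0], ![0, 0, 1, 1, 0, 0, 0], ![0, 0, 0, 0, 1, 0, 0], ![0, 0, 0, -1, -1, 0, 0], ![0, 0, 0, 1, 1, 1, 0], ![0, 0, 0, 0, 0, 0, 1]]),
    (4, ![![1, 0, 0, 0, 0, 0, 0], ![0, 1, 0, 0, 0, 0, 0], ![0, 0, 1, 0, 0, 0, 0], ![0, 0, 0, 1, 1, 0, 0], ![0, 0, 0, 0, -1, 0, 0], ![0, 0, 0, 0, 1, 1, 0], ![0, 0, 0, 0, 0, 0, 1]])]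

/-- the powers -/
def pw : List (Mat 7) := [
    ![![1, 0, 0, 0, 0, 0, 0], ![0, 1, 0, 0, 0, 0, 0], ![0, 0, 1, 0, 0, 0, 0], ![0, 0, 0, 1, 0, 0, 0], ![0, 0, 0, 0, 1, 0, 0], ![0, 0, 0, 0, 0, 1, 0], ![0, 0, 0, 0, 0, 0, 1]],
    ![![-1, 0, -1, -1, -1, 0, 0], ![0, 1, 0, 1, 1, 0, 0], ![1, 0, 0, 0, 0, 0, 0], ![0, 0, 1, 0, 0, 0, 0], ![0, 0, 0, 1, 0, 0, 0], ![0, 0, 0, 0, 1, 1, 0], ![0, 0, 0, 0, 0, 0, 1]],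
    ![![0, 0, 0, 0, 1, 0, 0], ![0, 1, 1, 2, 1, 0, 0], ![-1, 0, -1, -1, -1, 0, 0], ![1, 0, 0, 0, 0, 0, 0], ![0, 0, 1, 0, 0, 0, 0], ![0, 0, 0, 1, 1, 1, 0], ![0, 0, 0, 0, 0, 0, 1]],
    ![![0, 0, 0, 1, 0, 0, 0], ![1, 1, 2, 2, 1, 0, 0], ![0, 0, 0, 0, 1, 0, 0], ![-1, 0, -1, -1, -1, 0, 0], ![1, 0, 0, 0, 0, 0, 0], ![0, 0, 1, 1, 1, 1, 0], ![0, 0, 0, 0, 0, 0, 1]],
    ![![0, 0, 1, 0, 0, 0, 0], ![1, 1, 1, 1, 0, 0, 0], ![0, 0, 0, 1, 0, 0, 0], ![0, 0, 0, 0, 1, 0, 0], ![-1, 0, -1, -1, -1, 0, 0], ![1, 0, 1, 1, 1, 1, 0], ![0, 0, 0, 0, 0, 0, 1]]]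

/-- the solutions -/
def xs : Mat 7 := ![![0, 2, 1, 2, 1, 0, 0], ![0, 0, 0, 0, 0, 0, 0], ![1, 2, 1, 2, 1, 0, 0], ![1, 2, 2, 2, 1, 0, 0], ![1, 2, 2, 3, 1, 0, 0], ![0, 0, 0, 0, 0, 0, 0], ![0, 0, 0, 0, 0, 0, 0]]

theorem hA : ∀ i j, Am i j = cartanOf chevE7 7 i j := by decide +kernel
theorem chainOK : ChainOK Am chain := by decide +kernel
theorem powOK : PowOK (hd chain) pw := by decide +kernel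
theorem oneOK : ∀ j m, hdm pw j m = if j = m then 1 else 0 := by decide +kernel
theorem neOK : ∃ j m, hd chain j m ≠ if j = m then 1 else 0 := by decide +kernel
theorem xOK : ∀ j ∈ chain.map Prod.fst, ∀ m, ∑ n, xs j n * hd chain n m - xs j m = if m = j then 1 else 0 := by
  decide +kernel

end E7q5

namespace E7q7

/-- the Cartan matrix -/
def Am : Mat 7 := ![![2, 0, -1, 0, 0, 0, 0], ![0, 2, 0, -1, 0, 0, 0], ![-1, 0, 2, -1, 0, 0, 0], ![0, -1, -1, 2, -1, 0, 0], ![0, 0, 0, -1, 2, -1, 0], ![0, 0, 0, 0, -1, 2, -1], ![0, 0, 0, 0, 0, -1, 2]]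

/-- the partial products -/
def chain : List (Fin 7 × Mat 7) := [
    (0, ![![0, 0, 1, 0, 0, 0, 0], ![1, 1, 1, 1, 0, 0, 0], ![0, 0, 0, 1, 0, 0, 0], ![0, 0, 0, 0, 1, 0, 0], ![0, 0, 0, 0, 0, 1, 0], ![0, 0, 0, 0, 0, 0, 1], ![-1, 0, -1, -1, -1, -1, -1]]),
    (2, ![![1, 0, 1, 0, 0, 0, 0], ![0, 1, 1, 1, 0, 0, 0], ![0, 0, 0, 1, 0, 0, 0], ![0, 0, 0, 0, 1, 0, 0], ![0, 0, 0, 0, 0, 1, 0], ![0, 0, 0, 0, 0, 0, 1], ![0, 0, -1, -1, -1, -1, -1]]),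
    (3, ![![1, 0, 0, 0, 0, 0, 0], ![0, 1, 0, 1, 0, 0, 0], ![0, 0, 1, 1, 0, 0, 0], ![0, 0, 0, 0, 1, 0, 0], ![0, 0, 0, 0, 0, 1, 0], ![0, 0, 0, 0, 0, 0, 1], ![0, 0, 0, -1, -1, -1, -1]]),
    (4, ![![1, 0, 0, 0, 0, 0, 0], ![0, 1, 0, 0, 0, 0, 0], ![0, 0, 1, 0, 0, 0, 0], ![0, 0, 0, 1, 1, 0, 0], ![0, 0, 0, 0, 0, 1, 0], ![0, 0, 0, 0, 0, 0, 1], ![0, 0, 0, 0, -1, -1, -1]]),
    (5, ![![1, 0, 0, 0, 0, 0, 0], ![0, 1, 0, 0, 0, 0, 0], ![0, 0, 1, 0, 0, 0, 0], ![0, 0, 0, 1, 0, 0, 0], ![0, 0, 0, 0, 1, 1, 0], ![0, 0, 0, 0, 0, 0, 1], ![0, 0, 0, 0, 0, -1, -1]]),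
    (6, ![![1, 0, 0, 0, 0, 0, 0], ![0, 1, 0, 0, 0, 0, 0], ![0, 0, 1, 0, 0, 0, 0], ![0, 0, 0, 1, 0, 0, 0], ![0, 0, 0, 0, 1, 0, 0], ![0, 0, 0, 0, 0, 1, 1], ![0, 0, 0, 0, 0, 0, -1]])]

/-- the powers -/
def pw : List (Mat 7) := [
    ![![1, 0, 0, 0, 0, 0, 0], ![0, 1, 0, 0, 0, 0, 0], ![0, 0, 1, 0, 0, 0, 0], ![0, 0, 0, 1, 0, 0, 0], ![0, 0, 0, 0, 1, 0, 0], ![0, 0, 0, 0, 0, 1, 0], ![0, 0, 0, 0, 0, 0, 1]],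
    ![![-1, 0, -1, -1, -1, -1, -1], ![0, 1, 0, 1, 1, 1, 1], ![1, 0, 0, 0, 0, 0, 0], ![0, 0, 1, 0, 0, 0, 0], ![0, 0, 0, 1, 0, 0, 0], ![0, 0, 0, 0, 1, 0, 0], ![0, 0, 0, 0, 0, 1, 0]],
    ![![0, 0, 0, 0, 0, 0, 1], ![0, 1, 1, 2, 2, 2, 1], ![-1, 0, -1, -1, -1, -1, -1], ![1, 0, 0, 0, 0, 0, 0], ![0, 0, 1, 0, 0, 0, 0], ![0, 0, 0, 1, 0, 0, 0], ![0, 0, 0, 0, 1, 0, 0]],
    ![![0, 0, 0, 0, 0, 1, 0], ![1, 1, 2, 3, 3, 2, 1], ![0, 0, 0, 0, 0, 0, 1], ![-1, 0, -1, -1, -1, -1, -1], ![1, 0, 0, 0, 0, 0, 0], ![0, 0, 1, 0, 0, 0, 0], ![0, 0, 0, 1, 0, 0, 0]],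
    ![![0, 0, 0, 0, 1, 0, 0], ![1, 1, 2, 3, 2, 1, 0], ![0, 0, 0, 0, 0, 1, 0], ![0, 0, 0, 0, 0, 0, 1], ![-1, 0, -1, -1, -1, -1, -1], ![1, 0, 0, 0, 0, 0, 0], ![0, 0, 1, 0, 0, 0, 0]],
    ![![0, 0, 0, 1, 0, 0, 0], ![1, 1, 2, 2, 1, 0, 0], ![0, 0, 0, 0, 1, 0, 0], ![0, 0, 0, 0, 0, 1, 0], ![0, 0, 0, 0, 0, 0, 1], ![-1, 0, -1, -1, -1, -1, -1], ![1, 0, 0, 0, 0, 0, 0]],
    ![![0, 0, 1, 0, 0, 0, 0], ![1, 1, 1, 1, 0, 0, 0], ![0, 0, 0, 1, 0, 0, 0], ![0, 0, 0, 0, 1, 0, 0], ![0, 0, 0, 0, 0, 1, 0], ![0, 0, 0, 0, 0, 0, 1], ![-1, 0, -1, -1, -1, -1, -1]]]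

/-- the solutions -/
def xs : Mat 7 := ![![-2, -2, -3, -4, -3, -2, -1], ![0, 0, 0, 0, 0, 0, 0], ![-1, -2, -3, -4, -3, -2, -1], ![-1, -2, -2, -4, -3, -2, -1], ![-1, -2, -2, -3, -3, -2, -1], ![-1, -2, -2, -3, -2, -2, -1], ![-1, -2, -2, -3, -2, -1, -1]]

theorem hA : ∀ i j, Am i j = cartanOf chevE7 7 i j := by decide +kernel
theorem chainOK : ChainOK Am chain := by decide +kernel
theorem powOK : PowOK (hd chain) pw := by decide +kernel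
theorem oneOK : ∀ j m, hdm pw j m = if j = m then 1 else 0 := by decide +kernel
theorem neOK : ∃ j m, hd chain j m ≠ if j = m then 1 else 0 := by decide +kernel
theorem xOK : ∀ j ∈ chain.map Prod.fst, ∀ m, ∑ n, xs j n * hd chain n m - xs j m = if m = j then 1 else 0 := by
  decide +kernel

end E7q7

namespace E8q7

/-- the Cartan matrix -/
def Am : Mat 8 := ![![2, 0, -1, 0, 0, 0, 0, 0], ![0, 2, 0, -1, 0, 0, 0, 0], ![-1, 0, 2, -1, 0, 0, 0, 0], ![0, -1, -1, 2, -1, 0, 0, 0], ![0, 0, 0, -1, 2, -1, 0, 0], ![0, 0, 0, 0, -1, 2, -1, 0], ![0, 0, 0, 0, 0, -1, 2, -1], ![0, 0, 0, 0, 0, 0, -1, 2]]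

/-- the partial products -/
def chain : List (Fin 8 × Mat 8) := [
    (1, ![![1, 0, 0, 0, 0, 0, 0, 0], ![0, 0, 0, 1, 0, 0, 0, 0], ![0, 1, 1, 1, 0, 0, 0, 0], ![0, 0, 0, 0, 1, 0, 0, 0], ![0, 0, 0, 0, 0, 1, 0, 0], ![0, 0, 0, 0, 0, 0, 1, 0], ![0, 0, 0, 0, 0, 0, 0, 1], ![0, -1, 0, -1, -1, -1, -1, -1]]),
    (3, ![![1, 0, 0, 0, 0, 0, 0, 0], ![0, 1, 0, 1, 0, 0, 0, 0], ![0, 0, 1, 1, 0, 0, 0, 0], ![0, 0, 0, 0, 1, 0, 0, 0], ![0, 0, 0, 0, 0, 1, 0, 0], ![0, 0, 0, 0, 0, 0, 1, 0], ![0, 0, 0, 0, 0, 0, 0, 1], ![0, 0, 0, -1, -1, -1, -1, -1]]),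
    (4, ![![1, 0, 0, 0, 0, 0, 0, 0], ![0, 1, 0, 0, 0, 0, 0, 0], ![0, 0, 1, 0, 0, 0, 0, 0], ![0, 0, 0, 1, 1, 0, 0, 0], ![0, 0, 0, 0, 0, 1, 0, 0], ![0, 0, 0, 0, 0, 0, 1, 0], ![0, 0, 0, 0, 0, 0, 0, 1], ![0, 0, 0, 0, -1, -1, -1, -1]]),
    (5, ![![1, 0, 0, 0, 0, 0, 0, 0], ![0, 1, 0, 0, 0, 0, 0, 0], ![0, 0, 1, 0, 0, 0, 0, 0], ![0, 0, 0, 1, 0, 0, 0, 0], ![0, 0, 0, 0, 1, 1, 0, 0], ![0, 0, 0, 0, 0, 0, 1, 0], ![0, 0, 0, 0, 0, 0, 0, 1], ![0, 0, 0, 0, 0, -1, -1, -1]]),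
    (6, ![![1, 0, 0, 0, 0, 0, 0, 0], ![0, 1, 0, 0, 0, 0, 0, 0], ![0, 0, 1, 0, 0, 0, 0, 0], ![0, 0, 0, 1, 0, 0, 0, 0], ![0, 0, 0, 0, 1, 0, 0, 0], ![0, 0, 0, 0, 0, 1, 1, 0], ![0, 0, 0, 0, 0, 0, 0, 1], ![0, 0, 0, 0, 0, 0, -1, -1]]),
    (7, ![![1, 0, 0, 0, 0, 0, 0, 0], ![0, 1, 0, 0, 0, 0, 0, 0], ![0, 0, 1, 0, 0, 0, 0, 0], ![0, 0, 0, 1, 0, 0, 0, 0], ![0, 0, 0, 0, 1, 0, 0, 0], ![0, 0, 0, 0, 0, 1, 0, 0], ![0, 0, 0, 0, 0, 0, 1, 1], ![0, 0, 0, 0, 0, 0, 0, -1]])]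

/-- the powers -/
def pw : List (Mat 8) := [
    ![![1, 0, 0, 0, 0, 0, 0, 0], ![0, 1, 0, 0, 0, 0, 0, 0], ![0, 0, 1, 0, 0, 0, 0, 0], ![0, 0, 0, 1, 0, 0, 0, 0], ![0, 0, 0, 0, 1, 0, 0, 0], ![0, 0, 0, 0, 0, 1, 0, 0], ![0, 0, 0, 0, 0, 0, 1, 0], ![0, 0, 0, 0, 0, 0, 0, 1]],
    ![![1, 0, 0, 0, 0, 0, 0, 0], ![0, -1, 0, -1, -1, -1, -1, -1], ![0, 0, 1, 1, 1, 1, 1, 1], ![0, 1, 0, 0, 0, 0, 0, 0], ![0, 0, 0, 1, 0, 0, 0, 0], ![0, 0, 0, 0, 1, 0, 0, 0], ![0, 0, 0, 0, 0, 1, 0, 0], ![0, 0, 0, 0, 0, 0, 1, 0]],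
    ![![1, 0, 0, 0, 0, 0, 0, 0], ![0, 0, 0, 0, 0, 0, 0, 1], ![0, 1, 1, 2, 2, 2, 2, 1], ![0, -1, 0, -1, -1, -1, -1, -1], ![0, 1, 0, 0, 0, 0, 0, 0], ![0, 0, 0, 1, 0, 0, 0, 0], ![0, 0, 0, 0, 1, 0, 0, 0], ![0, 0, 0, 0, 0, 1, 0, 0]],
    ![![1, 0, 0, 0, 0, 0, 0, 0], ![0, 0, 0, 0, 0, 0, 1, 0], ![0, 1, 1, 2, 2, 2, 1, 0], ![0, 0, 0, 0, 0, 0, 0, 1], ![0, -1, 0, -1, -1, -1, -1, -1], ![0, 1, 0, 0, 0, 0, 0, 0], ![0, 0, 0, 1, 0, 0, 0, 0], ![0, 0, 0, 0, 1, 0, 0, 0]],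
    ![![1, 0, 0, 0, 0, 0, 0, 0], ![0, 0, 0, 0, 0, 1, 0, 0], ![0, 1, 1, 2, 2, 1, 0, 0], ![0, 0, 0, 0, 0, 0, 1, 0], ![0, 0, 0, 0, 0, 0, 0, 1], ![0, -1, 0, -1, -1, -1, -1, -1], ![0, 1, 0, 0, 0, 0, 0, 0], ![0, 0, 0, 1, 0, 0, 0, 0]],
    ![![1, 0, 0, 0, 0, 0, 0, 0], ![0, 0, 0, 0, 1, 0, 0, 0], ![0, 1, 1, 2, 1, 0, 0, 0], ![0, 0, 0, 0, 0, 1, 0, 0], ![0, 0, 0, 0, 0, 0, 1, 0], ![0, 0, 0, 0, 0, 0, 0, 1], ![0, -1, 0, -1, -1, -1, -1, -1], ![0, 1, 0, 0, 0, 0, 0, 0]],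
    ![![1, 0, 0, 0, 0, 0, 0, 0], ![0, 0, 0, 1, 0, 0, 0, 0], ![0, 1, 1, 1, 0, 0, 0, 0], ![0, 0, 0, 0, 1, 0, 0, 0], ![0, 0, 0, 0, 0, 1, 0, 0], ![0, 0, 0, 0, 0, 0, 1, 0], ![0, 0, 0, 0, 0, 0, 0, 1], ![0, -1, 0, -1, -1, -1, -1, -1]]]

/-- the solutions -/
def xs : Mat 8 := ![![0, 0, 0, 0, 0, 0, 0, 0], ![0, 2, 4, 5, 4, 3, 2, 1], ![0, 0, 0, 0, 0, 0, 0, 0], ![0, 3, 4, 5, 4, 3, 2, 1], ![0, 3, 4, 6, 4, 3, 2, 1], ![0, 3, 4, 6, 5, 3, 2, 1], ![0, 3, 4, 6, 5, 4, 2, 1], ![0, 3, 4, 6, 5, 4, 3, 1]]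

theorem hA : ∀ i j, Am i j = cartanOf chevE8 8 i j := by decide +kernel
theorem chainOK : ChainOK Am chain := by decide +kernel
theorem powOK : PowOK (hd chain) pw := by decide +kernel
theorem oneOK : ∀ j m, hdm pw j m = if j = m then 1 else 0 := by decide +kernel
theorem neOK : ∃ j m, hd chain j m ≠ if j = m then 1 else 0 := by decide +kernel
theorem xOK : ∀ j ∈ chain.map Prod.fst, ∀ m, ∑ n, xs j n * hd chain n m - xs j m = if m = j then 1 else 0 := by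
  decide +kernel

end E8q7

end Cfsg.Agent.H795.TorsData
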