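import Cfsg.Agent.H795.SplitThree
import Cfsg.Agent.H795.ExcRow
import Cfsg.Agent.H104.RowPSU

/-!
# `AbIrr` and `NormOm` for `PSL_n(q)`, `p ∣ q - 1`, and `PSU_n(q)`, `p ∣ q + 1`

* `psl_split`, `psu_split`.
-/

set_option autoImplicit false
set_option linter.unusedSectionVars false

namespace Cfsg.Agent.H795.Split

open Matrix Subgroup

variable {F : Type} [Field F] {n : ℕ} {p : ℕ} [hp : Fact p.Prime]

theorem row_of {H : Subgroup (SpecialLinearGroup (Fin n) F)} [Finite H] {G : Type*} [Group G] [Finite G]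
    (hp2 : p ≠ 2) (hH : HasMon p H) (hn : 0 < n) {a : F} (ha : a ^ p = 1) (ha1 : a ≠ 1) (f : H →* G)
    (hf : Function.Surjective f) (hker : ∀ z : H, f z = 1 ↔ ∃ c : F, mt H z = Matrix.scalar (Fin n) c)
    (h : n < p ∨ 4 ≤ n) : AbIrr p G ∧ NormOm p G := by
  by_cases hnp : n < p
  · exact small_proj hp2 hH hn hnp ha ha1 f hf hker
  · exact ExcRow.row_of_notAb (big_proj hp2 hH (by
      rcases h with h | h
      · exact absurd h hnp
      · exact h) (by omega) ha ha1 f hker)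

theorem dichotomy (hp2 : p ≠ 2) (hn : 2 ≤ n) : (n < p ∨ 4 ≤ n) ∨ (n = 3 ∧ p = 3) := by
  have := hp.out.two_le
  by_cases h1 : n < p ∨ 4 ≤ n
  · exact Or.inl h1
  · push Not at h1
    right
    have h2 : p = 3 ∨ p = 2 := by omega
    rcases h2 with h2 | h2
    · exact ⟨by omega, h2⟩
    · exact absurd h2 hp2

theorem hasMon_top : HasMon p (⊤ : Subgroup (SpecialLinearGroup (Fin n) F)) := fun _ _ h _ =>
  ⟨⟨⟨_, h⟩, mem_top _⟩, rfl⟩

/-- the Fourier matrix -/
def fou (t a : F) : Matrix (Fin 3) (Fin 3) F :=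
  !![t⁻¹, t⁻¹, t⁻¹; t⁻¹, t⁻¹ * a, t⁻¹ * a ^ 2; t⁻¹, t⁻¹ * a ^ 2, t⁻¹ * a]

theorem cube_facts {a : F} (ha : a ^ 3 = 1) (ha1 : a ≠ 1) :
    a ^ 2 + a + 1 = 0 ∧ (3 : F) ≠ 0 ∧ (a - a ^ 2) ≠ 0 ∧ (a - a ^ 2) ^ 2 = -3 := by
  have h1 : a ^ 2 + a + 1 = 0 := by
    have h1 : (a - 1) * (a ^ 2 + a + 1) = 0 := by linear_combination ha
    exact (mul_eq_zero.1 h1).resolve_left (sub_ne_zero.2 ha1)
  have h2 : (a - a ^ 2) ^ 2 = -3 := by linear_combination (-2 + a) * ha + h1
  have h3 : (3 : F) ≠ 0 := by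
    intro h
    apply ha1
    have h3 : (a - 1) ^ 2 = 0 := by linear_combination h1 - a * h
    exact sub_eq_zero.1 (pow_eq_zero_iff two_ne_zero |>.1 h3)
  refine ⟨h1, h3, ?_, h2⟩
  intro h
  rw [h] at h2
  apply h3
  linear_combination h2

theorem det_fou {a : F} (ha : a ^ 3 = 1) (ha1 : a ≠ 1) : (fou (a - a ^ 2) a).det = 1 := by
  obtain ⟨h1, h3, h0, h2⟩ := cube_facts ha ha1
  rw [fou, det_fin_three]
  generalize ht : a - a ^ 2 = t at h0 h2
  have hs : t * t⁻¹ = 1 := mul_inv_cancel₀ h0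
  generalize t⁻¹ = s at hs
  simp
  have h4 : s ^ 3 * t ^ 3 = 1 := by rw [← mul_pow, mul_comm, hs, one_pow]
  have h5 : t ^ 3 = 3 * (a ^ 2 - a) := by
    rw [pow_succ, h2, ← ht]
    ring
  rw [h5] at h4
  have ha4 : a ^ 4 = a := by rw [pow_succ, ha, one_mul]
  linear_combination h4 - s ^ 3 * ha4

variable [Fintype F]

/-- **`PSL_n(q)`, `p ∣ q - 1`.** -/
theorem psl_split (hp2 : p ≠ 2) (hq : p ∣ Fintype.card F - 1) (hn : 2 ≤ n) :
    AbIrr p (ProjectiveSpecialLinearGroup (Fin n) F) ∧ NormOm p (ProjectiveSpecialLinearGroup (Fin n) F) := by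
  obtain ⟨a, ha, ha1⟩ := H104.RowPSL.exists_root hq
  let f : (⊤ : Subgroup (SpecialLinearGroup (Fin n) F)) →* ProjectiveSpecialLinearGroup (Fin n) F :=
    (QuotientGroup.mk' (Subgroup.center (SpecialLinearGroup (Fin n) F))).comp
      (⊤ : Subgroup (SpecialLinearGroup (Fin n) F)).subtype
  have hf : Function.Surjective f := by
    intro y
    obtain ⟨x, rfl⟩ := QuotientGroup.mk'_surjective _ y
    exact ⟨⟨x, mem_top _⟩, rfl⟩
  have hker : ∀ z, f z = 1 ↔ ∃ c : F, mt ⊤ z = Matrix.scalar (Fin n) c := by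
    intro z
    change (QuotientGroup.mk' (Subgroup.center (SpecialLinearGroup (Fin n) F))
      (z : SpecialLinearGroup (Fin n) F) = 1) ↔ _
    rw [H104.RowPSL.mk_eq_one_iff]
    constructor
    · rintro ⟨c, -, h⟩
      exact ⟨c, h⟩
    · rintro ⟨c, h⟩
      refine ⟨c, ?_, h⟩
      have h1 := det_mt z
      rw [h] at h1
      simpa using h1
  rcases dichotomy (n := n) hp2 hn with h | ⟨rfl, h⟩
  · exact row_of hp2 hasMon_top (by omega) ha ha1 f hf hker h
  · subst h
    obtain ⟨h1, h3, -, -⟩ := cube_facts ha ha1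
    exact three hasMon_top a (a - a ^ 2) h1 rfl h3 ⟨⟨fou (a - a ^ 2) a, det_fou ha ha1⟩, mem_top _⟩ rfl f hf hker

theorem map_permMatrix (f : F →+* F) (σ : Equiv.Perm (Fin n)) :
    (σ.permMatrix F).map f = σ.permMatrix F := by
  ext i j
  rw [Matrix.map_apply, Equiv.Perm.permMatrix, PEquiv.toMatrix_apply]
  split_ifs
  · exact map_one f
  · exact map_zero f

theorem hasMon_su {q : ℕ} (hF : Fintype.card F = q ^ 2) (hq : p ∣ q + 1) : HasMon p (Cfsg.SU n F q) := by
  obtain ⟨hq0, f, hf⟩ := H104.RowPSU.exists_frobF hF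
  intro d σ h hd
  refine ⟨⟨⟨monM d σ, h⟩, ?_⟩, rfl⟩
  refine (H104.RowPSU.mem_SU_iff hf _).2 ?_
  change (monM d σ).transpose * (monM d σ).map f = 1
  have h1 : ∀ i, d i * f (d i) = 1 := by
    intro i
    rcases hd i with h2 | h2
    · rw [h2, map_neg, map_one]
      ring
    · rw [hf, ← pow_succ']
      obtain ⟨k, hk⟩ := hq
      rw [hk, pow_mul, h2, one_pow]
  rw [monM, Matrix.transpose_mul, Matrix.map_mul, diagonal_transpose, Matrix.diagonal_map (map_zero f), map_permMatrix,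
    mul_assoc, ← mul_assoc (diagonal d), diagonal_mul_diagonal]
  have h2 : (diagonal fun i => d i * (f ∘ d) i : Matrix (Fin n) (Fin n) F) = 1 := by
    rw [← diagonal_one]
    congr 1
    funext i
    exact h1 i
  have h3 : (diagonal fun i => d i * f (d i) : Matrix (Fin n) (Fin n) F) = 1 := h2
  simp only [Function.comp_def] at *
  rw [h3, one_mul, transpose_permMatrix, ← permMatrix_mul, mul_inv_cancel, permMatrix_one]

/-- **`PSU_n(q)`, `p ∣ q + 1`.** -/
theorem psu_split {q : ℕ} (hF : Fintype.card F = q ^ 2) (hp2 : p ≠ 2) (hq : p ∣ q + 1) (hn : 3 ≤ n) :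
    AbIrr p (Cfsg.PSU n F q) ∧ NormOm p (Cfsg.PSU n F q) := by
  obtain ⟨hq0, f, hf⟩ := H104.RowPSU.exists_frobF hF
  have hqF : p ∣ Fintype.card F - 1 := by
    rw [hF]
    have : q ^ 2 - 1 = (q + 1) * (q - 1) := by
      have := Nat.sq_sub_sq q 1
      simpa using this
    rw [this]
    exact Dvd.dvd.mul_right hq _
  obtain ⟨a, ha, ha1⟩ := H104.RowPSL.exists_root hqF
  have ha0 := ne_zero_of_pow ha
  have haq : a ^ (q + 1) = 1 := by
    obtain ⟨k, hk⟩ := hq
    rw [hk, pow_mul, ha, one_pow]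
  have hfa : f a = a⁻¹ := by
    rw [hf]
    exact eq_inv_of_mul_eq_one_left (by rw [← pow_succ]; exact haq)
  have : Finite (Cfsg.PSU n F q) := Quotient.finite _
  let π : Cfsg.SU n F q →* Cfsg.PSU n F q := QuotientGroup.mk' (Subgroup.center (Cfsg.SU n F q))
  have hπ : Function.Surjective π := QuotientGroup.mk'_surjective _
  have hker : ∀ z, π z = 1 ↔ ∃ c : F, mt (Cfsg.SU n F q) z = Matrix.scalar (Fin n) c := by
    intro z
    rw [H104.RowPSU.mk_eq_one_iff hF hn z]
    constructor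
    · rintro ⟨c, -, -, h⟩
      exact ⟨c, h⟩
    · rintro ⟨c, h⟩
      have h' : ((z : Matrix.SpecialLinearGroup (Fin n) F) : Matrix (Fin n) (Fin n) F) = Matrix.scalar (Fin n) c := h
      refine ⟨c, ?_, ?_, h⟩
      · have h1 := det_mt z
        rw [h] at h1
        simpa using h1
      · have h1 : ((z : Matrix.SpecialLinearGroup (Fin n) F) : Matrix (Fin n) (Fin n) F).transpose *
          ((z : Matrix.SpecialLinearGroup (Fin n) F) : Matrix (Fin n) (Fin n) F).map f = 1 :=
          (H104.RowPSU.mem_SU_iff hf _).1 z.2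
        rw [h', show Matrix.scalar (Fin n) c = diagonal fun _ => c from rfl, diagonal_transpose,
          Matrix.diagonal_map (map_zero f), diagonal_mul_diagonal] at h1
        have h2 := congrFun (congrFun h1 ⟨0, by omega⟩) ⟨0, by omega⟩
        rw [diagonal_apply_eq, one_apply_eq] at h2
        rw [pow_succ', ← hf]
        exact h2
  rcases dichotomy (n := n) hp2 (by omega) with h | ⟨rfl, h⟩
  · exact row_of hp2 (hasMon_su hF hq) (by omega) ha ha1 π hπ hker h
  · subst h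
    obtain ⟨h1, h3, h0, h2⟩ := cube_facts ha ha1
    have hfa2 : f a = a ^ 2 := by
      rw [hfa]
      exact inv_eq_of_mul_eq_one_right (by rw [← pow_succ']; exact ha)
    have hmem : (⟨fou (a - a ^ 2) a, det_fou ha ha1⟩ : SpecialLinearGroup (Fin 3) F) ∈ Cfsg.SU 3 F q := by
      refine (H104.RowPSU.mem_SU_iff hf _).2 ?_
      change (fou (a - a ^ 2) a).transpose * (fou (a - a ^ 2) a).map f = 1
      have ha4 : a ^ 4 = a := by rw [pow_succ, ha, one_mul]
      have hft : f (a - a ^ 2) = -(a - a ^ 2) := by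
        rw [map_sub, map_pow, hfa2, ← pow_mul, ha4]
        ring
      generalize ht : a - a ^ 2 = t at h0 h2 hft
      have hs : t * t⁻¹ = 1 := mul_inv_cancel₀ h0
      have hfs : f t⁻¹ = -t⁻¹ := by rw [map_inv₀, hft, inv_neg]
      unfold fou
      generalize t⁻¹ = s at hs hfs
      have hss : s * s * (-3) = 1 := by
        rw [← h2]
        linear_combination (s * t + 1) * hs
      ext i j
      fin_cases i <;> fin_cases j <;>
        simp [Matrix.mul_apply, Fin.sum_univ_three, hfs, hfa2]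
      all_goals first
        | linear_combination hss
        | linear_combination (-s * s) * h1
        | linear_combination (-s * s) * h1 - s * s * ha4
        | linear_combination (-s * s) * h1 - s * s * (a ^ 2 * ha + ha4)
        | linear_combination hss - s * s * (ha + (a ^ 3 + 1) * ha)
    exact three (hasMon_su hF hq) a (a - a ^ 2) h1 rfl h3 ⟨_, hmem⟩ rfl π hπ hker

end Cfsg.Agent.H795.Split
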