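import Cfsg.Agent.H795.RowsA
import Cfsg.Agent.H720.TwFr

/-!
# The rows `AbIrr` and `NormOm` for `³D₄(q)`, `²E₆(q)`, `p ≥ 5`, not the characteristic
-/

set_option autoImplicit false
set_option linter.unusedSectionVars false

namespace Cfsg.Agent.H795.Tw

open CoxeterSystem Cfsg Cfsg.Lie Cfsg.Lie.ChevalleyDatum
open Cfsg.Agent.ChevalleyStructure Cfsg.Agent.ChevalleyStructure.Elts Cfsg.Agent.ChevalleyStructure.CoxeterGeom
  Cfsg.Agent.ChevalleyStructure.CoxeterGeomTypes Cfsg.Agent.ChevalleyStructure.NPerm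
open Cfsg.Agent.Tits.Roots Cfsg.Agent.Tits.Core Cfsg.Agent.Nodes Cfsg.Agent.Nodes.Reps Cfsg.Agent.Nodes.BNOf
  Cfsg.Agent.Nodes.RGDChev Cfsg.Agent.Nodes.Bruhat
open Cfsg.Agent.KFacts.RgdField Cfsg.Agent.KFacts.RgdChevCoord Cfsg.Agent.BpExc.TorCent Cfsg.Agent.BpExc.TorChev
open Cfsg.Agent.GpExc.Field Cfsg.Agent.BpExc.Tow Cfsg.Agent.BpExc.TowChev Cfsg.Agent.BpExc.Fr
  Cfsg.Agent.BpExc.LangFr Cfsg.Agent.H795.SetCent Cfsg.Agent.H795.Toral Cfsg.Agent.H795.Core
  Cfsg.Agent.H795.RootConn Cfsg.Agent.H795.SetTor Cfsg.Agent.H129.TorusChar Cfsg.Agent.H795.Untw Cfsg.Agent.H795.RowsA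
  Cfsg.Agent.BpExc Cfsg.Agent.H720.TwFr

universe u

/-- finiteness of the fixed points from a splitting -/
theorem finite_of_split {Y G : Type*} [Group Y] [Group G] [Finite G] {σ : MulAut Y} {f : G →* Y} {T : Subgroup Y}
    (hf : ∀ x, σ (f x) = f x) (hT : Finite {t : Y // t ∈ T ∧ σ t = t})
    (hsplit : ∀ y, σ y = y → ∃ (x : G) (t : Y), t ∈ T ∧ y = f x * t) : Finite {y : Y // σ y = y} := by
  have h : ∀ y : {y : Y // σ y = y}, ∃ z : G × {t : Y // t ∈ T ∧ σ t = t}, f z.1 * z.2.1 = y.1 := by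
    rintro ⟨y, hy⟩
    obtain ⟨x, t, ht, rfl⟩ := hsplit y hy
    rw [map_mul, hf] at hy
    exact ⟨⟨x, ⟨t, ht, mul_left_cancel hy⟩⟩, rfl⟩
  choose g hg using h
  exact Finite.of_injective g fun a b hab => Subtype.ext (by rw [← hg a, ← hg b, hab])

section

variable {K : Type u} [Field K] [Fintype K] {q : ℕ} {k : Type u} [Field k] [IsAlgClosed k] (f : K →+* k)
  (r : ℕ) [Fact r.Prime] [CharP k r]

theorem setup_six {n : ℕ} (hk : LocFin k) (hn0 : 0 < n) (hn : q = r ^ n) (hK : Fintype.card K = q ^ 2) {p : ℕ}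
    [hpp : Fact p.Prime] (hp3 : p ≠ 3) :
    Setup hp6 p r n (em6 q f) (sig6 k r n) (permE rho6) where
  inj := FamTw.Six.em_injective f
  e_pos := hn0
  frob := isFrob_sig6 r n
  fr := fr_sig6 hk r hp6 _ n
  fix := em6_fix f r hn0 hn hK
  norm := by
    intro y hy x
    have hrp : r.Prime := Fact.out
    have hq : IsPrimePow q := (isPrimePow_nat_iff _).2 ⟨r, n, hrp, hn0, hn.symm⟩
    have hφ : ∀ t : k, iterateFrobenius k r n t = t ^ q := fun t => by rw [iterateFrobenius_def, hn]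
    have h1 := EmbInst.twE6_normalizer (f := f) hq hK hφ y.2 (by rw [← coe_sig6, hy])
    obtain ⟨b, hb, e⟩ := (Subgroup.mem_normalizer_iff.1 h1 (glMap chevE6 f x)).1 ⟨x, x.2, rfl⟩
    exact ⟨⟨b, hb⟩, Subtype.ext e⟩
  p_mem := by
    rintro y hy ⟨j, hj⟩
    have h1 := desc6 f r hk hn0 hn hK hy
    refine mem_of_pow_mem (Nat.Coprime.pow_right j ?_) hj h1
    refine Nat.Coprime.coprime_dvd_left (Nat.gcd_dvd_left 3 (q + 1)) ?_
    exact (Nat.coprime_primes Nat.prime_three hpp.out).2 (Ne.symm hp3)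
  r_mem := by
    rintro y hy ⟨j, hj⟩
    have h1 := desc6 f r hk hn0 hn hK hy
    refine mem_of_pow_mem (Nat.Coprime.pow_right j ?_) hj h1
    have hrp : r.Prime := Fact.out
    refine Nat.Coprime.coprime_dvd_left (Nat.gcd_dvd_right 3 (q + 1)) ?_
    rw [hn]
    have h2 : Nat.Coprime (r ^ n) (r ^ n + 1) := by
      rw [Nat.coprime_self_add_right]
      exact Nat.coprime_one_right _
    exact (Nat.Coprime.coprime_dvd_left (dvd_pow_self r hn0.ne') h2).symm
  fin := by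
    have hrp : r.Prime := Fact.out
    have hq : IsPrimePow q := (isPrimePow_nat_iff _).2 ⟨r, n, hrp, hn0, hn.symm⟩
    have hφ : ∀ t : k, iterateFrobenius k r n t = t ^ q := fun t => by rw [iterateFrobenius_def, hn]
    have cs := CoxeterMatrix.E₆.toCoxeterSystem
    obtain ⟨hfin, -⟩ := card_fixT hp6 cs hn0 (isFrob_sig6 (k := k) r n) (fr_sig6 hk r hp6 cs n) (m := 4)
      ![1, 3, 0, 2] ![1, 1, 2, 2] (by decide) (by
        intro a
        fin_cases a <;> · funext i; fin_cases i <;> rfl) (by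
        intro i
        fin_cases i
        · exact ⟨2, 0, rfl⟩
        · exact ⟨0, 0, rfl⟩
        · exact ⟨3, 0, rfl⟩
        · exact ⟨1, 0, rfl⟩
        · exact ⟨3, 1, by funext i; fin_cases i <;> rfl⟩
        · exact ⟨2, 1, by funext i; fin_cases i <;> rfl⟩)
    have hG : Finite ↥(twistedE6 K q) := inferInstance
    refine finite_of_split (T := TT chevE6 k) (em6_fix f r hn0 hn hK) ?_ ?_
    · exact hfin
    · intro y hy
      obtain ⟨x, hx, t, ht, e⟩ := EmbInst.twE6_split (f := f) hq hK hφ y.2 (by rw [← coe_sig6, hy])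
      exact ⟨⟨x, hx⟩, ⟨t, diagonal_le_group hp6.inList k ht⟩, ht, Subtype.ext e⟩

theorem setup_four {n : ℕ} (h : twistedD4 K q ≤ chevD4.group K) (hk : LocFin k) (hn0 : 0 < n) (hn : q = r ^ n)
    (hK : Fintype.card K = q ^ 3) {p : ℕ} :
    Setup hp4 p r n (em4 f h) (sig4 k r n) (permE rho4) where
  inj := em4_injective f h
  e_pos := hn0
  frob := isFrob_sig4 r n
  fr := fr_sig4 hk r hp4 _ n
  fix := em4_fix f r h hn0 hn hK
  norm := by
    intro y hy x
    have hrp : r.Prime := Fact.out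
    have hq : IsPrimePow q := (isPrimePow_nat_iff _).2 ⟨r, n, hrp, hn0, hn.symm⟩
    have hφ : ∀ t : k, iterateFrobenius k r n t = t ^ q := fun t => by rw [iterateFrobenius_def, hn]
    have h1 := EmbInst.twD4_normalizer (f := f) hq hK hφ y.2 (by rw [← coe_sig4, hy])
    obtain ⟨b, hb, e⟩ := (Subgroup.mem_normalizer_iff.1 h1 (glMap chevD4 f x)).1 ⟨x, x.2, rfl⟩
    exact ⟨⟨b, hb⟩, Subtype.ext e⟩
  p_mem := by
    rintro y hy -
    exact desc4 f r h hk hn0 hn hK hy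
  r_mem := by
    rintro y hy -
    exact desc4 f r h hk hn0 hn hK hy
  fin := by
    have hG : Finite ↥(twistedD4 K q) := inferInstance
    have h1 : ∀ y : {y : ↥(chevD4.group k) // sig4 k r n y = y}, ∃ x, em4 f h x = y.1 :=
      fun y => desc4 f r h hk hn0 hn hK y.2
    choose g hg using h1
    exact Finite.of_injective g fun a b hab => Subtype.ext (by rw [← hg a, ← hg b, hab])

end

section

variable {K : Type u} [Field K] [Fintype K] {q : ℕ} {p : ℕ} [hpp : Fact p.Prime]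

/-- the data of the closure -/
theorem exists_closure_q {d : ℕ} (_ : d ≠ 0) (hq : IsPrimePow q) (hK : Fintype.card K = q ^ d) :
    ∃ (r n : ℕ) (_ : Fact r.Prime) (_ : CharP K r) (_ : CharP (AlgebraicClosure K) r), 0 < n ∧ q = r ^ n ∧
      LocFin (AlgebraicClosure K) := by
  obtain ⟨r, e, hr, hrF, hrk, he, hq', hk⟩ := H129.TorusUntw.exists_closure (F := K) rfl
  obtain ⟨s, n, hs, hn, hsq⟩ := (isPrimePow_nat_iff _).1 hq
  have h1 : r ∣ s := by
    have h2 : r ∣ q ^ d := by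
      rw [← hK, hq']
      exact dvd_pow_self r he.ne'
    rw [← hsq, ← pow_mul] at h2
    exact (Fact.out : r.Prime).dvd_of_dvd_pow h2
  have h2 : r = s := (Nat.prime_dvd_prime_iff_eq Fact.out hs).1 h1
  exact ⟨r, n, hr, hrF, hrk, hn, by rw [h2, hsq], hk⟩

/-- the rows from the setup -/
theorem rows {D : ChevalleyDatum} {l : ℕ} {M : CoxeterMatrix (Fin l)} (hp : IsType D l M) {G : Type u} [Group G]
    [Finite G] {r e : ℕ} [Fact r.Prime] {k : Type u} [Field k] [IsAlgClosed k] [CharP k r] (hk : LocFin k)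
    (h5 : 5 ≤ p) (hpr : p ≠ r) {f : G →* ↥(D.group k)} {σ : MulAut ↥(D.group k)} {g : (Fin l → ℤ) ≃+ (Fin l → ℤ)}
    (hset : Setup hp p r e f σ g) (hW : ¬ p ^ 2 ∣ Nat.card M.Group) (hT : Tors M.toCoxeterSystem hp.isCartan p)
    (hirr : IrrC M.toCoxeterSystem hp.isCartan) : AbIrr p G ∧ NormOm p G := by
  have htor := tor_of hp hk hpr hW hT f
  exact ⟨abIrr_of_setup hp hk hset hirr h5 hpr htor, normOm_of_setup hp hk hset (by omega) hpr htor⟩

theorem twE6 (h5 : 5 ≤ p) (hpK : (p : K) ≠ 0) (hq : IsPrimePow q) (hK : Fintype.card K = q ^ 2) :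
    AbIrr p ↥(twistedE6 K q) ∧ NormOm p ↥(twistedE6 K q) := by
  obtain ⟨r, n, hr, hrF, hrk, hn0, hn, hk⟩ := exists_closure_q two_ne_zero hq hK
  have hpr : p ≠ r := by
    rintro rfl
    exact hpK (CharP.cast_eq_zero K p)
  obtain ⟨h1, h2⟩ := torsE6 hp6 hpp.out h5
  exact rows hp6 hk h5 hpr (setup_six (algebraMap K (AlgebraicClosure K)) r hk hn0 hn hK (by omega)) h1 h2
    (IrrTypes.e6 hp6)

theorem twD4 (h5 : 5 ≤ p) (hpK : (p : K) ≠ 0) (hq : IsPrimePow q) (hK : Fintype.card K = q ^ 3) :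
    AbIrr p ↥(twistedD4 K q) ∧ NormOm p ↥(twistedD4 K q) := by
  obtain ⟨r, n, hr, hrF, hrk, hn0, hn, hk⟩ := exists_closure_q three_ne_zero hq hK
  have hpr : p ≠ r := by
    rintro rfl
    exact hpK (CharP.cast_eq_zero K p)
  have := finW hp4
  have h := not_dvd_192 hpp.out h5
  rw [← card_D4] at h
  exact rows hp4 hk h5 hpr (setup_four (algebraMap K (AlgebraicClosure K)) r (tw4_le hq hK) hk hn0 hn hK)
    (fun h1 => h ((dvd_pow_self p two_ne_zero).trans h1)) (tors_of_not_dvd h) (IrrTypes.d4 hp4)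

end

end Cfsg.Agent.H795.Tw
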