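import Cfsg.Agent.H795.NotAbData
import Cfsg.Agent.H795.Tw

/-!
# Nonabelian Sylow subgroups of the exceptional groups in cross characteristic

* `g2 f4 e6 e7 e8 twE6 twD4` : `NotAb 3 G`, characteristic not `3`;
* `e8_five` : `NotAb 5 (E₈(q))`, characteristic not `5`.
-/

set_option autoImplicit false
set_option linter.unusedSectionVars false

namespace Cfsg.Agent.H795.NotAbRows

open CoxeterSystem Cfsg Cfsg.Lie Cfsg.Lie.ChevalleyDatum
open Cfsg.Agent.ChevalleyStructure Cfsg.Agent.ChevalleyStructure.Elts Cfsg.Agent.ChevalleyStructure.CoxeterGeom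
  Cfsg.Agent.ChevalleyStructure.CoxeterGeomTypes Cfsg.Agent.ChevalleyStructure.NPerm
open Cfsg.Agent.Tits.Roots Cfsg.Agent.Tits.Core Cfsg.Agent.Nodes Cfsg.Agent.Nodes.Reps Cfsg.Agent.Nodes.BNOf
  Cfsg.Agent.Nodes.RGDChev Cfsg.Agent.Nodes.Bruhat
open Cfsg.Agent.KFacts.RgdField Cfsg.Agent.KFacts.RgdChevCoord Cfsg.Agent.BpExc.TorCent Cfsg.Agent.BpExc.TorChev
open Cfsg.Agent.GpExc.Field Cfsg.Agent.BpExc.Tow Cfsg.Agent.BpExc.TowChev Cfsg.Agent.BpExc.Fr
  Cfsg.Agent.BpExc.LangFr Cfsg.Agent.H795.SetCent Cfsg.Agent.H795.Toral Cfsg.Agent.H795.Core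
  Cfsg.Agent.H129.TorusChar Cfsg.Agent.H795.Untw Cfsg.Agent.H795.RowsA
  Cfsg.Agent.BpExc Cfsg.Agent.H720.TwFr Cfsg.Agent.H800.Sp Cfsg.Agent.H795.NotAbT Cfsg.Agent.H795.NotAbCert
  Cfsg.Agent.H795.NotAbData Cfsg.Agent.BpExc.RowsUntw Cfsg.Agent.H129.WData
open Cfsg.Agent.H129.TorusUntw (phi isFrob_phi fr_phi phi_emb coe_phi fix_range fix_split exists_closure)

universe u

theorem res3 {r e : ℕ} (hr : r.Prime) (h : 3 ≠ r) :
    ((r ^ e : ℕ) : ZMod 3) = ((1 : ℤ) : ZMod 3) ∨ ((r ^ e : ℕ) : ZMod 3) = ((-1 : ℤ) : ZMod 3) := by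
  have h0 : ((r ^ e : ℕ) : ZMod 3) ≠ 0 := by
    rw [Ne, ZMod.natCast_eq_zero_iff]
    intro h1
    exact h ((Nat.prime_dvd_prime_iff_eq Nat.prime_three hr).1 (Nat.prime_three.dvd_of_dvd_pow h1))
  generalize ((r ^ e : ℕ) : ZMod 3) = x at h0
  revert x
  decide

theorem res5 {r e : ℕ} (hr : r.Prime) (h : 5 ≠ r) :
    ((r ^ e : ℕ) : ZMod 5) = ((1 : ℤ) : ZMod 5) ∨ ((r ^ e : ℕ) : ZMod 5) = ((-1 : ℤ) : ZMod 5) ∨
    ((r ^ e : ℕ) : ZMod 5) = ((2 : ℤ) : ZMod 5) ∨ ((r ^ e : ℕ) : ZMod 5) = ((3 : ℤ) : ZMod 5) := by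
  have h0 : ((r ^ e : ℕ) : ZMod 5) ≠ 0 := by
    rw [Ne, ZMod.natCast_eq_zero_iff]
    intro h1
    exact h ((Nat.prime_dvd_prime_iff_eq Nat.prime_five hr).1 (Nat.prime_five.dvd_of_dvd_pow h1))
  generalize ((r ^ e : ℕ) : ZMod 5) = x at h0
  revert x
  decide

section

variable {D : ChevalleyDatum} {l : ℕ} {M : CoxeterMatrix (Fin l)} (hp : IsType D l M)

theorem refl_mat (j : Fin l) : (AddEquiv.refl (Fin l → ℤ)) (sr j) = fun m => if j = m then 1 else 0 := by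
  funext m
  exact sr_apply' j m

instance fact3 : Fact (Nat.Prime 3) := ⟨Nat.prime_three⟩
instance fact5 : Fact (Nat.Prime 5) := ⟨Nat.prime_five⟩

include hp in
/-- untwisted groups, `p ∤ d` -/
theorem untw {F : Type u} [Field F] [Fintype F] {p : ℕ} [hpp : Fact p.Prime] (hpF : (p : F) ≠ 0)
    {d : ℕ} {B : Fin l → Fin l → ℤ} (hB : InvC D l d B) (hd : d ≠ 0) (hd1 : d = 1 ∨ d.Prime) (hpd : ¬ p ∣ d)
    (hdata : ∀ r e : ℕ, r.Prime → p ≠ r → ∃ (w v : M.Group) (U Th V : Mat l) (cv : Fin l → ℤ) (q0 : ℤ), v ^ p = 1 ∧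
      IsMat hp w U ∧ IsMat hp v V ∧ ((r ^ e : ℕ) : ZMod p) = (q0 : ZMod p) ∧
      CertOK l p (fun j m => if j = m then 1 else 0) U Th V cv q0) : NotAb p ↥(D.group F) := by
  obtain ⟨r, e, hr, hrF, hrk, he, hq, hk⟩ := exists_closure (F := F) rfl
  have hpr : p ≠ r := by
    rintro rfl
    exact hpF (CharP.cast_eq_zero F p)
  have hset := setup_untw hp hk (algebraMap F (AlgebraicClosure F)) he hq hB hd hd1 (p := p) hpd
  have hGf : Finite ↥(D.group F) := inferInstance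
  obtain ⟨w, v, U, Th, V, cv, q0, h1, h2, h3, h4, h5⟩ := hdata r e Fact.out hpr
  exact notAb_of_cert hk hset hpr hB hd h1 refl_mat h2 h3 h4 h5

end

variable {F : Type u} [Field F] [Fintype F]

theorem g2 (h3 : (3 : F) ≠ 0) : NotAb 3 ↥(chevG2.group F) := by
  refine untw g2T (by exact_mod_cast h3) invC_G2 one_ne_zero (Or.inl rfl) (by norm_num) fun r e hr hpr => ?_
  rcases res3 (e := e) hr hpr with h | h
  · exact ⟨1, G2.c2, _, _, _, _, _, G2.c2_pow g2T, isMat_one, G2.is_c2 g2T, h, G2.cert1⟩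
  · exact ⟨G2.c3, G2.c2, _, _, _, _, _, G2.c2_pow g2T, G2.is_c3 g2T, G2.is_c2 g2T, h, G2.cert2⟩

theorem f4 (h3 : (3 : F) ≠ 0) : NotAb 3 ↥(chevF4.group F) := by
  refine untw f4T (by exact_mod_cast h3) invC_F4 one_ne_zero (Or.inl rfl) (by norm_num) fun r e hr hpr => ?_
  rcases res3 (e := e) hr hpr with h | h
  · exact ⟨1, F4.c4, _, _, _, _, _, F4.c4_pow f4T, isMat_one, F4.is_c4 f4T, h, F4.cert1⟩
  · exact ⟨F4.c6, F4.c4, _, _, _, _, _, F4.c4_pow f4T, F4.is_c6 f4T, F4.is_c4 f4T, h, F4.cert2⟩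

theorem e7 (h3 : (3 : F) ≠ 0) : NotAb 3 ↥(chevE7.group F) := by
  refine untw e7T (by exact_mod_cast h3) invC_E7 two_ne_zero (Or.inr Nat.prime_two) (by norm_num)
    fun r e hr hpr => ?_
  rcases res3 (e := e) hr hpr with h | h
  · exact ⟨1, E7.c6, _, _, _, _, _, E7.c6_pow e7T, isMat_one, E7.is_c6 e7T, h, E7.cert1⟩
  · exact ⟨E7.c9, E7.c6, _, _, _, _, _, E7.c6_pow e7T, E7.is_c9 e7T, E7.is_c6 e7T, h, E7.cert2⟩

theorem e8 (h3 : (3 : F) ≠ 0) : NotAb 3 ↥(chevE8.group F) := by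
  refine untw e8T (by exact_mod_cast h3) invC_E8 one_ne_zero (Or.inl rfl) (by norm_num) fun r e hr hpr => ?_
  rcases res3 (e := e) hr hpr with h | h
  · exact ⟨1, E8.c10, _, _, _, _, _, E8.c10_pow e8T, isMat_one, E8.is_c10 e8T, h, E8.cert1⟩
  · exact ⟨E8.c15, E8.c10, _, _, _, _, _, E8.c10_pow e8T, E8.is_c15 e8T, E8.is_c10 e8T, h, E8.cert2⟩

theorem e8_five (h5 : (5 : F) ≠ 0) : NotAb 5 ↥(chevE8.group F) := by
  refine untw e8T (by exact_mod_cast h5) invC_E8 one_ne_zero (Or.inl rfl) (by norm_num) fun r e hr hpr => ?_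
  rcases res5 (e := e) hr hpr with h | h | h | h
  · exact ⟨1, E8.c6, _, _, _, _, _, E8.c6_pow e8T, isMat_one, E8.is_c6 e8T, h, E8.five1⟩
  · exact ⟨E8.c15, E8.c6, _, _, _, _, _, E8.c6_pow e8T, E8.is_c15 e8T, E8.is_c6 e8T, h, E8.five4⟩
  · exact ⟨E8.u5, E8.u4, _, _, _, _, _, E8.u4_pow e8T, E8.is_u5 e8T, E8.is_u4 e8T, h, E8.five2⟩
  · exact ⟨E8.u5, E8.u4, _, _, _, _, _, E8.u4_pow e8T, E8.is_u5 e8T, E8.is_u4 e8T, h, E8.five3⟩

/-! ### `³D₄(q)` -/

theorem perm4_mat (j : Fin 4) : permE rho4 (sr j) =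
    (![![0, 0, 1, 0], ![0, 1, 0, 0], ![0, 0, 0, 1], ![1, 0, 0, 0]] : Mat 4) j := by
  fin_cases j <;> · funext m; fin_cases m <;> rfl

theorem perm6_mat (j : Fin 6) : permE rho6 (sr j) =
    (![![0, 0, 0, 0, 0, 1], ![0, 1, 0, 0, 0, 0], ![0, 0, 0, 0, 1, 0], ![0, 0, 0, 1, 0, 0], ![0, 0, 1, 0, 0, 0],
      ![1, 0, 0, 0, 0, 0]] : Mat 6) j := by
  fin_cases j <;> · funext m; fin_cases m <;> rfl

theorem twD4 {q : ℕ} (h3 : (3 : F) ≠ 0) (hq : IsPrimePow q) (hF : Fintype.card F = q ^ 3) :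
    NotAb 3 ↥(twistedD4 F q) := by
  obtain ⟨r, n, hr, hrF, hrk, hn0, hn, hk⟩ := Tw.exists_closure_q three_ne_zero hq hF
  have hpr : 3 ≠ r := by
    rintro rfl
    exact h3 (by exact_mod_cast CharP.cast_eq_zero F 3)
  have hset := Tw.setup_four (algebraMap F (AlgebraicClosure F)) r (tw4_le hq hF) hk hn0 hn hF (p := 3)
  have hB : InvC chevD4 4 2 ![![2, 2, 1, 1], ![2, 4, 2, 2], ![1, 2, 2, 1], ![1, 2, 1, 2]] := invC_D4
  rcases res3 (e := n) hr.out hpr with h | h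
  · exact notAb_of_cert hk hset hpr hB two_ne_zero (D4.c2_pow hp4) perm4_mat isMat_one (D4.is_c2 hp4) h D4.cert1
  · exact notAb_of_cert hk hset hpr hB two_ne_zero (D4.c2_pow hp4) perm4_mat (D4.is_c3 hp4) (D4.is_c2 hp4) h
      D4.cert2

/-! ### `E₆(q)` and `²E₆(q)` -/

section

variable {D : ChevalleyDatum} {l : ℕ} {M : CoxeterMatrix (Fin l)} (hp : IsType D l M)
  {k : Type u} [Field k] [IsAlgClosed k] (hk : LocFin k) {r e : ℕ}
  [Fact r.Prime] [CharP k r] {F : Type u} [Field F] [Fintype F] (f : F →+* k)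

include hk in
theorem setup_untw_all (he : 0 < e) (hq : Fintype.card F = r ^ e) {d : ℕ} {B : Fin l → Fin l → ℤ}
    (hB : InvC D l d B) (hd : d ≠ 0) (hroot : ∀ a : F, ∃ b : F, b ^ d = a) (p : ℕ) :
    Setup hp p r e (emb hp.inList f) (phi D k r e) (AddEquiv.refl (Fin l → ℤ)) where
  inj := emb_injective hp.inList f
  e_pos := he
  frob := isFrob_phi
  fr := fr_phi hp _
  fix := phi_emb hp f hq
  norm := by
    intro y hy x
    obtain ⟨b, hb⟩ := Emb.conj_mem_range (F := F) (hD := hp.inList) (f := f) (φ := iterateFrobenius k r e)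
        (fun t => by rw [iterateFrobenius_def, hq]) (σ := phi D k r e) coe_phi hy
        (n := emb hp.inList f x) ⟨x, rfl⟩
    exact ⟨b, hb⟩
  p_mem := by
    rintro y hy -
    exact fix_range hp M.toCoxeterSystem f hq hB hd hroot hy
  r_mem := by
    rintro y hy -
    exact fix_range hp M.toCoxeterSystem f hq hB hd hroot hy
  fin := finite_fix hk he

/-- roots in a finite field -/
theorem exists_root_of_coprime {d : ℕ} (hd : d ≠ 0) (h : (Fintype.card F - 1).Coprime d) (a : F) :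
    ∃ b : F, b ^ d = a := by
  by_cases ha : a = 0
  · exact ⟨0, by rw [ha, zero_pow hd]⟩
  · have h1 : (Nat.card Fˣ).Coprime d := by
      rw [Nat.card_units, Nat.card_eq_fintype_card]
      exact h
    obtain ⟨b, hb⟩ := (powCoprime h1).surjective (Units.mk0 a ha)
    refine ⟨b, ?_⟩
    have h2 := congrArg Units.val hb
    rw [powCoprime_apply, Units.val_pow_eq_pow_val] at h2
    exact h2

/-- commutators of fixed points -/
theorem comm_mem_of_split {Y G : Type*} [Group Y] [Group G] {f : G →* Y} {T : Subgroup Y}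
    (hT : ∀ a ∈ T, ∀ b ∈ T, a * b = b * a) {σ : MulAut Y}
    (hnorm : ∀ y, σ y = y → ∀ x, ∃ x', f x' = y * f x * y⁻¹) (hfix : ∀ x, σ (f x) = f x)
    (hsplit : ∀ y, σ y = y → ∃ (x : G) (t : Y), t ∈ T ∧ y = f x * t) (a b : Y) (ha : σ a = a) (hb : σ b = b) :
    ∃ x, f x = a * b * a⁻¹ * b⁻¹ := by
  obtain ⟨x, t, ht, rfl⟩ := hsplit a ha
  obtain ⟨y, s, hs, rfl⟩ := hsplit b hb
  have hσt : σ t = t := by
    rw [map_mul, hfix] at ha
    exact mul_left_cancel ha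
  have hσs : σ s = s := by
    rw [map_mul, hfix] at hb
    exact mul_left_cancel hb
  obtain ⟨y', hy'⟩ := hnorm t hσt y
  obtain ⟨x', hx'⟩ := hnorm s hσs x
  refine ⟨x * y' * (y * x')⁻¹, ?_⟩
  rw [map_mul, map_inv, map_mul, map_mul, hy', hx']
  have h1 := hT t ht s hs
  calc f x * (t * f y * t⁻¹) * (f y * (s * f x * s⁻¹))⁻¹ = f x * t * f y * (t⁻¹ * s) * (f x)⁻¹ * s⁻¹ * (f y)⁻¹ := by
        group
    _ = f x * t * f y * (s * t⁻¹) * (f x)⁻¹ * s⁻¹ * (f y)⁻¹ := by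
        have h2 : t⁻¹ * s = s * t⁻¹ := by
          rw [inv_mul_eq_iff_eq_mul, ← mul_assoc, h1, mul_inv_cancel_right]
        rw [h2]
    _ = f x * t * (f y * s) * (f x * t)⁻¹ * (f y * s)⁻¹ := by group

end

/-- the checks for `notAb_of_comm`, `θ = ε` -/
def CertC (l p : ℕ) (V0 V : Mat l) (cv : Fin l → ℤ) : Prop :=
  ∃ j, ¬ (p : ℤ) ∣ (∑ m, (∑ n, V j n * V0 n m) * cv m - ∑ m, V j m * cv m) - (∑ m, V0 j m * cv m - cv j)

instance decCertC (l p : ℕ) (V0 V : Mat l) (cv : Fin l → ℤ) : Decidable (CertC l p V0 V cv) := by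
  unfold CertC; infer_instance

section

variable {D : ChevalleyDatum} {l : ℕ} {M : CoxeterMatrix (Fin l)} {hp : IsType D l M}
  {k : Type u} [Field k] [IsAlgClosed k] (hk : LocFin k) {r e : ℕ} [Fact r.Prime] [CharP k r]
  {σ : MulAut ↥(D.group k)} {g : (Fin l → ℤ) ≃+ (Fin l → ℤ)}

include hk in
theorem notAb_of_certC {G : Type u} [Group G] [Finite G] {p : ℕ} [hpp : Fact p.Prime] {f : G →* ↥(D.group k)}
    (hf : Function.Injective f) (he : 0 < e) (hσ : IsFrob r e σ)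
    (F : Fr M.toCoxeterSystem hp.isCartan (TT D k) (XX D l k) σ g)
    (hfin : Finite {y : ↥(D.group k) // σ y = y})
    (hcm : ∀ a b, σ a = a → σ b = b → ∃ x, f x = a * b * a⁻¹ * b⁻¹)
    (hpr : p ≠ r) {d : ℕ} {B : Fin l → Fin l → ℤ} (hB : InvC D l d B) (hd : d ≠ 0)
    (w v0 v1 v2 : M.Group) (hv : (v1 * v2 * v1⁻¹ * v2⁻¹) ^ p = 1) {ε : ℤ}
    (hε : ∀ x, rep M.toCoxeterSystem hp.isCartan w (g x) = ε • x) (hq : ((r ^ e : ℕ) : ZMod p) = (ε : ZMod p))
    {V0 V : Mat l} (hV0 : IsMat hp v0 V0) (hV : IsMat hp (v1 * v2 * v1⁻¹ * v2⁻¹) V) {cv : Fin l → ℤ}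
    (hc : CertC l p V0 V cv) : NotAb p G := by
  refine notAb_of_comm hp hk hf he hσ F hfin hcm hpr hB hd w v0 v1 v2 hv (fun v _ x => ?_) (fun_ p cv)
    (fun x => ?_) ?_
  · rw [hε, hε, map_zsmul]
  · rw [hε, map_zsmul, hq, zsmul_eq_mul]
  · obtain ⟨j, hj⟩ := hc
    refine ⟨sr j, fun h => hj ?_⟩
    have h5 : ∑ m, (sr j : Fin l → ℤ) m * cv m = cv j := by
      simp only [sr_apply']
      simp
    have h6 : ∀ m, rep M.toCoxeterSystem hp.isCartan v0 (V j) m = ∑ n, V j n * V0 n m := fun m => hV0.apply _ m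
    rw [hV, hV0, fun_apply, fun_apply, fun_apply, fun_apply, ← sub_eq_zero, ← Int.cast_sub, ← Int.cast_sub,
      ← Int.cast_sub, ZMod.intCast_zmod_eq_zero_iff_dvd, h5] at h
    simp only [h6] at h
    exact h

end

theorem eps_of_mat {D : ChevalleyDatum} {l : ℕ} {M : CoxeterMatrix (Fin l)} {hp : IsType D l M}
    {g : (Fin l → ℤ) ≃+ (Fin l → ℤ)} {w : M.Group} {Gm U : Mat l} (hg : ∀ j, g (sr j) = Gm j) (hU : IsMat hp w U)
    {ε : ℤ} (h : ∀ j m, ∑ n, Gm j n * U n m = if j = m then ε else 0) (x : Fin l → ℤ) :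
    rep M.toCoxeterSystem hp.isCartan w (g x) = ε • x := by
  have hTh := theta_mat (Th := fun j m => if j = m then ε else 0) hg hU h
  let θ : (Fin l → ℤ) →+ (Fin l → ℤ) :=
    (rep M.toCoxeterSystem hp.isCartan w).toAddMonoidHom.comp g.toAddMonoidHom
  refine addHom_ext (f := θ) (f' := ε • AddMonoidHom.id (Fin l → ℤ)) (fun j => ?_) x
  show rep M.toCoxeterSystem hp.isCartan w (g (sr j)) = ε • (sr j : Fin l → ℤ)
  rw [hTh]
  funext m
  rw [Pi.smul_apply, sr_apply', smul_eq_mul]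
  by_cases hjm : j = m
  · rw [if_pos hjm, if_pos hjm, mul_one]
  · rw [if_neg hjm, if_neg hjm, mul_zero]

theorem mod_of_one {n : ℕ} (h : (n : ZMod 3) = ((1 : ℤ) : ZMod 3)) : n % 3 = 1 := by
  have h1 : (n : ZMod 3) = ((1 : ℕ) : ZMod 3) := by rw [h]; simp
  rw [ZMod.natCast_eq_natCast_iff'] at h1
  exact h1

theorem mod_of_neg {n : ℕ} (h : (n : ZMod 3) = ((-1 : ℤ) : ZMod 3)) : n % 3 = 2 := by
  have h1 : (n : ZMod 3) = ((2 : ℕ) : ZMod 3) := by rw [h]; decide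
  rw [ZMod.natCast_eq_natCast_iff'] at h1
  exact h1

section

open Cfsg.Agent.H795.NotAbData.E6

variable (hp : IsType chevE6 6 CoxeterMatrix.E₆)

include hp in
theorem a_inv : a⁻¹ = a := by
  have h1 : aa = 1 := (is_aa hp).eq_one (by decide +kernel)
  exact inv_eq_of_mul_eq_one_right h1

include hp in
theorem b_inv : b⁻¹ = b := by
  have h1 : bb = 1 := (is_bb hp).eq_one (by decide +kernel)
  exact inv_eq_of_mul_eq_one_right h1

include hp in
theorem comm_eq : a * b * a⁻¹ * b⁻¹ = k := by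
  rw [a_inv hp, b_inv hp]
  rfl

theorem certC : CertC 6 3 aM kM ![0, 1, 0, 0, 0, 0] := by decide +kernel

end

/-- `E₆(q)` -/
theorem e6 (h3 : (3 : F) ≠ 0) : NotAb 3 ↥(chevE6.group F) := by
  obtain ⟨r, e, hr, hrF, hrk, he, hq, hk⟩ := exists_closure (F := F) rfl
  have hpr : 3 ≠ r := by
    rintro rfl
    exact h3 (by exact_mod_cast CharP.cast_eq_zero F 3)
  have hGf : Finite ↥(chevE6.group F) := inferInstance
  rcases res3 (e := e) hr.out hpr with h | h
  · have hset := setup_untw e6T hk (algebraMap F (AlgebraicClosure F)) he hq invC_E6 three_ne_zero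
      (Or.inr Nat.prime_three) (p := 5) (by norm_num)
    refine notAb_of_certC hk (w := 1) (v0 := E6.a) (v1 := E6.a)
      (v2 := E6.b) hset.inj he hset.frob hset.fr hset.fin ?_ hpr invC_E6 three_ne_zero ?_
      (ε := 1) ?_ h (E6.is_a e6T) ?_ certC
    · exact comm_mem_of_split (TT_comm e6T) hset.norm hset.fix
        (fun y hy => fix_split e6T _ hq hy)
    · rw [comm_eq e6T]
      exact E6.k_pow e6T
    · intro x
      rw [map_one, Module.End.one_apply, one_smul]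
      rfl
    · rw [comm_eq e6T]
      exact E6.is_k e6T
  · have hset := setup_untw_all e6T hk (algebraMap F (AlgebraicClosure F)) he hq invC_E6 three_ne_zero
      (exists_root_of_coprime three_ne_zero (by
        rw [hq]
        have h1 := mod_of_neg h
        refine Nat.Coprime.symm ((Nat.Prime.coprime_iff_not_dvd Nat.prime_three).2 fun h2 => ?_)
        omega)) 3
    exact notAb_of_cert hk hset hpr invC_E6 three_ne_zero (E6.d2_pow e6T) refl_mat (E6.is_d3 e6T) (E6.is_d2 e6T) h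
      E6.cert2

/-- `²E₆(q)` -/
theorem twE6 {q : ℕ} (h3 : (3 : F) ≠ 0) (hq : IsPrimePow q) (hF : Fintype.card F = q ^ 2) :
    NotAb 3 ↥(twistedE6 F q) := by
  obtain ⟨r, n, hr, hrF, hrk, hn0, hn, hk⟩ := Tw.exists_closure_q two_ne_zero hq hF
  have hpr : 3 ≠ r := by
    rintro rfl
    exact h3 (by exact_mod_cast CharP.cast_eq_zero F 3)
  have hG : Finite ↥(twistedE6 F q) := inferInstance
  have hset := Tw.setup_six (algebraMap F (AlgebraicClosure F)) r hk hn0 hn hF (p := 5) (by norm_num)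
  rcases res3 (e := n) hr.out hpr with h | h
  · have hset' : Setup hp6 3 r n (em6 q (algebraMap F (AlgebraicClosure F))) (sig6 (AlgebraicClosure F) r n)
        (permE rho6) :=
      { inj := hset.inj
        e_pos := hset.e_pos
        frob := hset.frob
        fr := hset.fr
        fix := hset.fix
        norm := hset.norm
        r_mem := hset.r_mem
        fin := hset.fin
        p_mem := by
          rintro y hy -
          have h1 := desc6 (algebraMap F (AlgebraicClosure F)) r hk hn0 hn hF hy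
          have h2 : Nat.gcd 3 (q + 1) = 1 := by
            have h4 := mod_of_one h
            rw [← hn] at h4
            refine (Nat.Prime.coprime_iff_not_dvd Nat.prime_three).2 fun h5 => ?_
            omega
          rw [h2, pow_one] at h1
          exact h1 }
    exact notAb_of_cert hk hset' hpr invC_E6 three_ne_zero (E6.d2_pow hp6) perm6_mat (E6.is_w hp6) (E6.is_d2 hp6) h
      E6.tw1
  · refine notAb_of_certC hk (w := E6.c6) (v0 := E6.a) (v1 := E6.a)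
      (v2 := E6.b) hset.inj hn0 hset.frob hset.fr hset.fin ?_ hpr invC_E6 three_ne_zero ?_
      (ε := -1) ?_ h (E6.is_a hp6) ?_ certC
    · refine comm_mem_of_split (TT_comm hp6) hset.norm hset.fix (fun y hy => ?_)
      have hφ : ∀ t : AlgebraicClosure F, iterateFrobenius (AlgebraicClosure F) r n t = t ^ q :=
        fun t => by rw [iterateFrobenius_def, hn]
      obtain ⟨x, hx, t, ht, e⟩ := EmbInst.twE6_split (f := algebraMap F (AlgebraicClosure F)) hq hF hφ y.2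
        (by rw [← coe_sig6, hy])
      exact ⟨⟨x, hx⟩, ⟨t, diagonal_le_group hp6.inList _ ht⟩, ht, Subtype.ext e⟩
    · rw [comm_eq hp6]
      exact E6.k_pow hp6
    · exact eps_of_mat (hp := hp6) (w := E6.c6) (g := permE rho6) (U := E6.c6M) perm6_mat (E6.is_c6 hp6)
        (by decide +kernel)
    · rw [comm_eq hp6]
      exact E6.is_k hp6

end Cfsg.Agent.H795.NotAbRows
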