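import Cfsg.Agent.H795.NotAbCert

/-!
# Explicit data for the nonabelian Sylow 3-subgroups (and 5-subgroups of `E₈(q)`)
-/

set_option autoImplicit false
set_option linter.unusedSectionVars false

namespace Cfsg.Agent.H795.NotAbData

open CoxeterSystem Cfsg Cfsg.Lie Cfsg.Lie.ChevalleyDatum
open Cfsg.Agent.ChevalleyStructure.CoxeterGeomTypes Cfsg.Agent.Nodes.RGDChev
open Cfsg.Agent.H129.WData Cfsg.Agent.H795.NotAbCert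

variable {D : ChevalleyDatum} {l : ℕ} {M : CoxeterMatrix (Fin l)} {hp : IsType D l M}

theorem pow_three_eq_one {v : M.Group} {V V2 : Mat l} (hV : IsMat hp v V)
    (h2 : ∀ j m, ∑ n, V j n * V n m = V2 j m) (h3 : ∀ j m, ∑ n, V j n * V2 n m = if j = m then 1 else 0) :
    v ^ 3 = 1 := by
  have h4 : IsMat hp (v * v) V2 := hV.mul hV h2
  have h5 : IsMat hp (v * v * v) (fun j m => if j = m then 1 else 0) := h4.mul hV h3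
  rw [pow_succ, pow_two]
  exact h5.eq_one fun _ _ => rfl

theorem pow_five_eq_one {v : M.Group} {V V2 V4 : Mat l} (hV : IsMat hp v V)
    (h2 : ∀ j m, ∑ n, V j n * V n m = V2 j m) (h4 : ∀ j m, ∑ n, V2 j n * V2 n m = V4 j m)
    (h5 : ∀ j m, ∑ n, V j n * V4 n m = if j = m then 1 else 0) : v ^ 5 = 1 := by
  have h6 : IsMat hp (v * v) V2 := hV.mul hV h2
  have h7 : IsMat hp (v * v * (v * v)) V4 := h6.mul h6 h4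
  have h8 : IsMat hp (v * v * (v * v) * v) (fun j m => if j = m then 1 else 0) := h7.mul hV h5
  have h9 : v ^ 5 = v * v * (v * v) * v := by simp only [pow_succ, pow_zero, one_mul, mul_assoc]
  rw [h9]
  exact h8.eq_one fun _ _ => rfl

namespace G2

/-- the Cartan matrix -/
def Am : Mat 2 := ![![2, -3], ![-1, 2]]

theorem hA : ∀ i j, Am i j = cartanOf chevG2 2 i j := by decide +kernel

/-- the chain of `c` -/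
def cL : List (Fin 2 × Mat 2) := [
  (0, ![![2, 1], ![-3, -1]]),
  (1, ![![1, 1], ![0, -1]])]

theorem cOK : ChainOK Am cL := by decide +kernel

/-- the matrix of `c` -/
def cM : Mat 2 := ![![2, 1], ![-3, -1]]

/-- the element -/
noncomputable def c : CoxeterMatrix.G₂.Group := CoxeterMatrix.G₂.toCoxeterSystem.wordProd (cL.map Prod.fst)

theorem is_c (hp : IsType chevG2 2 CoxeterMatrix.G₂) : IsMat hp c cM := by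
  have h := isMat_chain hp hA cOK
  have e : hd cL = cM := rfl
  rw [e] at h
  exact h

/-- the matrix of `c2` -/
def c2M : Mat 2 := ![![1, 1], ![-3, -2]]

/-- the element -/
noncomputable def c2 : CoxeterMatrix.G₂.Group := c * c

theorem is_c2 (hp : IsType chevG2 2 CoxeterMatrix.G₂) : IsMat hp c2 c2M :=
  (is_c hp).mul (is_c hp) (by decide +kernel)

/-- the matrix of `c3` -/
def c3M : Mat 2 := ![![-1, 0], ![0, -1]]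

/-- the element -/
noncomputable def c3 : CoxeterMatrix.G₂.Group := c2 * c

theorem is_c3 (hp : IsType chevG2 2 CoxeterMatrix.G₂) : IsMat hp c3 c3M :=
  (is_c2 hp).mul (is_c hp) (by decide +kernel)

theorem c2_pow (hp : IsType chevG2 2 CoxeterMatrix.G₂) : c2 ^ 3 = 1 :=
  pow_three_eq_one (is_c2 hp) (V2 := ![![-2, -1], ![3, 1]])
    (by decide +kernel) (by decide +kernel)

theorem cert1 : CertOK 2 3 (fun j m => if j = m then 1 else 0)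
    (fun j m => if j = m then 1 else 0)
    ![![1, 0], ![0, 1]] c2M ![0, 1] (1) := by
  decide +kernel

theorem cert2 : CertOK 2 3 (fun j m => if j = m then 1 else 0)
    c3M
    ![![-1, 0], ![0, -1]] c2M ![0, 1] (-1) := by
  decide +kernel

end G2

namespace D4

/-- the Cartan matrix -/
def Am : Mat 4 := ![![2, -1, 0, 0], ![-1, 2, -1, -1], ![0, -1, 2, 0], ![0, -1, 0, 2]]

theorem hA : ∀ i j, Am i j = cartanOf chevD4 4 i j := by decide +kernel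

/-- the chain of `c` -/
def cL : List (Fin 4 × Mat 4) := [
  (1, ![![-1, -1, 0, 0], ![1, 2, 1, 1], ![0, -1, -1, 0], ![0, -1, 0, -1]]),
  (0, ![![-1, 0, 0, 0], ![1, 1, 1, 1], ![0, 0, -1, 0], ![0, 0, 0, -1]]),
  (2, ![![1, 0, 0, 0], ![0, 1, 1, 1], ![0, 0, -1, 0], ![0, 0, 0, -1]]),
  (3, ![![1, 0, 0, 0], ![0, 1, 0, 1], ![0, 0, 1, 0], ![0, 0, 0, -1]])]

theorem cOK : ChainOK Am cL := by decide +kernel

/-- the matrix of `c` -/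
def cM : Mat 4 := ![![-1, -1, 0, 0], ![1, 2, 1, 1], ![0, -1, -1, 0], ![0, -1, 0, -1]]

/-- the element -/
noncomputable def c : coxeterD4.Group := coxeterD4.toCoxeterSystem.wordProd (cL.map Prod.fst)

theorem is_c (hp : IsType chevD4 4 coxeterD4) : IsMat hp c cM := by
  have h := isMat_chain hp hA cOK
  have e : hd cL = cM := rfl
  rw [e] at h
  exact h

/-- the matrix of `c2` -/
def c2M : Mat 4 := ![![0, -1, -1, -1], ![1, 1, 1, 1], ![-1, -1, 0, -1], ![-1, -1, -1, 0]]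

/-- the element -/
noncomputable def c2 : coxeterD4.Group := c * c

theorem is_c2 (hp : IsType chevD4 4 coxeterD4) : IsMat hp c2 c2M :=
  (is_c hp).mul (is_c hp) (by decide +kernel)

/-- the matrix of `c3` -/
def c3M : Mat 4 := ![![-1, 0, 0, 0], ![0, -1, 0, 0], ![0, 0, -1, 0], ![0, 0, 0, -1]]

/-- the element -/
noncomputable def c3 : coxeterD4.Group := c2 * c

theorem is_c3 (hp : IsType chevD4 4 coxeterD4) : IsMat hp c3 c3M :=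
  (is_c2 hp).mul (is_c hp) (by decide +kernel)

theorem c2_pow (hp : IsType chevD4 4 coxeterD4) : c2 ^ 3 = 1 :=
  pow_three_eq_one (is_c2 hp) (V2 := ![![1, 1, 0, 0], ![-1, -2, -1, -1], ![0, 1, 1, 0], ![0, 1, 0, 1]])
    (by decide +kernel) (by decide +kernel)

theorem cert1 : CertOK 4 3 ![![0, 0, 1, 0], ![0, 1, 0, 0], ![0, 0, 0, 1], ![1, 0, 0, 0]]
    (fun j m => if j = m then 1 else 0)
    ![![0, 0, 1, 0], ![0, 1, 0, 0], ![0, 0, 0, 1], ![1, 0, 0, 0]] c2M ![0, 1, 0, 0] (1) := by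
  decide +kernel

theorem cert2 : CertOK 4 3 ![![0, 0, 1, 0], ![0, 1, 0, 0], ![0, 0, 0, 1], ![1, 0, 0, 0]]
    c3M
    ![![0, 0, -1, 0], ![0, -1, 0, 0], ![0, 0, 0, -1], ![-1, 0, 0, 0]] c2M ![0, 1, 0, 0] (-1) := by
  decide +kernel

end D4

namespace F4

/-- the Cartan matrix -/
def Am : Mat 4 := ![![2, -1, 0, 0], ![-1, 2, -2, 0], ![0, -1, 2, -1], ![0, 0, -1, 2]]

theorem hA : ∀ i j, Am i j = cartanOf chevF4 4 i j := by decide +kernel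

/-- the chain of `c` -/
def cL : List (Fin 4 × Mat 4) := [
  (0, ![![0, 1, 0, 0], ![1, 1, 1, 0], ![0, 0, 0, 1], ![-2, -2, -1, -1]]),
  (1, ![![1, 1, 0, 0], ![0, 1, 1, 0], ![0, 0, 0, 1], ![0, -2, -1, -1]]),
  (2, ![![1, 0, 0, 0], ![0, 1, 1, 0], ![0, 0, 0, 1], ![0, 0, -1, -1]]),
  (3, ![![1, 0, 0, 0], ![0, 1, 0, 0], ![0, 0, 1, 1], ![0, 0, 0, -1]])]

theorem cOK : ChainOK Am cL := by decide +kernel

/-- the matrix of `c` -/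
def cM : Mat 4 := ![![0, 1, 0, 0], ![1, 1, 1, 0], ![0, 0, 0, 1], ![-2, -2, -1, -1]]

/-- the element -/
noncomputable def c : CoxeterMatrix.F₄.Group := CoxeterMatrix.F₄.toCoxeterSystem.wordProd (cL.map Prod.fst)

theorem is_c (hp : IsType chevF4 4 CoxeterMatrix.F₄) : IsMat hp c cM := by
  have h := isMat_chain hp hA cOK
  have e : hd cL = cM := rfl
  rw [e] at h
  exact h

/-- the matrix of `c2` -/
def c2M : Mat 4 := ![![1, 1, 1, 0], ![1, 2, 1, 1], ![-2, -2, -1, -1], ![0, -2, -1, 0]]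

/-- the element -/
noncomputable def c2 : CoxeterMatrix.F₄.Group := c * c

theorem is_c2 (hp : IsType chevF4 4 CoxeterMatrix.F₄) : IsMat hp c2 c2M :=
  (is_c hp).mul (is_c hp) (by decide +kernel)

/-- the matrix of `c3` -/
def c3M : Mat 4 := ![![1, 2, 1, 1], ![0, 1, 1, 0], ![0, -2, -1, 0], ![-2, -2, -2, -1]]

/-- the element -/
noncomputable def c3 : CoxeterMatrix.F₄.Group := c2 * c

theorem is_c3 (hp : IsType chevF4 4 CoxeterMatrix.F₄) : IsMat hp c3 c3M :=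
  (is_c2 hp).mul (is_c hp) (by decide +kernel)

/-- the matrix of `c4` -/
def c4M : Mat 4 := ![![0, 1, 1, 0], ![1, 1, 1, 1], ![-2, -2, -2, -1], ![0, -2, -1, -1]]

/-- the element -/
noncomputable def c4 : CoxeterMatrix.F₄.Group := c2 * c2

theorem is_c4 (hp : IsType chevF4 4 CoxeterMatrix.F₄) : IsMat hp c4 c4M :=
  (is_c2 hp).mul (is_c2 hp) (by decide +kernel)

/-- the matrix of `c6` -/
def c6M : Mat 4 := ![![-1, 0, 0, 0], ![0, -1, 0, 0], ![0, 0, -1, 0], ![0, 0, 0, -1]]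

/-- the element -/
noncomputable def c6 : CoxeterMatrix.F₄.Group := c3 * c3

theorem is_c6 (hp : IsType chevF4 4 CoxeterMatrix.F₄) : IsMat hp c6 c6M :=
  (is_c3 hp).mul (is_c3 hp) (by decide +kernel)

theorem c4_pow (hp : IsType chevF4 4 CoxeterMatrix.F₄) : c4 ^ 3 = 1 :=
  pow_three_eq_one (is_c4 hp) (V2 := ![![-1, -1, -1, 0], ![-1, -2, -1, -1], ![2, 2, 1, 1], ![0, 2, 1, 0]])
    (by decide +kernel) (by decide +kernel)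

theorem cert1 : CertOK 4 3 (fun j m => if j = m then 1 else 0)
    (fun j m => if j = m then 1 else 0)
    ![![1, 0, 0, 0], ![0, 1, 0, 0], ![0, 0, 1, 0], ![0, 0, 0, 1]] c4M ![1, 0, 0, 0] (1) := by
  decide +kernel

theorem cert2 : CertOK 4 3 (fun j m => if j = m then 1 else 0)
    c6M
    ![![-1, 0, 0, 0], ![0, -1, 0, 0], ![0, 0, -1, 0], ![0, 0, 0, -1]] c4M ![1, 0, 0, 0] (-1) := by
  decide +kernel

end F4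

namespace E6

/-- the Cartan matrix -/
def Am : Mat 6 := ![![2, 0, -1, 0, 0, 0], ![0, 2, 0, -1, 0, 0], ![-1, 0, 2, -1, 0, 0], ![0, -1, -1, 2, -1, 0], ![0, 0, 0, -1, 2, -1], ![0, 0, 0, 0, -1, 2]]

theorem hA : ∀ i j, Am i j = cartanOf chevE6 6 i j := by decide +kernel

/-- the chain of `d` -/
def dL : List (Fin 6 × Mat 6) := [
  (3, ![![1, 0, 1, 1, 0, 0], ![0, -1, 0, -1, 0, 0], ![0, 0, -1, -1, 0, 0], ![0, 1, 1, 2, 1, 0], ![0, 0, 0, -1, -1, 0], ![0, 0, 0, 1, 1, 1]]),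
  (1, ![![1, 0, 1, 0, 0, 0], ![0, -1, 0, 0, 0, 0], ![0, 0, -1, 0, 0, 0], ![0, 1, 1, 1, 1, 0], ![0, 0, 0, 0, -1, 0], ![0, 0, 0, 0, 1, 1]]),
  (2, ![![1, 0, 1, 0, 0, 0], ![0, 1, 0, 0, 0, 0], ![0, 0, -1, 0, 0, 0], ![0, 0, 1, 1, 1, 0], ![0, 0, 0, 0, -1, 0], ![0, 0, 0, 0, 1, 1]]),
  (4, ![![1, 0, 0, 0, 0, 0], ![0, 1, 0, 0, 0, 0], ![0, 0, 1, 0, 0, 0], ![0, 0, 0, 1, 1, 0], ![0, 0, 0, 0, -1, 0], ![0, 0, 0, 0, 1, 1]])]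

theorem dOK : ChainOK Am dL := by decide +kernel

/-- the matrix of `d` -/
def dM : Mat 6 := ![![1, 0, 1, 1, 0, 0], ![0, -1, 0, -1, 0, 0], ![0, 0, -1, -1, 0, 0], ![0, 1, 1, 2, 1, 0], ![0, 0, 0, -1, -1, 0], ![0, 0, 0, 1, 1, 1]]

/-- the element -/
noncomputable def d : CoxeterMatrix.E₆.Group := CoxeterMatrix.E₆.toCoxeterSystem.wordProd (dL.map Prod.fst)

theorem is_d (hp : IsType chevE6 6 CoxeterMatrix.E₆) : IsMat hp d dM := by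
  have h := isMat_chain hp hA dOK
  have e : hd dL = dM := rfl
  rw [e] at h
  exact h

/-- the chain of `c` -/
def cL : List (Fin 6 × Mat 6) := [
  (0, ![![0, 0, 1, 1, 0, 0], ![0, -1, 0, -1, 0, 0], ![-1, 0, -1, -1, 0, 0], ![1, 1, 1, 2, 1, 1], ![0, 0, 0, -1, -1, -1], ![0, 0, 0, 1, 1, 0]]),
  (3, ![![1, 0, 1, 1, 0, 0], ![0, -1, 0, -1, 0, 0], ![0, 0, -1, -1, 0, 0], ![0, 1, 1, 2, 1, 1], ![0, 0, 0, -1, -1, -1], ![0, 0, 0, 1, 1, 0]]),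
  (5, ![![1, 0, 1, 0, 0, 0], ![0, -1, 0, 0, 0, 0], ![0, 0, -1, 0, 0, 0], ![0, 1, 1, 1, 1, 1], ![0, 0, 0, 0, -1, -1], ![0, 0, 0, 0, 1, 0]]),
  (1, ![![1, 0, 1, 0, 0, 0], ![0, -1, 0, 0, 0, 0], ![0, 0, -1, 0, 0, 0], ![0, 1, 1, 1, 1, 0], ![0, 0, 0, 0, -1, 0], ![0, 0, 0, 0, 1, 1]]),
  (2, ![![1, 0, 1, 0, 0, 0], ![0, 1, 0, 0, 0, 0], ![0, 0, -1, 0, 0, 0], ![0, 0, 1, 1, 1, 0], ![0, 0, 0, 0, -1, 0], ![0, 0, 0, 0, 1, 1]]),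
  (4, ![![1, 0, 0, 0, 0, 0], ![0, 1, 0, 0, 0, 0], ![0, 0, 1, 0, 0, 0], ![0, 0, 0, 1, 1, 0], ![0, 0, 0, 0, -1, 0], ![0, 0, 0, 0, 1, 1]])]

theorem cOK : ChainOK Am cL := by decide +kernel

/-- the matrix of `c` -/
def cM : Mat 6 := ![![0, 0, 1, 1, 0, 0], ![0, -1, 0, -1, 0, 0], ![-1, 0, -1, -1, 0, 0], ![1, 1, 1, 2, 1, 1], ![0, 0, 0, -1, -1, -1], ![0, 0, 0, 1, 1, 0]]

/-- the element -/
noncomputable def c : CoxeterMatrix.E₆.Group := CoxeterMatrix.E₆.toCoxeterSystem.wordProd (cL.map Prod.fst)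

theorem is_c (hp : IsType chevE6 6 CoxeterMatrix.E₆) : IsMat hp c cM := by
  have h := isMat_chain hp hA cOK
  have e : hd cL = cM := rfl
  rw [e] at h
  exact h

/-- the chain of `a` -/
def aL : List (Fin 6 × Mat 6) := [
  (1, ![![1, 0, 0, 0, 0, 0], ![0, -1, 0, 0, 0, 0], ![0, 0, 1, 0, 0, 0], ![0, 1, 0, 1, 0, 0], ![0, 0, 0, 0, 1, 0], ![0, 0, 0, 0, 0, 1]])]

theorem aOK : ChainOK Am aL := by decide +kernel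

/-- the matrix of `a` -/
def aM : Mat 6 := ![![1, 0, 0, 0, 0, 0], ![0, -1, 0, 0, 0, 0], ![0, 0, 1, 0, 0, 0], ![0, 1, 0, 1, 0, 0], ![0, 0, 0, 0, 1, 0], ![0, 0, 0, 0, 0, 1]]

/-- the element -/
noncomputable def a : CoxeterMatrix.E₆.Group := CoxeterMatrix.E₆.toCoxeterSystem.wordProd (aL.map Prod.fst)

theorem is_a (hp : IsType chevE6 6 CoxeterMatrix.E₆) : IsMat hp a aM := by
  have h := isMat_chain hp hA aOK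
  have e : hd aL = aM := rfl
  rw [e] at h
  exact h

/-- the chain of `b` -/
def bL : List (Fin 6 × Mat 6) := [
  (3, ![![1, 0, 0, 0, 0, 0], ![0, 1, 0, 1, 0, 0], ![0, 0, 1, 1, 0, 0], ![0, 0, 0, -1, 0, 0], ![0, 0, 0, 1, 1, 0], ![0, 0, 0, 0, 0, 1]])]

theorem bOK : ChainOK Am bL := by decide +kernel

/-- the matrix of `b` -/
def bM : Mat 6 := ![![1, 0, 0, 0, 0, 0], ![0, 1, 0, 1, 0, 0], ![0, 0, 1, 1, 0, 0], ![0, 0, 0, -1, 0, 0], ![0, 0, 0, 1, 1, 0], ![0, 0, 0, 0, 0, 1]]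

/-- the element -/
noncomputable def b : CoxeterMatrix.E₆.Group := CoxeterMatrix.E₆.toCoxeterSystem.wordProd (bL.map Prod.fst)

theorem is_b (hp : IsType chevE6 6 CoxeterMatrix.E₆) : IsMat hp b bM := by
  have h := isMat_chain hp hA bOK
  have e : hd bL = bM := rfl
  rw [e] at h
  exact h

/-- the matrix of `d2` -/
def d2M : Mat 6 := ![![1, 1, 1, 2, 1, 0], ![0, 0, -1, -1, -1, 0], ![0, -1, 0, -1, -1, 0], ![0, 1, 1, 1, 1, 0], ![0, -1, -1, -1, 0, 0], ![0, 1, 1, 2, 1, 1]]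

/-- the element -/
noncomputable def d2 : CoxeterMatrix.E₆.Group := d * d

theorem is_d2 (hp : IsType chevE6 6 CoxeterMatrix.E₆) : IsMat hp d2 d2M :=
  (is_d hp).mul (is_d hp) (by decide +kernel)

/-- the matrix of `d3` -/
def d3M : Mat 6 := ![![1, 1, 2, 2, 1, 0], ![0, -1, 0, 0, 0, 0], ![0, 0, -1, 0, 0, 0], ![0, 0, 0, -1, 0, 0], ![0, 0, 0, 0, -1, 0], ![0, 1, 1, 2, 2, 1]]

/-- the element -/
noncomputable def d3 : CoxeterMatrix.E₆.Group := d2 * d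

theorem is_d3 (hp : IsType chevE6 6 CoxeterMatrix.E₆) : IsMat hp d3 d3M :=
  (is_d2 hp).mul (is_d hp) (by decide +kernel)

/-- the matrix of `c2` -/
def c2M : Mat 6 := ![![0, 1, 0, 1, 1, 1], ![-1, 0, -1, -1, -1, -1], ![0, -1, -1, -2, -1, -1], ![1, 1, 2, 3, 2, 1], ![-1, -1, -1, -2, -1, 0], ![1, 1, 1, 1, 0, 0]]

/-- the element -/
noncomputable def c2 : CoxeterMatrix.E₆.Group := c * c

theorem is_c2 (hp : IsType chevE6 6 CoxeterMatrix.E₆) : IsMat hp c2 c2M :=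
  (is_c hp).mul (is_c hp) (by decide +kernel)

/-- the matrix of `c3` -/
def c3M : Mat 6 := ![![1, 0, 1, 1, 1, 0], ![0, -1, -1, -2, -1, 0], ![-1, -1, -1, -2, -2, -1], ![1, 2, 2, 3, 2, 1], ![-1, -1, -2, -2, -1, -1], ![0, 0, 1, 1, 1, 1]]

/-- the element -/
noncomputable def c3 : CoxeterMatrix.E₆.Group := c2 * c

theorem is_c3 (hp : IsType chevE6 6 CoxeterMatrix.E₆) : IsMat hp c3 c3M :=
  (is_c2 hp).mul (is_c hp) (by decide +kernel)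

/-- the matrix of `c6` -/
def c6M : Mat 6 := ![![0, 0, 0, 0, 0, -1], ![0, -1, 0, 0, 0, 0], ![0, 0, 0, 0, -1, 0], ![0, 0, 0, -1, 0, 0], ![0, 0, -1, 0, 0, 0], ![-1, 0, 0, 0, 0, 0]]

/-- the element -/
noncomputable def c6 : CoxeterMatrix.E₆.Group := c3 * c3

theorem is_c6 (hp : IsType chevE6 6 CoxeterMatrix.E₆) : IsMat hp c6 c6M :=
  (is_c3 hp).mul (is_c3 hp) (by decide +kernel)

/-- the matrix of `w` -/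
def wM : Mat 6 := ![![0, -1, -1, -2, -2, -1], ![0, 1, 0, 0, 0, 0], ![0, 0, 0, 0, 1, 0], ![0, 0, 0, 1, 0, 0], ![0, 0, 1, 0, 0, 0], ![-1, -1, -2, -2, -1, 0]]

/-- the element -/
noncomputable def w : CoxeterMatrix.E₆.Group := c6 * d3

theorem is_w (hp : IsType chevE6 6 CoxeterMatrix.E₆) : IsMat hp w wM :=
  (is_c6 hp).mul (is_d3 hp) (by decide +kernel)

/-- the matrix of `aa` -/
def aaM : Mat 6 := ![![1, 0, 0, 0, 0, 0], ![0, 1, 0, 0, 0, 0], ![0, 0, 1, 0, 0, 0], ![0, 0, 0, 1, 0, 0], ![0, 0, 0, 0, 1, 0], ![0, 0, 0, 0, 0, 1]]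

/-- the element -/
noncomputable def aa : CoxeterMatrix.E₆.Group := a * a

theorem is_aa (hp : IsType chevE6 6 CoxeterMatrix.E₆) : IsMat hp aa aaM :=
  (is_a hp).mul (is_a hp) (by decide +kernel)

/-- the matrix of `bb` -/
def bbM : Mat 6 := ![![1, 0, 0, 0, 0, 0], ![0, 1, 0, 0, 0, 0], ![0, 0, 1, 0, 0, 0], ![0, 0, 0, 1, 0, 0], ![0, 0, 0, 0, 1, 0], ![0, 0, 0, 0, 0, 1]]

/-- the element -/
noncomputable def bb : CoxeterMatrix.E₆.Group := b * b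

theorem is_bb (hp : IsType chevE6 6 CoxeterMatrix.E₆) : IsMat hp bb bbM :=
  (is_b hp).mul (is_b hp) (by decide +kernel)

/-- the matrix of `ab` -/
def abM : Mat 6 := ![![1, 0, 0, 0, 0, 0], ![0, 0, 0, 1, 0, 0], ![0, 1, 1, 1, 0, 0], ![0, -1, 0, -1, 0, 0], ![0, 1, 0, 1, 1, 0], ![0, 0, 0, 0, 0, 1]]

/-- the element -/
noncomputable def ab : CoxeterMatrix.E₆.Group := a * b

theorem is_ab (hp : IsType chevE6 6 CoxeterMatrix.E₆) : IsMat hp ab abM :=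
  (is_a hp).mul (is_b hp) (by decide +kernel)

/-- the matrix of `aba` -/
def abaM : Mat 6 := ![![1, 0, 0, 0, 0, 0], ![0, 0, 0, -1, 0, 0], ![0, 1, 1, 1, 0, 0], ![0, -1, 0, 0, 0, 0], ![0, 1, 0, 1, 1, 0], ![0, 0, 0, 0, 0, 1]]

/-- the element -/
noncomputable def aba : CoxeterMatrix.E₆.Group := ab * a

theorem is_aba (hp : IsType chevE6 6 CoxeterMatrix.E₆) : IsMat hp aba abaM :=
  (is_ab hp).mul (is_a hp) (by decide +kernel)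

/-- the matrix of `k` -/
def kM : Mat 6 := ![![1, 0, 0, 0, 0, 0], ![0, -1, 0, -1, 0, 0], ![0, 0, 1, 1, 0, 0], ![0, 1, 0, 0, 0, 0], ![0, 0, 0, 1, 1, 0], ![0, 0, 0, 0, 0, 1]]

/-- the element -/
noncomputable def k : CoxeterMatrix.E₆.Group := aba * b

theorem is_k (hp : IsType chevE6 6 CoxeterMatrix.E₆) : IsMat hp k kM :=
  (is_aba hp).mul (is_b hp) (by decide +kernel)

theorem d2_pow (hp : IsType chevE6 6 CoxeterMatrix.E₆) : d2 ^ 3 = 1 :=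
  pow_three_eq_one (is_d2 hp) (V2 := ![![1, 1, 1, 1, 1, 0], ![0, 1, 0, 1, 0, 0], ![0, 0, 1, 1, 0, 0], ![0, -1, -1, -2, -1, 0], ![0, 0, 0, 1, 1, 0], ![0, 1, 1, 1, 1, 1]])
    (by decide +kernel) (by decide +kernel)

theorem k_pow (hp : IsType chevE6 6 CoxeterMatrix.E₆) : k ^ 3 = 1 :=
  pow_three_eq_one (is_k hp) (V2 := ![![1, 0, 0, 0, 0, 0], ![0, 0, 0, 1, 0, 0], ![0, 1, 1, 1, 0, 0], ![0, -1, 0, -1, 0, 0], ![0, 1, 0, 1, 1, 0], ![0, 0, 0, 0, 0, 1]])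
    (by decide +kernel) (by decide +kernel)

theorem cert2 : CertOK 6 3 (fun j m => if j = m then 1 else 0)
    d3M
    ![![1, 1, 2, 2, 1, 0], ![0, -1, 0, 0, 0, 0], ![0, 0, -1, 0, 0, 0], ![0, 0, 0, -1, 0, 0], ![0, 0, 0, 0, -1, 0], ![0, 1, 1, 2, 2, 1]] d2M ![0, 1, 0, 1, 0, 0] (-1) := by
  decide +kernel

theorem tw1 : CertOK 6 3 ![![0, 0, 0, 0, 0, 1], ![0, 1, 0, 0, 0, 0], ![0, 0, 0, 0, 1, 0], ![0, 0, 0, 1, 0, 0], ![0, 0, 1, 0, 0, 0], ![1, 0, 0, 0, 0, 0]]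
    wM
    ![![-1, -1, -2, -2, -1, 0], ![0, 1, 0, 0, 0, 0], ![0, 0, 1, 0, 0, 0], ![0, 0, 0, 1, 0, 0], ![0, 0, 0, 0, 1, 0], ![0, -1, -1, -2, -2, -1]] d2M ![0, 1, 0, 1, 0, 0] (1) := by
  decide +kernel

theorem kc : CertOK 6 3 (fun j m => if j = m then 1 else 0)
    (fun j m => if j = m then 1 else 0)
    ![![1, 0, 0, 0, 0, 0], ![0, 1, 0, 0, 0, 0], ![0, 0, 1, 0, 0, 0], ![0, 0, 0, 1, 0, 0], ![0, 0, 0, 0, 1, 0], ![0, 0, 0, 0, 0, 1]] kM ![0, 1, 0, 0, 0, 0] (1) := by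
  decide +kernel

end E6

namespace E7

/-- the Cartan matrix -/
def Am : Mat 7 := ![![2, 0, -1, 0, 0, 0, 0], ![0, 2, 0, -1, 0, 0, 0], ![-1, 0, 2, -1, 0, 0, 0], ![0, -1, -1, 2, -1, 0, 0], ![0, 0, 0, -1, 2, -1, 0], ![0, 0, 0, 0, -1, 2, -1], ![0, 0, 0, 0, 0, -1, 2]]

theorem hA : ∀ i j, Am i j = cartanOf chevE7 7 i j := by decide +kernel

/-- the chain of `c` -/
def cL : List (Fin 7 × Mat 7) := [
  (0, ![![0, 0, 1, 0, 0, 0, 0], ![1, 0, 1, 1, 0, 0, 0], ![0, 1, 0, 1, 0, 0, 0], ![0, 0, 0, 0, 1, 0, 0], ![0, 0, 0, 0, 0, 1, 0], ![0, 0, 0, 0, 0, 0, 1], ![-1, -1, -1, -1, -1, -1, -1]]),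
  (1, ![![1, 0, 1, 0, 0, 0, 0], ![0, 0, 1, 1, 0, 0, 0], ![0, 1, 0, 1, 0, 0, 0], ![0, 0, 0, 0, 1, 0, 0], ![0, 0, 0, 0, 0, 1, 0], ![0, 0, 0, 0, 0, 0, 1], ![0, -1, -1, -1, -1, -1, -1]]),
  (2, ![![1, 0, 1, 0, 0, 0, 0], ![0, 1, 1, 1, 0, 0, 0], ![0, 0, 0, 1, 0, 0, 0], ![0, 0, 0, 0, 1, 0, 0], ![0, 0, 0, 0, 0, 1, 0], ![0, 0, 0, 0, 0, 0, 1], ![0, 0, -1, -1, -1, -1, -1]]),
  (3, ![![1, 0, 0, 0, 0, 0, 0], ![0, 1, 0, 1, 0, 0, 0], ![0, 0, 1, 1, 0, 0, 0], ![0, 0, 0, 0, 1, 0, 0], ![0, 0, 0, 0, 0, 1, 0], ![0, 0, 0, 0, 0, 0, 1], ![0, 0, 0, -1, -1, -1, -1]]),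
  (4, ![![1, 0, 0, 0, 0, 0, 0], ![0, 1, 0, 0, 0, 0, 0], ![0, 0, 1, 0, 0, 0, 0], ![0, 0, 0, 1, 1, 0, 0], ![0, 0, 0, 0, 0, 1, 0], ![0, 0, 0, 0, 0, 0, 1], ![0, 0, 0, 0, -1, -1, -1]]),
  (5, ![![1, 0, 0, 0, 0, 0, 0], ![0, 1, 0, 0, 0, 0, 0], ![0, 0, 1, 0, 0, 0, 0], ![0, 0, 0, 1, 0, 0, 0], ![0, 0, 0, 0, 1, 1, 0], ![0, 0, 0, 0, 0, 0, 1], ![0, 0, 0, 0, 0, -1, -1]]),
  (6, ![![1, 0, 0, 0, 0, 0, 0], ![0, 1, 0, 0, 0, 0, 0], ![0, 0, 1, 0, 0, 0, 0], ![0, 0, 0, 1, 0, 0, 0], ![0, 0, 0, 0, 1, 0, 0], ![0, 0, 0, 0, 0, 1, 1], ![0, 0, 0, 0, 0, 0, -1]])]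

theorem cOK : ChainOK Am cL := by decide +kernel

/-- the matrix of `c` -/
def cM : Mat 7 := ![![0, 0, 1, 0, 0, 0, 0], ![1, 0, 1, 1, 0, 0, 0], ![0, 1, 0, 1, 0, 0, 0], ![0, 0, 0, 0, 1, 0, 0], ![0, 0, 0, 0, 0, 1, 0], ![0, 0, 0, 0, 0, 0, 1], ![-1, -1, -1, -1, -1, -1, -1]]

/-- the element -/
noncomputable def c : CoxeterMatrix.E₇.Group := CoxeterMatrix.E₇.toCoxeterSystem.wordProd (cL.map Prod.fst)

theorem is_c (hp : IsType chevE7 7 CoxeterMatrix.E₇) : IsMat hp c cM := by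
  have h := isMat_chain hp hA cOK
  have e : hd cL = cM := rfl
  rw [e] at h
  exact h

/-- the matrix of `c2` -/
def c2M : Mat 7 := ![![0, 1, 0, 1, 0, 0, 0], ![0, 1, 1, 1, 1, 0, 0], ![1, 0, 1, 1, 1, 0, 0], ![0, 0, 0, 0, 0, 1, 0], ![0, 0, 0, 0, 0, 0, 1], ![-1, -1, -1, -1, -1, -1, -1], ![0, 0, -1, -1, 0, 0, 0]]

/-- the element -/
noncomputable def c2 : CoxeterMatrix.E₇.Group := c * c

theorem is_c2 (hp : IsType chevE7 7 CoxeterMatrix.E₇) : IsMat hp c2 c2M :=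
  (is_c hp).mul (is_c hp) (by decide +kernel)

/-- the matrix of `c3` -/
def c3M : Mat 7 := ![![1, 0, 1, 1, 1, 0, 0], ![1, 1, 1, 2, 1, 1, 0], ![0, 1, 1, 1, 1, 1, 0], ![0, 0, 0, 0, 0, 0, 1], ![-1, -1, -1, -1, -1, -1, -1], ![0, 0, -1, -1, 0, 0, 0], ![0, -1, 0, -1, -1, 0, 0]]

/-- the element -/
noncomputable def c3 : CoxeterMatrix.E₇.Group := c2 * c

theorem is_c3 (hp : IsType chevE7 7 CoxeterMatrix.E₇) : IsMat hp c3 c3M :=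
  (is_c2 hp).mul (is_c hp) (by decide +kernel)

/-- the matrix of `c6` -/
def c6M : Mat 7 := ![![0, 0, 1, 1, 1, 0, 0], ![1, 1, 1, 2, 2, 1, 1], ![0, 1, 0, 1, 1, 1, 0], ![0, -1, 0, -1, -1, 0, 0], ![-1, 0, -1, -1, -1, -1, 0], ![0, -1, -1, -1, -1, -1, -1], ![0, 0, 0, -1, 0, 0, 0]]

/-- the element -/
noncomputable def c6 : CoxeterMatrix.E₇.Group := c3 * c3

theorem is_c6 (hp : IsType chevE7 7 CoxeterMatrix.E₇) : IsMat hp c6 c6M :=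
  (is_c3 hp).mul (is_c3 hp) (by decide +kernel)

/-- the matrix of `c9` -/
def c9M : Mat 7 := ![![-1, 0, 0, 0, 0, 0, 0], ![0, -1, 0, 0, 0, 0, 0], ![0, 0, -1, 0, 0, 0, 0], ![0, 0, 0, -1, 0, 0, 0], ![0, 0, 0, 0, -1, 0, 0], ![0, 0, 0, 0, 0, -1, 0], ![0, 0, 0, 0, 0, 0, -1]]

/-- the element -/
noncomputable def c9 : CoxeterMatrix.E₇.Group := c6 * c3

theorem is_c9 (hp : IsType chevE7 7 CoxeterMatrix.E₇) : IsMat hp c9 c9M :=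
  (is_c6 hp).mul (is_c3 hp) (by decide +kernel)

theorem c6_pow (hp : IsType chevE7 7 CoxeterMatrix.E₇) : c6 ^ 3 = 1 :=
  pow_three_eq_one (is_c6 hp) (V2 := ![![-1, 0, -1, -1, -1, 0, 0], ![-1, -1, -1, -2, -1, -1, 0], ![0, -1, -1, -1, -1, -1, 0], ![0, 0, 0, 0, 0, 0, -1], ![1, 1, 1, 1, 1, 1, 1], ![0, 0, 1, 1, 0, 0, 0], ![0, 1, 0, 1, 1, 0, 0]])
    (by decide +kernel) (by decide +kernel)

theorem cert1 : CertOK 7 3 (fun j m => if j = m then 1 else 0)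
    (fun j m => if j = m then 1 else 0)
    ![![1, 0, 0, 0, 0, 0, 0], ![0, 1, 0, 0, 0, 0, 0], ![0, 0, 1, 0, 0, 0, 0], ![0, 0, 0, 1, 0, 0, 0], ![0, 0, 0, 0, 1, 0, 0], ![0, 0, 0, 0, 0, 1, 0], ![0, 0, 0, 0, 0, 0, 1]] c6M ![1, 0, 0, 0, 0, 0, 0] (1) := by
  decide +kernel

theorem cert2 : CertOK 7 3 (fun j m => if j = m then 1 else 0)
    c9M
    ![![-1, 0, 0, 0, 0, 0, 0], ![0, -1, 0, 0, 0, 0, 0], ![0, 0, -1, 0, 0, 0, 0], ![0, 0, 0, -1, 0, 0, 0], ![0, 0, 0, 0, -1, 0, 0], ![0, 0, 0, 0, 0, -1, 0], ![0, 0, 0, 0, 0, 0, -1]] c6M ![1, 0, 0, 0, 0, 0, 0] (-1) := by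
  decide +kernel

end E7

namespace E8

/-- the Cartan matrix -/
def Am : Mat 8 := ![![2, 0, -1, 0, 0, 0, 0, 0], ![0, 2, 0, -1, 0, 0, 0, 0], ![-1, 0, 2, -1, 0, 0, 0, 0], ![0, -1, -1, 2, -1, 0, 0, 0], ![0, 0, 0, -1, 2, -1, 0, 0], ![0, 0, 0, 0, -1, 2, -1, 0], ![0, 0, 0, 0, 0, -1, 2, -1], ![0, 0, 0, 0, 0, 0, -1, 2]]

theorem hA : ∀ i j, Am i j = cartanOf chevE8 8 i j := by decide +kernel

/-- the chain of `c` -/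
def cL : List (Fin 8 × Mat 8) := [
  (0, ![![0, 0, 1, 0, 0, 0, 0, 0], ![1, 0, 1, 1, 0, 0, 0, 0], ![0, 1, 0, 1, 0, 0, 0, 0], ![0, 0, 0, 0, 1, 0, 0, 0], ![0, 0, 0, 0, 0, 1, 0, 0], ![0, 0, 0, 0, 0, 0, 1, 0], ![0, 0, 0, 0, 0, 0, 0, 1], ![-1, -1, -1, -1, -1, -1, -1, -1]]),
  (1, ![![1, 0, 1, 0, 0, 0, 0, 0], ![0, 0, 1, 1, 0, 0, 0, 0], ![0, 1, 0, 1, 0, 0, 0, 0], ![0, 0, 0, 0, 1, 0, 0, 0], ![0, 0, 0, 0, 0, 1, 0, 0], ![0, 0, 0, 0, 0, 0, 1, 0], ![0, 0, 0, 0, 0, 0, 0, 1], ![0, -1, -1, -1, -1, -1, -1, -1]]),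
  (2, ![![1, 0, 1, 0, 0, 0, 0, 0], ![0, 1, 1, 1, 0, 0, 0, 0], ![0, 0, 0, 1, 0, 0, 0, 0], ![0, 0, 0, 0, 1, 0, 0, 0], ![0, 0, 0, 0, 0, 1, 0, 0], ![0, 0, 0, 0, 0, 0, 1, 0], ![0, 0, 0, 0, 0, 0, 0, 1], ![0, 0, -1, -1, -1, -1, -1, -1]]),
  (3, ![![1, 0, 0, 0, 0, 0, 0, 0], ![0, 1, 0, 1, 0, 0, 0, 0], ![0, 0, 1, 1, 0, 0, 0, 0], ![0, 0, 0, 0, 1, 0, 0, 0], ![0, 0, 0, 0, 0, 1, 0, 0], ![0, 0, 0, 0, 0, 0, 1, 0], ![0, 0, 0, 0, 0, 0, 0, 1], ![0, 0, 0, -1, -1, -1, -1, -1]]),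
  (4, ![![1, 0, 0, 0, 0, 0, 0, 0], ![0, 1, 0, 0, 0, 0, 0, 0], ![0, 0, 1, 0, 0, 0, 0, 0], ![0, 0, 0, 1, 1, 0, 0, 0], ![0, 0, 0, 0, 0, 1, 0, 0], ![0, 0, 0, 0, 0, 0, 1, 0], ![0, 0, 0, 0, 0, 0, 0, 1], ![0, 0, 0, 0, -1, -1, -1, -1]]),
  (5, ![![1, 0, 0, 0, 0, 0, 0, 0], ![0, 1, 0, 0, 0, 0, 0, 0], ![0, 0, 1, 0, 0, 0, 0, 0], ![0, 0, 0, 1, 0, 0, 0, 0], ![0, 0, 0, 0, 1, 1, 0, 0], ![0, 0, 0, 0, 0, 0, 1, 0], ![0, 0, 0, 0, 0, 0, 0, 1], ![0, 0, 0, 0, 0, -1, -1, -1]]),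
  (6, ![![1, 0, 0, 0, 0, 0, 0, 0], ![0, 1, 0, 0, 0, 0, 0, 0], ![0, 0, 1, 0, 0, 0, 0, 0], ![0, 0, 0, 1, 0, 0, 0, 0], ![0, 0, 0, 0, 1, 0, 0, 0], ![0, 0, 0, 0, 0, 1, 1, 0], ![0, 0, 0, 0, 0, 0, 0, 1], ![0, 0, 0, 0, 0, 0, -1, -1]]),
  (7, ![![1, 0, 0, 0, 0, 0, 0, 0], ![0, 1, 0, 0, 0, 0, 0, 0], ![0, 0, 1, 0, 0, 0, 0, 0], ![0, 0, 0, 1, 0, 0, 0, 0], ![0, 0, 0, 0, 1, 0, 0, 0], ![0, 0, 0, 0, 0, 1, 0, 0], ![0, 0, 0, 0, 0, 0, 1, 1], ![0, 0, 0, 0, 0, 0, 0, -1]])]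

theorem cOK : ChainOK Am cL := by decide +kernel

/-- the matrix of `c` -/
def cM : Mat 8 := ![![0, 0, 1, 0, 0, 0, 0, 0], ![1, 0, 1, 1, 0, 0, 0, 0], ![0, 1, 0, 1, 0, 0, 0, 0], ![0, 0, 0, 0, 1, 0, 0, 0], ![0, 0, 0, 0, 0, 1, 0, 0], ![0, 0, 0, 0, 0, 0, 1, 0], ![0, 0, 0, 0, 0, 0, 0, 1], ![-1, -1, -1, -1, -1, -1, -1, -1]]

/-- the element -/
noncomputable def c : CoxeterMatrix.E₈.Group := CoxeterMatrix.E₈.toCoxeterSystem.wordProd (cL.map Prod.fst)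

theorem is_c (hp : IsType chevE8 8 CoxeterMatrix.E₈) : IsMat hp c cM := by
  have h := isMat_chain hp hA cOK
  have e : hd cL = cM := rfl
  rw [e] at h
  exact h

/-- the chain of `u` -/
def uL : List (Fin 8 × Mat 8) := [
  (3, ![![0, 1, 1, 2, 1, 0, 0, 0], ![0, 0, 0, 0, 1, 0, 0, 0], ![-1, -1, -1, -2, -1, 0, 0, 0], ![1, 1, 1, 2, 1, 1, 0, 0], ![0, 0, 0, 0, 0, 0, 1, 0], ![0, 0, 0, 0, 0, 0, 0, 1], ![0, -1, 0, -1, -1, -1, -1, -1], ![0, 1, 0, 0, 0, 0, 0, 0]]),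
  (1, ![![0, 1, 1, 1, 1, 0, 0, 0], ![0, 0, 0, 1, 1, 0, 0, 0], ![-1, -1, -1, -1, -1, 0, 0, 0], ![1, 1, 1, 1, 1, 1, 0, 0], ![0, 0, 0, 0, 0, 0, 1, 0], ![0, 0, 0, 0, 0, 0, 0, 1], ![0, -1, 0, -1, -1, -1, -1, -1], ![0, 1, 0, 1, 0, 0, 0, 0]]),
  (4, ![![0, 0, 1, 1, 1, 0, 0, 0], ![0, 1, 0, 1, 1, 0, 0, 0], ![-1, 0, -1, -1, -1, 0, 0, 0], ![1, 0, 1, 1, 1, 1, 0, 0], ![0, 0, 0, 0, 0, 0, 1, 0], ![0, 0, 0, 0, 0, 0, 0, 1], ![0, 0, 0, -1, -1, -1, -1, -1], ![0, 0, 0, 1, 0, 0, 0, 0]]),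
  (5, ![![0, 0, 1, 1, 0, 0, 0, 0], ![0, 1, 0, 1, 0, 0, 0, 0], ![-1, 0, -1, -1, 0, 0, 0, 0], ![1, 0, 1, 1, 1, 1, 0, 0], ![0, 0, 0, 0, 0, 0, 1, 0], ![0, 0, 0, 0, 0, 0, 0, 1], ![0, 0, 0, -1, -1, -1, -1, -1], ![0, 0, 0, 1, 1, 0, 0, 0]]),
  (3, ![![0, 0, 1, 1, 0, 0, 0, 0], ![0, 1, 0, 1, 0, 0, 0, 0], ![-1, 0, -1, -1, 0, 0, 0, 0], ![1, 0, 1, 1, 1, 0, 0, 0], ![0, 0, 0, 0, 0, 1, 1, 0], ![0, 0, 0, 0, 0, 0, 0, 1], ![0, 0, 0, -1, -1, -1, -1, -1], ![0, 0, 0, 1, 1, 1, 0, 0]]),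
  (0, ![![0, 0, 1, 0, 0, 0, 0, 0], ![0, 1, 0, 0, 0, 0, 0, 0], ![-1, 0, -1, 0, 0, 0, 0, 0], ![1, 0, 1, 1, 1, 0, 0, 0], ![0, 0, 0, 0, 0, 1, 1, 0], ![0, 0, 0, 0, 0, 0, 0, 1], ![0, 0, 0, 0, -1, -1, -1, -1], ![0, 0, 0, 0, 1, 1, 0, 0]]),
  (4, ![![1, 0, 1, 0, 0, 0, 0, 0], ![0, 1, 0, 0, 0, 0, 0, 0], ![0, 0, -1, 0, 0, 0, 0, 0], ![0, 0, 1, 1, 1, 0, 0, 0], ![0, 0, 0, 0, 0, 1, 1, 0], ![0, 0, 0, 0, 0, 0, 0, 1], ![0, 0, 0, 0, -1, -1, -1, -1], ![0, 0, 0, 0, 1, 1, 0, 0]]),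
  (6, ![![1, 0, 1, 0, 0, 0, 0, 0], ![0, 1, 0, 0, 0, 0, 0, 0], ![0, 0, -1, 0, 0, 0, 0, 0], ![0, 0, 1, 1, 0, 0, 0, 0], ![0, 0, 0, 0, 1, 1, 1, 0], ![0, 0, 0, 0, 0, 0, 0, 1], ![0, 0, 0, 0, 0, -1, -1, -1], ![0, 0, 0, 0, 0, 1, 0, 0]]),
  (2, ![![1, 0, 1, 0, 0, 0, 0, 0], ![0, 1, 0, 0, 0, 0, 0, 0], ![0, 0, -1, 0, 0, 0, 0, 0], ![0, 0, 1, 1, 0, 0, 0, 0], ![0, 0, 0, 0, 1, 1, 0, 0], ![0, 0, 0, 0, 0, 0, 1, 1], ![0, 0, 0, 0, 0, -1, -1, -1], ![0, 0, 0, 0, 0, 1, 1, 0]]),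
  (5, ![![1, 0, 0, 0, 0, 0, 0, 0], ![0, 1, 0, 0, 0, 0, 0, 0], ![0, 0, 1, 0, 0, 0, 0, 0], ![0, 0, 0, 1, 0, 0, 0, 0], ![0, 0, 0, 0, 1, 1, 0, 0], ![0, 0, 0, 0, 0, 0, 1, 1], ![0, 0, 0, 0, 0, -1, -1, -1], ![0, 0, 0, 0, 0, 1, 1, 0]]),
  (7, ![![1, 0, 0, 0, 0, 0, 0, 0], ![0, 1, 0, 0, 0, 0, 0, 0], ![0, 0, 1, 0, 0, 0, 0, 0], ![0, 0, 0, 1, 0, 0, 0, 0], ![0, 0, 0, 0, 1, 0, 0, 0], ![0, 0, 0, 0, 0, 1, 1, 1], ![0, 0, 0, 0, 0, 0, -1, -1], ![0, 0, 0, 0, 0, 0, 1, 0]]),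
  (6, ![![1, 0, 0, 0, 0, 0, 0, 0], ![0, 1, 0, 0, 0, 0, 0, 0], ![0, 0, 1, 0, 0, 0, 0, 0], ![0, 0, 0, 1, 0, 0, 0, 0], ![0, 0, 0, 0, 1, 0, 0, 0], ![0, 0, 0, 0, 0, 1, 1, 0], ![0, 0, 0, 0, 0, 0, -1, 0], ![0, 0, 0, 0, 0, 0, 1, 1]])]

theorem uOK : ChainOK Am uL := by decide +kernel

/-- the matrix of `u` -/
def uM : Mat 8 := ![![0, 1, 1, 2, 1, 0, 0, 0], ![0, 0, 0, 0, 1, 0, 0, 0], ![-1, -1, -1, -2, -1, 0, 0, 0], ![1, 1, 1, 2, 1, 1, 0, 0], ![0, 0, 0, 0, 0, 0, 1, 0], ![0, 0, 0, 0, 0, 0, 0, 1], ![0, -1, 0, -1, -1, -1, -1, -1], ![0, 1, 0, 0, 0, 0, 0, 0]]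

/-- the element -/
noncomputable def u : CoxeterMatrix.E₈.Group := CoxeterMatrix.E₈.toCoxeterSystem.wordProd (uL.map Prod.fst)

theorem is_u (hp : IsType chevE8 8 CoxeterMatrix.E₈) : IsMat hp u uM := by
  have h := isMat_chain hp hA uOK
  have e : hd uL = uM := rfl
  rw [e] at h
  exact h

/-- the matrix of `c2` -/
def c2M : Mat 8 := ![![0, 1, 0, 1, 0, 0, 0, 0], ![0, 1, 1, 1, 1, 0, 0, 0], ![1, 0, 1, 1, 1, 0, 0, 0], ![0, 0, 0, 0, 0, 1, 0, 0], ![0, 0, 0, 0, 0, 0, 1, 0], ![0, 0, 0, 0, 0, 0, 0, 1], ![-1, -1, -1, -1, -1, -1, -1, -1], ![0, 0, -1, -1, 0, 0, 0, 0]]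

/-- the element -/
noncomputable def c2 : CoxeterMatrix.E₈.Group := c * c

theorem is_c2 (hp : IsType chevE8 8 CoxeterMatrix.E₈) : IsMat hp c2 c2M :=
  (is_c hp).mul (is_c hp) (by decide +kernel)

/-- the matrix of `c4` -/
def c4M : Mat 8 := ![![0, 1, 1, 1, 1, 1, 0, 0], ![1, 1, 2, 2, 2, 1, 1, 0], ![1, 1, 1, 2, 1, 1, 1, 0], ![0, 0, 0, 0, 0, 0, 0, 1], ![-1, -1, -1, -1, -1, -1, -1, -1], ![0, 0, -1, -1, 0, 0, 0, 0], ![0, -1, 0, -1, -1, 0, 0, 0], ![-1, 0, -1, -1, -1, -1, 0, 0]]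

/-- the element -/
noncomputable def c4 : CoxeterMatrix.E₈.Group := c2 * c2

theorem is_c4 (hp : IsType chevE8 8 CoxeterMatrix.E₈) : IsMat hp c4 c4M :=
  (is_c2 hp).mul (is_c2 hp) (by decide +kernel)

/-- the matrix of `c5` -/
def c5M : Mat 8 := ![![1, 1, 1, 2, 1, 1, 1, 0], ![1, 2, 2, 3, 2, 2, 1, 1], ![1, 1, 2, 2, 2, 1, 1, 1], ![-1, -1, -1, -1, -1, -1, -1, -1], ![0, 0, -1, -1, 0, 0, 0, 0], ![0, -1, 0, -1, -1, 0, 0, 0], ![-1, 0, -1, -1, -1, -1, 0, 0], ![0, -1, -1, -1, -1, -1, -1, 0]]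

/-- the element -/
noncomputable def c5 : CoxeterMatrix.E₈.Group := c4 * c

theorem is_c5 (hp : IsType chevE8 8 CoxeterMatrix.E₈) : IsMat hp c5 c5M :=
  (is_c4 hp).mul (is_c hp) (by decide +kernel)

/-- the matrix of `c6` -/
def c6M : Mat 8 := ![![1, 1, 2, 2, 2, 1, 1, 1], ![1, 1, 2, 3, 2, 1, 1, 0], ![0, 1, 1, 2, 1, 1, 0, 0], ![0, 0, -1, -1, 0, 0, 0, 0], ![0, -1, 0, -1, -1, 0, 0, 0], ![-1, 0, -1, -1, -1, -1, 0, 0], ![0, -1, -1, -1, -1, -1, -1, 0], ![-1, -1, -1, -2, -1, -1, -1, -1]]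

/-- the element -/
noncomputable def c6 : CoxeterMatrix.E₈.Group := c4 * c2

theorem is_c6 (hp : IsType chevE8 8 CoxeterMatrix.E₈) : IsMat hp c6 c6M :=
  (is_c4 hp).mul (is_c2 hp) (by decide +kernel)

/-- the matrix of `c10` -/
def c10M : Mat 8 := ![![0, 1, 1, 2, 1, 1, 1, 0], ![1, 1, 2, 3, 2, 2, 1, 1], ![1, 1, 1, 2, 2, 1, 1, 1], ![-1, -1, -1, -2, -1, -1, -1, -1], ![0, 0, -1, -1, -1, 0, 0, 0], ![0, -1, 0, -1, -1, -1, 0, 0], ![-1, 0, -1, -1, -1, -1, -1, 0], ![0, -1, -1, -1, -1, -1, -1, -1]]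

/-- the element -/
noncomputable def c10 : CoxeterMatrix.E₈.Group := c5 * c5

theorem is_c10 (hp : IsType chevE8 8 CoxeterMatrix.E₈) : IsMat hp c10 c10M :=
  (is_c5 hp).mul (is_c5 hp) (by decide +kernel)

/-- the matrix of `c15` -/
def c15M : Mat 8 := ![![-1, 0, 0, 0, 0, 0, 0, 0], ![0, -1, 0, 0, 0, 0, 0, 0], ![0, 0, -1, 0, 0, 0, 0, 0], ![0, 0, 0, -1, 0, 0, 0, 0], ![0, 0, 0, 0, -1, 0, 0, 0], ![0, 0, 0, 0, 0, -1, 0, 0], ![0, 0, 0, 0, 0, 0, -1, 0], ![0, 0, 0, 0, 0, 0, 0, -1]]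

/-- the element -/
noncomputable def c15 : CoxeterMatrix.E₈.Group := c10 * c5

theorem is_c15 (hp : IsType chevE8 8 CoxeterMatrix.E₈) : IsMat hp c15 c15M :=
  (is_c10 hp).mul (is_c5 hp) (by decide +kernel)

/-- the matrix of `u2` -/
def u2M : Mat 8 := ![![1, 1, 1, 2, 2, 2, 1, 0], ![0, 0, 0, 0, 0, 0, 1, 0], ![-1, -2, -2, -4, -3, -2, -1, 0], ![1, 2, 2, 4, 3, 2, 1, 1], ![0, -1, 0, -1, -1, -1, -1, -1], ![0, 1, 0, 0, 0, 0, 0, 0], ![-1, -1, -1, -1, -1, 0, 0, 0], ![0, 0, 0, 0, 1, 0, 0, 0]]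

/-- the element -/
noncomputable def u2 : CoxeterMatrix.E₈.Group := u * u

theorem is_u2 (hp : IsType chevE8 8 CoxeterMatrix.E₈) : IsMat hp u2 u2M :=
  (is_u hp).mul (is_u hp) (by decide +kernel)

/-- the matrix of `u4` -/
def u4M : Mat 8 := ![![1, 2, 2, 3, 2, 2, 1, 0], ![-1, -1, -1, -1, -1, 0, 0, 0], ![-2, -3, -4, -6, -4, -3, -2, -1], ![2, 3, 4, 6, 5, 3, 2, 1], ![0, -1, -1, -2, -2, -1, -1, 0], ![0, 0, 0, 0, 0, 0, 1, 0], ![-1, 0, -1, -1, -1, -1, -1, 0], ![0, -1, 0, -1, -1, -1, -1, -1]]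

/-- the element -/
noncomputable def u4 : CoxeterMatrix.E₈.Group := u2 * u2

theorem is_u4 (hp : IsType chevE8 8 CoxeterMatrix.E₈) : IsMat hp u4 u4M :=
  (is_u2 hp).mul (is_u2 hp) (by decide +kernel)

/-- the matrix of `u5` -/
def u5M : Mat 8 := ![![1, 1, 2, 3, 3, 2, 1, 1], ![0, -1, -1, -2, -2, -1, -1, 0], ![-2, -3, -4, -6, -5, -4, -2, -1], ![2, 3, 4, 6, 5, 4, 3, 1], ![-1, 0, -1, -1, -1, -1, -1, 0], ![0, -1, 0, -1, -1, -1, -1, -1], ![0, 0, -1, -1, 0, 0, 0, 0], ![-1, -1, -1, -1, -1, 0, 0, 0]]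

/-- the element -/
noncomputable def u5 : CoxeterMatrix.E₈.Group := u4 * u

theorem is_u5 (hp : IsType chevE8 8 CoxeterMatrix.E₈) : IsMat hp u5 u5M :=
  (is_u4 hp).mul (is_u hp) (by decide +kernel)

theorem c10_pow (hp : IsType chevE8 8 CoxeterMatrix.E₈) : c10 ^ 3 = 1 :=
  pow_three_eq_one (is_c10 hp) (V2 := ![![-1, -1, -1, -2, -1, -1, -1, 0], ![-1, -2, -2, -3, -2, -2, -1, -1], ![-1, -1, -2, -2, -2, -1, -1, -1], ![1, 1, 1, 1, 1, 1, 1, 1], ![0, 0, 1, 1, 0, 0, 0, 0], ![0, 1, 0, 1, 1, 0, 0, 0], ![1, 0, 1, 1, 1, 1, 0, 0], ![0, 1, 1, 1, 1, 1, 1, 0]])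
    (by decide +kernel) (by decide +kernel)

theorem c6_pow (hp : IsType chevE8 8 CoxeterMatrix.E₈) : c6 ^ 5 = 1 :=
  pow_five_eq_one (is_c6 hp) (V2 := ![![0, 0, 1, 1, 1, 1, 0, 0], ![1, 1, 1, 2, 2, 2, 1, 1], ![0, 1, 0, 1, 1, 1, 1, 0], ![0, -1, 0, -1, -1, -1, 0, 0], ![-1, 0, -1, -1, -1, -1, -1, 0], ![0, -1, -1, -1, -1, -1, -1, -1], ![0, 0, 0, -1, 0, 0, 0, 0], ![0, 0, 0, 0, -1, 0, 0, 0]])
    (V4 := ![![-1, -1, -2, -2, -2, -2, -1, -1], ![-1, -2, -2, -3, -3, -2, -2, -1], ![0, -1, -1, -2, -1, -1, -1, 0], ![0, 1, 1, 1, 1, 1, 1, 0], ![1, 1, 1, 2, 1, 1, 1, 1], ![0, 0, 1, 1, 1, 0, 0, 0], ![0, 1, 0, 1, 1, 1, 0, 0], ![1, 0, 1, 1, 1, 1, 1, 0]])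
    (by decide +kernel) (by decide +kernel) (by decide +kernel)

theorem u4_pow (hp : IsType chevE8 8 CoxeterMatrix.E₈) : u4 ^ 5 = 1 :=
  pow_five_eq_one (is_u4 hp) (V2 := ![![0, 1, 1, 2, 2, 2, 2, 1], ![0, 0, 0, 0, 0, -1, 0, 0], ![-1, -2, -3, -4, -4, -3, -2, -1], ![1, 1, 2, 2, 2, 2, 1, 1], ![0, 0, 0, 0, 0, 0, 0, -1], ![-1, 0, -1, -1, -1, -1, -1, 0], ![0, -1, 0, 0, 0, 0, 0, 0], ![0, 0, -1, -1, 0, 0, 0, 0]])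
    (V4 := ![![-1, -2, -2, -3, -2, -2, -2, -1], ![1, 0, 1, 1, 1, 1, 1, 0], ![2, 3, 4, 6, 5, 4, 3, 2], ![-2, -2, -4, -5, -4, -3, -2, -1], ![0, 0, 1, 1, 0, 0, 0, 0], ![1, 1, 1, 1, 1, 0, 0, 0], ![0, 0, 0, 0, 0, 1, 0, 0], ![0, 1, 1, 2, 2, 1, 1, 0]])
    (by decide +kernel) (by decide +kernel) (by decide +kernel)

theorem cert1 : CertOK 8 3 (fun j m => if j = m then 1 else 0)
    (fun j m => if j = m then 1 else 0)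
    ![![1, 0, 0, 0, 0, 0, 0, 0], ![0, 1, 0, 0, 0, 0, 0, 0], ![0, 0, 1, 0, 0, 0, 0, 0], ![0, 0, 0, 1, 0, 0, 0, 0], ![0, 0, 0, 0, 1, 0, 0, 0], ![0, 0, 0, 0, 0, 1, 0, 0], ![0, 0, 0, 0, 0, 0, 1, 0], ![0, 0, 0, 0, 0, 0, 0, 1]] c10M ![1, 0, 0, 0, 0, 0, 0, 0] (1) := by
  decide +kernel

theorem cert2 : CertOK 8 3 (fun j m => if j = m then 1 else 0)
    c15M
    ![![-1, 0, 0, 0, 0, 0, 0, 0], ![0, -1, 0, 0, 0, 0, 0, 0], ![0, 0, -1, 0, 0, 0, 0, 0], ![0, 0, 0, -1, 0, 0, 0, 0], ![0, 0, 0, 0, -1, 0, 0, 0], ![0, 0, 0, 0, 0, -1, 0, 0], ![0, 0, 0, 0, 0, 0, -1, 0], ![0, 0, 0, 0, 0, 0, 0, -1]] c10M ![1, 0, 0, 0, 0, 0, 0, 0] (-1) := by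
  decide +kernel

theorem five1 : CertOK 8 5 (fun j m => if j = m then 1 else 0)
    (fun j m => if j = m then 1 else 0)
    ![![1, 0, 0, 0, 0, 0, 0, 0], ![0, 1, 0, 0, 0, 0, 0, 0], ![0, 0, 1, 0, 0, 0, 0, 0], ![0, 0, 0, 1, 0, 0, 0, 0], ![0, 0, 0, 0, 1, 0, 0, 0], ![0, 0, 0, 0, 0, 1, 0, 0], ![0, 0, 0, 0, 0, 0, 1, 0], ![0, 0, 0, 0, 0, 0, 0, 1]] c6M ![1, 0, 0, 0, 0, 0, 0, 0] (1) := by
  decide +kernel

theorem five4 : CertOK 8 5 (fun j m => if j = m then 1 else 0)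
    c15M
    ![![-1, 0, 0, 0, 0, 0, 0, 0], ![0, -1, 0, 0, 0, 0, 0, 0], ![0, 0, -1, 0, 0, 0, 0, 0], ![0, 0, 0, -1, 0, 0, 0, 0], ![0, 0, 0, 0, -1, 0, 0, 0], ![0, 0, 0, 0, 0, -1, 0, 0], ![0, 0, 0, 0, 0, 0, -1, 0], ![0, 0, 0, 0, 0, 0, 0, -1]] c6M ![1, 0, 0, 0, 0, 0, 0, 0] (-1) := by
  decide +kernel

theorem five2 : CertOK 8 5 (fun j m => if j = m then 1 else 0)
    u5M
    ![![1, 1, 2, 3, 3, 2, 1, 1], ![0, -1, -1, -2, -2, -1, -1, 0], ![-2, -3, -4, -6, -5, -4, -2, -1], ![2, 3, 4, 6, 5, 4, 3, 1], ![-1, 0, -1, -1, -1, -1, -1, 0], ![0, -1, 0, -1, -1, -1, -1, -1], ![0, 0, -1, -1, 0, 0, 0, 0], ![-1, -1, -1, -1, -1, 0, 0, 0]] u4M ![2, 2, 3, 2, 1, 0, 0, 0] (2) := by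
  decide +kernel

theorem five3 : CertOK 8 5 (fun j m => if j = m then 1 else 0)
    u5M
    ![![1, 1, 2, 3, 3, 2, 1, 1], ![0, -1, -1, -2, -2, -1, -1, 0], ![-2, -3, -4, -6, -5, -4, -2, -1], ![2, 3, 4, 6, 5, 4, 3, 1], ![-1, 0, -1, -1, -1, -1, -1, 0], ![0, -1, 0, -1, -1, -1, -1, -1], ![0, 0, -1, -1, 0, 0, 0, 0], ![-1, -1, -1, -1, -1, 0, 0, 0]] u4M ![1, 3, 4, 1, 1, 0, 0, 0] (3) := by
  decide +kernel

end E8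

end Cfsg.Agent.H795.NotAbData
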