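import Cfsg.Agent.H104.Closed
import Cfsg.Agent.H104.RowPSL
import Cfsg.Agent.H800.Sp.Base

/-!
# `AbIrr` and `NormOm` in the split case: `PSL_n(q)`, `p ∣ q - 1`, and `PSU_n(q)`, `p ∣ q + 1`

`HasMon p H` : the subgroup `H` of `SL_n(F)` contains all monomial matrices of determinant `1` whose nonzero entries are
`-1` or `p`-th roots of unity.
-/

set_option autoImplicit false
set_option linter.unusedSectionVars false

namespace Cfsg.Agent.H795.Split

open Matrix Subgroup

universe u

section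

variable {F : Type} [Field F] {n : ℕ}

/-- monomial matrices -/
def monM (d : Fin n → F) (σ : Equiv.Perm (Fin n)) : Matrix (Fin n) (Fin n) F :=
  diagonal d * σ.permMatrix F

theorem det_monM (d : Fin n → F) (σ : Equiv.Perm (Fin n)) :
    (monM d σ).det = (∏ i, d i) * ((Equiv.Perm.sign σ : ℤ) : F) := by
  rw [monM, det_mul, det_diagonal, det_permutation]

theorem monM_mul_diagonal (d β : Fin n → F) (σ : Equiv.Perm (Fin n)) :
    monM d σ * diagonal β = diagonal (fun i => β (σ i)) * monM d σ := by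
  rw [monM]
  ext i j
  rw [Matrix.mul_diagonal, Matrix.diagonal_mul, Matrix.diagonal_mul, Matrix.diagonal_mul]
  by_cases h : σ i = j
  · subst h
    ring
  · have h1 : (Equiv.Perm.permMatrix F σ) i j = 0 := by
      rw [Equiv.Perm.permMatrix, PEquiv.toMatrix_apply]
      simp [Equiv.toPEquiv_apply, h]
    rw [h1]
    ring

theorem monM_one (σ : Equiv.Perm (Fin n)) : monM (fun _ => (1 : F)) σ = σ.permMatrix F := by
  rw [monM, show (diagonal fun _ : Fin n => (1 : F)) = 1 from diagonal_one, one_mul]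

theorem monM_refl (d : Fin n → F) : monM d 1 = diagonal d := by
  rw [monM, permMatrix_one, mul_one]

/-- the matrices of `H` -/
def mt (H : Subgroup (SpecialLinearGroup (Fin n) F)) : H →* Matrix (Fin n) (Fin n) F :=
  (H104.RowPSL.slHom (Fin n)).comp H.subtype

theorem mt_inj (H : Subgroup (SpecialLinearGroup (Fin n) F)) : Function.Injective (mt H) := fun _ _ h =>
  Subtype.ext (Subtype.ext h)

theorem det_mt {H : Subgroup (SpecialLinearGroup (Fin n) F)} (x : H) : (mt H x).det = 1 :=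
  (x : SpecialLinearGroup (Fin n) F).det_coe

/-- `H` contains the monomial matrices of determinant `1` with entries `-1`, or `p`-th roots of unity -/
def HasMon (p : ℕ) (H : Subgroup (SpecialLinearGroup (Fin n) F)) : Prop :=
  ∀ (d : Fin n → F) (σ : Equiv.Perm (Fin n)), (monM d σ).det = 1 → (∀ i, d i = -1 ∨ d i ^ p = 1) →
    ∃ x : H, mt H x = monM d σ

variable {p : ℕ} [hp : Fact p.Prime] {H : Subgroup (SpecialLinearGroup (Fin n) F)}

theorem mt_inv_of_diag {x : H} {β : Fin n → F} (h : mt H x = diagonal β) :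
    mt H x⁻¹ = diagonal (fun i => (β i)⁻¹) := by
  have h1 : ∏ i, β i = 1 := by
    have := det_mt x
    rwa [h, det_diagonal] at this
  have h2 : ∀ i, β i ≠ 0 := fun i h0 => by
    have := Finset.prod_eq_zero (Finset.mem_univ i) h0
    rw [this] at h1
    exact zero_ne_one h1
  have h3 : mt H x * mt H x⁻¹ = 1 := by rw [← map_mul, mul_inv_cancel, map_one]
  have h4 : (diagonal (fun i => (β i)⁻¹) : Matrix (Fin n) (Fin n) F) * mt H x = 1 := by
    rw [h, diagonal_mul_diagonal, ← diagonal_one]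
    congr 1
    funext i
    exact inv_mul_cancel₀ (h2 i)
  exact (left_inv_eq_right_inv h4 h3).symm

theorem conj_diag {x y : H} {d β : Fin n → F} {σ : Equiv.Perm (Fin n)} (hx : mt H x = monM d σ)
    (hy : mt H y = diagonal β) : mt H (x * y * x⁻¹) = diagonal (fun i => β (σ i)) := by
  have h1 : mt H (x * y) = diagonal (fun i => β (σ i)) * mt H x := by
    rw [map_mul, hx, hy, monM_mul_diagonal]
  rw [map_mul, h1, mul_assoc, ← map_mul, mul_inv_cancel, map_one, mul_one]

/-- `diag(…, c, …, c⁻¹, …)` -/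
def tE (k l : Fin n) (c : F) : Fin n → F := fun i => if i = k then c else if i = l then c⁻¹ else 1

theorem prod_tE {k l : Fin n} (hkl : k ≠ l) {c : F} (hc : c ≠ 0) : ∏ i, tE k l c i = 1 := by
  have h1 : ∀ i, tE k l c i = (if i = k then c else 1) * (if i = l then c⁻¹ else 1) := by
    intro i
    unfold tE
    by_cases h1 : i = k
    · subst h1
      simp [hkl]
    · simp [h1]
  rw [Finset.prod_congr rfl fun i _ => h1 i, Finset.prod_mul_distrib, Finset.prod_ite_eq' Finset.univ k,
    Finset.prod_ite_eq' Finset.univ l]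
  simp [hc]

theorem ne_zero_of_pow {c : F} (hc : c ^ p = 1) : c ≠ 0 := by
  rintro rfl
  rw [zero_pow hp.out.ne_zero] at hc
  exact zero_ne_one hc

theorem tE_pow {k l : Fin n} {c : F} (hc : c ^ p = 1) (i : Fin n) : tE k l c i ^ p = 1 := by
  unfold tE
  split_ifs
  · exact hc
  · rw [inv_pow, hc, inv_one]
  · exact one_pow p

/-- sign vectors -/
theorem exists_mon (hH : HasMon p H) (hn : 0 < n) (σ : Equiv.Perm (Fin n)) :
    ∃ (d : Fin n → F) (x : H), mt H x = monM d σ := by
  rcases Int.units_eq_one_or (Equiv.Perm.sign σ) with h | h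
  · obtain ⟨x, hx⟩ := hH (fun _ => 1) σ (by rw [det_monM, h]; simp) (fun i => Or.inr (one_pow p))
    exact ⟨_, x, hx⟩
  · obtain ⟨x, hx⟩ := hH (fun i => if i = ⟨0, hn⟩ then -1 else 1) σ (by
      rw [det_monM, h, Finset.prod_ite_eq' Finset.univ]
      simp) (fun i => by
        split_ifs
        · exact Or.inl rfl
        · exact Or.inr (one_pow p))
    exact ⟨_, x, hx⟩

/-- diagonal elements -/
theorem exists_diag (hH : HasMon p H) {β : Fin n → F} (h : ∏ i, β i = 1) (hβ : ∀ i, β i ^ p = 1) :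
    ∃ x : H, mt H x = diagonal β := by
  obtain ⟨x, hx⟩ := hH β 1 (by rw [monM_refl, det_diagonal, h]) (fun i => Or.inr (hβ i))
  exact ⟨x, by rw [hx, monM_refl]⟩

theorem inv_ne_self (hp2 : p ≠ 2) {a : F} (ha : a ^ p = 1) (ha1 : a ≠ 1) : a ≠ a⁻¹ := by
  intro h
  have h0 := ne_zero_of_pow ha
  have h2 : a ^ 2 = 1 := by
    rw [pow_two]
    nth_rewrite 2 [h]
    exact mul_inv_cancel₀ h0
  have h3 : a ^ Nat.gcd 2 p = 1 := pow_gcd_eq_one.2 ⟨h2, ha⟩
  rw [(Nat.coprime_primes Nat.prime_two hp.out).2 (Ne.symm hp2), pow_one] at h3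
  exact ha1 h3

/-- an element commuting with the diagonal elements of order `p` is diagonal -/
theorem diag_of_commute (hp2 : p ≠ 2) (hH : HasMon p H) {a : F} (ha : a ^ p = 1) (ha1 : a ≠ 1) {x : H}
    (hx : ∀ (y : H) (β : Fin n → F), mt H y = diagonal β → y ^ p = 1 → x * y = y * x) :
    ∃ δ : Fin n → F, mt H x = diagonal δ := by
  have h0 := ne_zero_of_pow ha
  refine ⟨fun i => mt H x i i, ?_⟩
  ext k l
  by_cases hkl : k = l
  · subst hkl
    rw [diagonal_apply_eq]
  · rw [diagonal_apply_ne _ hkl]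
    obtain ⟨y, hy⟩ := exists_diag hH (prod_tE hkl h0) (fun i => tE_pow ha i)
    have h1 := hx y _ hy (mt_inj H (by
      rw [map_pow, hy, diagonal_pow, map_one, ← diagonal_one]
      congr 1
      funext i
      exact tE_pow ha i))
    have h2 := congrArg (mt H) h1
    rw [map_mul, map_mul, hy] at h2
    have h3 := congrFun (congrFun h2 k) l
    rw [Matrix.mul_diagonal, Matrix.diagonal_mul] at h3
    have h4 : tE k l a k = a := by simp [tE]
    have h5 : tE k l a l = a⁻¹ := by simp [tE, Ne.symm hkl]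
    rw [h4, h5] at h3
    have h6 : (a - a⁻¹) * mt H x k l = 0 := by linear_combination -h3
    exact (mul_eq_zero.1 h6).resolve_left (sub_ne_zero.2 (inv_ne_self hp2 ha ha1))

open scoped Classical in
/-- the elements `diag(…, c, …, c⁻¹, …)` generate -/
theorem mem_of_tE (B : Subgroup H) (hB : ∀ (k l : Fin n) (c : F), k ≠ l → c ^ p = 1 → ∀ y : H,
    mt H y = diagonal (tE k l c) → y ∈ B) (hH : HasMon p H) :
    ∀ (m : ℕ) (y : H) (β : Fin n → F), (Finset.univ.filter fun i => β i ≠ 1).card = m →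
      mt H y = diagonal β → (∀ i, β i ^ p = 1) → y ∈ B := by
  intro m
  induction m using Nat.strong_induction_on with
  | _ m ih =>
    intro y β hm hy hβ
    by_cases h1 : ∀ i, β i = 1
    · have : y = 1 := mt_inj H (by rw [hy, map_one, ← diagonal_one]; congr 1; funext i; exact h1 i)
      rw [this]
      exact one_mem B
    · push Not at h1
      obtain ⟨k, hk⟩ := h1
      have hprod : ∏ i, β i = 1 := by
        have := det_mt y
        rwa [hy, det_diagonal] at this
      obtain ⟨l, hlk, hl⟩ : ∃ l, l ≠ k ∧ β l ≠ 1 := by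
        by_contra hcon
        push Not at hcon
        rw [Finset.prod_eq_single k (fun i _ hi => hcon i hi) (fun h => absurd (Finset.mem_univ k) h)] at hprod
        exact hk hprod
      have hk0 := ne_zero_of_pow (hβ k)
      obtain ⟨t, ht⟩ := exists_diag hH (prod_tE (Ne.symm hlk) hk0) (fun i => tE_pow (hβ k) i)
      have htB := hB k l (β k) (Ne.symm hlk) (hβ k) t ht
      have hz : mt H (y * t⁻¹) = diagonal (fun i => β i * (tE k l (β k) i)⁻¹) := by
        rw [map_mul, hy, mt_inv_of_diag ht, diagonal_mul_diagonal]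
      have hzB : y * t⁻¹ ∈ B := by
        refine ih _ ?_ _ _ rfl hz fun i => by rw [mul_pow, hβ i, inv_pow, tE_pow (hβ k) i, inv_one, one_mul]
        rw [← hm]
        apply Finset.card_lt_card
        rw [Finset.ssubset_iff_of_subset]
        · refine ⟨k, Finset.mem_filter.2 ⟨Finset.mem_univ k, hk⟩, ?_⟩
          rw [Finset.mem_filter]
          rintro ⟨-, h2⟩
          apply h2
          rw [show tE k l (β k) k = β k by simp [tE]]
          exact mul_inv_cancel₀ hk0
        · intro i hi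
          rw [Finset.mem_filter] at hi ⊢
          refine ⟨hi.1, ?_⟩
          intro h2
          apply hi.2
          have hik : i ≠ k := fun h => hk (h ▸ h2)
          have hil : i ≠ l := fun h => hl (h ▸ h2)
          rw [h2]
          simp [tE, hik, hil]
      have h3 : y = y * t⁻¹ * t := by group
      rw [h3]
      exact mul_mem hzB htB

end

/-- It is enough to look at one Sylow subgroup. -/
theorem abIrr_of_one {p : ℕ} [hp : Fact p.Prime] {G : Type*} [Group G] [Finite G] (S : Sylow p G)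
    (h : IsMulCommutative (S : Subgroup G) → ∀ B : Subgroup G, B ≤ (S : Subgroup G) → (∀ b ∈ B, b ^ p = 1) →
      (∀ n ∈ normalizer ((S : Subgroup G) : Set G), ∀ b ∈ B, n * b * n⁻¹ ∈ B) →
      B = ⊥ ∨ ∀ x ∈ (S : Subgroup G), x ^ p = 1 → x ∈ B) : AbIrr p G := by
  intro T hT B hBT hB hinv
  obtain ⟨g, hg⟩ := MulAction.exists_smul_eq G S T
  have hmem : ∀ x : G, x ∈ (T : Subgroup G) ↔ g⁻¹ * x * g ∈ (S : Subgroup G) := by
    intro x
    rw [← hg, Sylow.coe_subgroup_smul, Subgroup.mem_pointwise_smul_iff_inv_smul_mem, ← map_inv, MulAut.smul_def,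
      MulAut.conj_apply, inv_inv]
  have hmem' : ∀ x : G, g * x * g⁻¹ ∈ (T : Subgroup G) ↔ x ∈ (S : Subgroup G) := by
    intro x
    rw [hmem]
    have : g⁻¹ * (g * x * g⁻¹) * g = x := by group
    rw [this]
  have hS : IsMulCommutative (S : Subgroup G) := isMulCommutative_of fun a ha b hb => by
    have h1 := comm_of hT ((hmem' a).2 ha) ((hmem' b).2 hb)
    have h2 : a * b = g⁻¹ * ((g * a * g⁻¹) * (g * b * g⁻¹)) * g := by group
    have h3 : b * a = g⁻¹ * ((g * b * g⁻¹) * (g * a * g⁻¹)) * g := by group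
    rw [h2, h1, ← h3]
  rcases h hS (B.comap (MulAut.conj g).toMonoidHom) (fun x hx => (hmem' x).1 (hBT hx))
    (fun b hb => by
      have h1 : (g * b * g⁻¹) ^ p = 1 := hB _ hb
      rw [conj_pow'] at h1
      have : b ^ p = g⁻¹ * (g * b ^ p * g⁻¹) * g := by group
      rw [this, h1]
      group)
    (fun n hn b hb => by
      change g * (n * b * n⁻¹) * g⁻¹ ∈ B
      have h1 : g * (n * b * n⁻¹) * g⁻¹ = (g * n * g⁻¹) * (g * b * g⁻¹) * (g * n * g⁻¹)⁻¹ := by group
      rw [h1]
      refine hinv _ ?_ _ hb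
      rw [mem_normalizer_iff]
      intro x
      have h2 := mem_normalizer_iff.1 hn (g⁻¹ * x * g)
      rw [← hmem] at h2
      rw [h2, hmem]
      have h3 : g⁻¹ * (g * n * g⁻¹ * x * (g * n * g⁻¹)⁻¹) * g = n * (g⁻¹ * x * g) * n⁻¹ := by group
      rw [h3]) with h1 | h1
  · left
    rw [eq_bot_iff]
    intro b hb
    have h2 : g⁻¹ * b * g ∈ B.comap (MulAut.conj g).toMonoidHom := by
      change g * (g⁻¹ * b * g) * g⁻¹ ∈ B
      have : g * (g⁻¹ * b * g) * g⁻¹ = b := by group
      rwa [this]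
    rw [h1, mem_bot] at h2
    have h3 : b = g * (g⁻¹ * b * g) * g⁻¹ := by group
    rw [h3, h2, mem_bot]
    group
  · right
    intro x hx hxp
    have h2 := h1 (g⁻¹ * x * g) ((hmem x).1 hx) (by
      have h3 : (g⁻¹ * x * g⁻¹⁻¹) ^ p = 1 := by rw [conj_pow', hxp, mul_one, mul_inv_cancel]
      rwa [inv_inv] at h3)
    change g * (g⁻¹ * x * g) * g⁻¹ ∈ B at h2
    have : g * (g⁻¹ * x * g) * g⁻¹ = x := by group
    rwa [this] at h2

section Main

variable {F : Type} [Field F] {n : ℕ} {p : ℕ} [hp : Fact p.Prime] {H : Subgroup (SpecialLinearGroup (Fin n) F)}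

theorem diag_comm {x y : H} {β γ : Fin n → F} (hx : mt H x = diagonal β) (hy : mt H y = diagonal γ) :
    x * y = y * x := by
  apply mt_inj H
  rw [map_mul, map_mul, hx, hy, diagonal_mul_diagonal, diagonal_mul_diagonal]
  congr 1
  funext i
  exact mul_comm _ _

/-- the diagonal elements of exponent `p` -/
def dE (p : ℕ) (H : Subgroup (SpecialLinearGroup (Fin n) F)) : Subgroup H where
  carrier := {y | (∃ β, mt H y = diagonal β) ∧ y ^ p = 1}
  one_mem' := ⟨⟨fun _ => 1, by rw [map_one]; exact diagonal_one.symm⟩, one_pow p⟩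
  mul_mem' := by
    rintro x y ⟨⟨β, hx⟩, hxp⟩ ⟨⟨γ, hy⟩, hyp⟩
    refine ⟨⟨_, by rw [map_mul, hx, hy, diagonal_mul_diagonal]⟩, ?_⟩
    rw [(show Commute x y from diag_comm hx hy).mul_pow, hxp, hyp, one_mul]
  inv_mem' := by
    rintro x ⟨⟨β, hx⟩, hxp⟩
    exact ⟨⟨_, mt_inv_of_diag hx⟩, by rw [inv_pow, hxp, inv_one]⟩

theorem isPGroup_dE : IsPGroup p (dE p H) := fun x => ⟨1, Subtype.ext (by
  rw [pow_one]
  exact x.2.2)⟩

theorem exists_perm {i j k l : Fin n} (hij : i ≠ j) (hkl : k ≠ l) : ∃ σ : Equiv.Perm (Fin n), σ k = i ∧ σ l = j := by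
  set l' := Equiv.swap k i l with hl'
  have h1 : l' ≠ i := by
    intro h
    apply hkl
    apply (Equiv.swap k i).injective
    rw [← hl', h, Equiv.swap_apply_left]
  refine ⟨Equiv.swap l' j * Equiv.swap k i, ?_, ?_⟩
  · rw [Equiv.Perm.mul_apply, Equiv.swap_apply_left, Equiv.swap_apply_of_ne_of_ne (Ne.symm h1) hij]
  · rw [Equiv.Perm.mul_apply, ← hl', Equiv.swap_apply_left]

/-- entries of a diagonal element of exponent `p` -/
theorem pow_entry {x : H} {β : Fin n → F} (hx : mt H x = diagonal β) (hxp : x ^ p = 1) (i : Fin n) : β i ^ p = 1 := by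
  have h1 : mt H (x ^ p) = diagonal (β ^ p) := by rw [map_pow, hx, diagonal_pow]
  rw [hxp, map_one] at h1
  have h2 := congrFun (congrFun h1 i) i
  rw [one_apply_eq, diagonal_apply_eq] at h2
  exact h2.symm

theorem ne_of_ne_one (hnp : n < p) {x : H} {β : Fin n → F} (hx : mt H x = diagonal β) (hxp : x ^ p = 1) (hx1 : x ≠ 1) :
    ∃ i j, i ≠ j ∧ β i ≠ β j := by
  by_contra hcon
  push Not at hcon
  apply hx1
  apply mt_inj H
  rw [hx, map_one, ← diagonal_one]
  congr 1
  funext i
  have h1 : ∀ j, β j = β i := fun j => by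
    by_cases h : j = i
    · rw [h]
    · exact hcon j i h
  have h2 : β i ^ n = 1 := by
    have h3 := det_mt x
    rw [hx, det_diagonal, Finset.prod_congr rfl fun j _ => h1 j, Finset.prod_const, Finset.card_univ,
      Fintype.card_fin] at h3
    exact h3
  have h3 : β i ^ Nat.gcd n p = 1 := pow_gcd_eq_one.2 ⟨h2, pow_entry hx hxp i⟩
  rw [(Nat.coprime_of_lt_prime (by have := i.2; omega) hnp hp.out).symm.gcd_eq_one, pow_one] at h3
  exact h3

variable [Finite H]

theorem diag_of_mem (hp2 : p ≠ 2) (hH : HasMon p H) {a : F} (ha : a ^ p = 1) (ha1 : a ≠ 1) (S : Sylow p H)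
    (hE : dE p H ≤ (S : Subgroup H)) (hS : IsMulCommutative (S : Subgroup H)) {x : H} (hx : x ∈ (S : Subgroup H)) :
    ∃ δ : Fin n → F, mt H x = diagonal δ :=
  diag_of_commute hp2 hH ha ha1 fun _ β hy hyp => comm_of hS hx (hE ⟨⟨β, hy⟩, hyp⟩)

theorem mon_mem_normalizer (hp2 : p ≠ 2) (hH : HasMon p H) {a : F} (ha : a ^ p = 1) (ha1 : a ≠ 1) (S : Sylow p H)
    (hE : dE p H ≤ (S : Subgroup H)) (hS : IsMulCommutative (S : Subgroup H)) {z : H} {d : Fin n → F}
    {σ : Equiv.Perm (Fin n)} (hz : mt H z = monM d σ) : z ∈ normalizer ((S : Subgroup H) : Set H) := by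
  apply Subgroup.mem_normalizer_fintype
  intro x hx
  obtain ⟨β, hβ⟩ := diag_of_mem hp2 hH ha ha1 S hE hS hx
  have h1 := conj_diag hz hβ
  obtain ⟨k, hk⟩ := S.2 ⟨x, hx⟩
  have hk' : x ^ p ^ k = 1 := congrArg Subtype.val hk
  refine mem_sylow_of_normalizer S (k := k) ?_ ?_
  · rw [conj_pow', hk', mul_one, mul_inv_cancel]
  · apply Subgroup.mem_normalizer_fintype
    intro y hy
    obtain ⟨γ, hγ⟩ := diag_of_mem hp2 hH ha ha1 S hE hS hy
    rw [diag_comm h1 hγ, mul_inv_cancel_right]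
    exact hy

/-- **`n < p`.** -/
theorem small (hp2 : p ≠ 2) (hH : HasMon p H) (hn : 0 < n) (hnp : n < p) {a : F} (ha : a ^ p = 1) (ha1 : a ≠ 1) :
    AbIrr p H ∧ NormOm p H := by
  obtain ⟨S, hE⟩ := (isPGroup_dE (p := p) (H := H)).exists_le_sylow
  constructor
  · refine abIrr_of_one S fun hS B hBS hB hinv => ?_
    by_cases hB0 : B = ⊥
    · exact Or.inl hB0
    right
    obtain ⟨b, hb, hb1⟩ : ∃ b ∈ B, b ≠ 1 := by
      by_contra hcon
      push Not at hcon
      exact hB0 ((eq_bot_iff_forall B).2 hcon)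
    obtain ⟨β, hβ⟩ := diag_of_mem hp2 hH ha ha1 S hE hS (hBS hb)
    have hβp := pow_entry hβ (hB b hb)
    obtain ⟨i, j, hij, hne⟩ := ne_of_ne_one hnp hβ (hB b hb) hb1
    have hi0 := ne_zero_of_pow (hβp i)
    have hj0 := ne_zero_of_pow (hβp j)
    set c₀ := (β i)⁻¹ * β j with hc₀
    have hc1 : c₀ ≠ 1 := by
      intro h
      apply hne
      rw [hc₀] at h
      field_simp at h
      exact h.symm
    have hcp : c₀ ^ p = 1 := by rw [hc₀, mul_pow, inv_pow, hβp, hβp, inv_one, one_mul]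
    have hprim : IsPrimitiveRoot c₀ p := by
      have := IsPrimitiveRoot.orderOf c₀
      rwa [orderOf_eq_prime hcp hc1] at this
    obtain ⟨d, z, hz⟩ := exists_mon hH hn (Equiv.swap i j)
    have hb2 : mt H (b⁻¹ * (z * b * z⁻¹)) = diagonal (tE i j c₀) := by
      rw [map_mul, mt_inv_of_diag hβ, conj_diag hz hβ, diagonal_mul_diagonal]
      congr 1
      funext k
      unfold tE
      by_cases hki : k = i
      · subst hki
        rw [if_pos rfl, Equiv.swap_apply_left]
      · rw [if_neg hki]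
        by_cases hkj : k = j
        · subst hkj
          rw [if_pos rfl, Equiv.swap_apply_right, hc₀, mul_inv, inv_inv, mul_comm]
        · rw [if_neg hkj, Equiv.swap_apply_of_ne_of_ne hki hkj]
          exact inv_mul_cancel₀ (ne_zero_of_pow (hβp k))
    have hb2B : b⁻¹ * (z * b * z⁻¹) ∈ B :=
      mul_mem (inv_mem hb) (hinv z (mon_mem_normalizer hp2 hH ha ha1 S hE hS hz) b hb)
    have key : ∀ (k l : Fin n) (c : F), k ≠ l → c ^ p = 1 → ∀ y : H, mt H y = diagonal (tE k l c) → y ∈ B := by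
      intro k l c hkl hc y hy
      obtain ⟨m, -, rfl⟩ := hprim.eq_pow_of_pow_eq_one hc
      obtain ⟨σ, hσk, hσl⟩ := exists_perm hij hkl
      obtain ⟨d', z', hz'⟩ := exists_mon hH hn σ
      have h1 : mt H ((b⁻¹ * (z * b * z⁻¹)) ^ m) = diagonal ((tE i j c₀) ^ m) := by
        rw [map_pow, hb2, diagonal_pow]
      have h2 := conj_diag hz' h1
      have h3 : y = z' * (b⁻¹ * (z * b * z⁻¹)) ^ m * z'⁻¹ := by
        apply mt_inj H
        rw [h2, hy]
        congr 1
        funext x
        rw [Pi.pow_apply]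
        unfold tE
        by_cases hxk : x = k
        · subst hxk
          rw [if_pos rfl, hσk, if_pos rfl]
        · have hk' : σ x ≠ i := fun h => hxk (σ.injective (h.trans hσk.symm))
          rw [if_neg hxk, if_neg hk']
          by_cases hxl : x = l
          · subst hxl
            rw [if_pos rfl, hσl, if_pos rfl, inv_pow]
          · have hl' : σ x ≠ j := fun h => hxl (σ.injective (h.trans hσl.symm))
            rw [if_neg hxl, if_neg hl', one_pow]
      rw [h3]
      exact hinv z' (mon_mem_normalizer hp2 hH ha ha1 S hE hS hz') _ (pow_mem hb2B m)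
    intro x hx hxp
    obtain ⟨δ, hδ⟩ := diag_of_mem hp2 hH ha ha1 S hE hS hx
    exact mem_of_tE B key hH _ x δ rfl hδ (pow_entry hδ hxp)
  · refine H104.ClosedSet.normOm_of S fun hS c hc s hs => ?_
    obtain ⟨δ, hδ⟩ := diag_of_commute hp2 hH ha ha1 (x := c) fun y β hy hyp => by
      have h1 := hc y (hE ⟨⟨β, hy⟩, hyp⟩) hyp
      rwa [mul_inv_eq_iff_eq_mul] at h1
    obtain ⟨γ, hγ⟩ := diag_of_mem hp2 hH ha ha1 S hE hS hs
    exact diag_comm hδ hγ

variable {G : Type*} [Group G] [Finite G]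

/-- **`n < p`, modulo scalars.** -/
theorem small_proj (hp2 : p ≠ 2) (hH : HasMon p H) (hn : 0 < n) (hnp : n < p) {a : F} (ha : a ^ p = 1) (ha1 : a ≠ 1)
    (f : H →* G) (hf : Function.Surjective f) (hker : ∀ z : H, f z = 1 ↔ ∃ c : F, mt H z = Matrix.scalar (Fin n) c) :
    AbIrr p G ∧ NormOm p G := by
  obtain ⟨h1, h2⟩ := small hp2 hH hn hnp ha ha1
  have hc : f.ker ≤ center H := by
    intro z hz
    obtain ⟨c, hc⟩ := (hker z).1 hz
    rw [mem_center_iff]
    intro x
    apply mt_inj H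
    rw [map_mul, map_mul, hc]
    exact (Matrix.scalar_commute c (fun r' => mul_comm c r') (mt H x)).symm
  have hk : ¬ p ∣ Nat.card f.ker := by
    intro hd
    obtain ⟨z, hz⟩ := exists_prime_orderOf_dvd_card' p hd
    obtain ⟨c, hc⟩ := (hker (z : H)).1 z.2
    have hzp : (z : H) ^ p = 1 := by
      have : z ^ p = 1 := by rw [← hz]; exact pow_orderOf_eq_one z
      exact congrArg Subtype.val this
    have hc' : mt H (z : H) = diagonal fun _ => c := hc
    by_cases hz1 : (z : H) = 1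
    · have : z = 1 := Subtype.ext hz1
      rw [this, orderOf_one] at hz
      exact hp.out.one_lt.ne hz
    · obtain ⟨i, j, -, hij⟩ := ne_of_ne_one hnp hc' hzp hz1
      exact hij rfl
  exact ⟨AbIrr.of_surjective f hf hk h1, H104.ClosedSet.NormOm.of_surjective f hf hc hk h2⟩

/-- **`n ≥ 4`, `n ≥ p`: the Sylow `p`-subgroups are not abelian.** -/
theorem big_proj (hp2 : p ≠ 2) (hH : HasMon p H) (hn : 4 ≤ n) (hnp : p ≤ n) {a : F} (ha : a ^ p = 1) (ha1 : a ≠ 1)
    (f : H →* G) (hker : ∀ z : H, f z = 1 ↔ ∃ c : F, mt H z = Matrix.scalar (Fin n) c) :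
    H800.Sp.NotAb p G := by
  have hp3 : 3 ≤ p := by
    have := hp.out.two_le
    omega
  obtain ⟨m, rfl⟩ : ∃ m, n = m + 1 := ⟨n - 1, by omega⟩
  have h0 := ne_zero_of_pow ha
  let t : Fin (m + 1) := ⟨p - 1, by omega⟩
  have ht0 : t ≠ 0 := by
    intro h
    have := congrArg Fin.val h
    simp [t] at this
    omega
  set σ : Equiv.Perm (Fin (m + 1)) := Fin.cycleRange t with hσ
  have hord : orderOf σ = p := by
    rw [← Equiv.Perm.lcm_cycleType, hσ, Fin.cycleType_cycleRange ht0]
    simp [t]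
    omega
  have hσp : σ ^ p = 1 := by rw [← hord]; exact pow_orderOf_eq_one σ
  have hsign : Equiv.Perm.sign σ = 1 := by
    rw [hσ, Fin.sign_cycleRange]
    have : Even (p - 1) := by
      rcases hp.out.eq_two_or_odd' with h | h
      · exact absurd h hp2
      · obtain ⟨k, hk⟩ := h
        exact ⟨k, by omega⟩
    exact this.neg_one_pow
  obtain ⟨z, hz⟩ := hH (fun _ => 1) σ (by rw [det_monM, hsign]; simp) (fun i => Or.inr (one_pow p))
  have hz' : mt H z = σ.permMatrix F := by rw [hz, monM_one]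
  have hzp : z ^ p = 1 := by
    apply mt_inj H
    rw [map_pow, hz', map_one]
    have h1 : ∀ k : ℕ, (σ.permMatrix F) ^ k = (σ ^ k).permMatrix F := by
      intro k
      induction k with
      | zero => rw [pow_zero, pow_zero, permMatrix_one]
      | succ k ih => rw [pow_succ', ih, pow_succ, permMatrix_mul]
    rw [h1, hσp, permMatrix_one]
  have h12 : (⟨1, by omega⟩ : Fin (m + 1)) ≠ ⟨2, by omega⟩ := by simp
  obtain ⟨y, hy⟩ := exists_diag hH (prod_tE h12 h0) (fun i => tE_pow ha i)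
  have hyp : y ^ p = 1 := mt_inj H (by
      rw [map_pow, hy, diagonal_pow, map_one, ← diagonal_one]
      congr 1
      funext i
      exact tE_pow ha i)
  have hyE : y ∈ dE p H := ⟨⟨_, hy⟩, hyp⟩
  have hzN : zpowers z ≤ normalizer ((dE p H : Subgroup H) : Set H) := by
    rw [zpowers_le]
    apply Subgroup.mem_normalizer_fintype
    rintro x ⟨⟨β, hβ⟩, hxp⟩
    exact ⟨⟨_, conj_diag hz hβ⟩, by rw [conj_pow', hxp, mul_one, mul_inv_cancel]⟩
  have hzP : IsPGroup p (zpowers z) := fun x => ⟨1, by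
    obtain ⟨k, hk⟩ := mem_zpowers_iff.1 x.2
    apply Subtype.ext
    rw [pow_one]
    change (x : H) ^ p = 1
    rw [← hk, ← zpow_natCast, ← _root_.zpow_mul, mul_comm, _root_.zpow_mul, _root_.zpow_natCast, hzp, _root_.one_zpow]⟩
  have hP : IsPGroup p ((zpowers z ⊔ dE p H : Subgroup H) : Subgroup H) :=
    IsPGroup.to_sup_of_normal_right' hzP isPGroup_dE hzN
  refine H800.Sp.notAb_of_pair ((zpowers z ⊔ dE p H).map f) (hP.map f)
    (mem_map_of_mem f (mem_sup_left (mem_zpowers z))) (mem_map_of_mem f (mem_sup_right hyE)) ?_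
  intro hcomm
  have h1 : f (z * y * z⁻¹ * y⁻¹) = 1 := by
    rw [map_mul, map_mul, map_mul, map_inv, map_inv, hcomm]
    group
  obtain ⟨c, hc⟩ := (hker _).1 h1
  rw [map_mul, conj_diag hz hy, mt_inv_of_diag hy, diagonal_mul_diagonal] at hc
  have hent : ∀ i, tE ⟨1, by omega⟩ ⟨2, by omega⟩ a (σ i) * (tE ⟨1, by omega⟩ ⟨2, by omega⟩ a i)⁻¹ = c := by
    intro i
    have := congrFun (congrFun hc i) i
    rw [diagonal_apply_eq] at this
    rw [this]
    simp
  have hσ0 : σ ⟨0, by omega⟩ = ⟨1, by omega⟩ := by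
    rw [hσ, Fin.cycleRange_of_lt (by simp [t, Fin.lt_def]; omega)]
    apply Fin.ext
    rw [Fin.val_add_one_of_lt (by simp [Fin.lt_def]; omega)]
  have hσ1 : σ ⟨1, by omega⟩ = ⟨2, by omega⟩ := by
    rw [hσ, Fin.cycleRange_of_lt (by simp [t, Fin.lt_def]; omega)]
    apply Fin.ext
    rw [Fin.val_add_one_of_lt (by simp [Fin.lt_def]; omega)]
  have e0 := hent ⟨0, by omega⟩
  have e1 := hent ⟨1, by omega⟩
  rw [hσ0] at e0
  rw [hσ1] at e1
  have e0' : a = c := by simpa [tE] using e0
  have e1' : a⁻¹ * a⁻¹ = c := by simpa [tE] using e1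
  have ha3 : a ^ 3 = 1 := by
    rw [← e0'] at e1'
    have : a ^ 3 = a * a * a := by ring
    rw [this]
    nth_rewrite 3 [← e1']
    field_simp
  have hpe : p = 3 := by
    have h2 : a ^ Nat.gcd 3 p = 1 := pow_gcd_eq_one.2 ⟨ha3, ha⟩
    by_contra hne
    rw [(Nat.coprime_primes Nat.prime_three hp.out).2 (Ne.symm hne), pow_one] at h2
    exact ha1 h2
  have hσ3 : σ ⟨3, by omega⟩ = ⟨3, by omega⟩ := by
    rw [hσ, Fin.cycleRange_of_gt (by simp [t, Fin.lt_def]; omega)]
  have e3 := hent ⟨3, by omega⟩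
  rw [hσ3] at e3
  have e3' : (1 : F) = c := by simpa [tE] using e3
  exact ha1 (e0'.trans e3'.symm)

end Main

end Cfsg.Agent.H795.Split
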