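import Cfsg.Agent.H795.Split

/-!
# `AbIrr` and `NormOm` for `PSL₃(q)`, `3 ∣ q - 1`, and `PSU₃(q)`, `3 ∣ q + 1`, at the prime `3`

The abelian Sylow `3`-subgroups are the images of the extraspecial group of order `27`, on which the Fourier matrix acts as
an element of order `4` without fixed points.
-/

set_option autoImplicit false
set_option linter.unusedSectionVars false

namespace Cfsg.Agent.H795.Split

open Matrix Subgroup

/-- the abstract part -/
theorem three_abs {G : Type*} [Group G] [Finite G] (u v w : G) (hu : u ^ 3 = 1) (hv : v ^ 3 = 1)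
    (huv : u * v = v * u) (hw1 : w * u * w⁻¹ = v) (hw2 : w * v * w⁻¹ = u⁻¹)
    (hC : ∀ s : G, s * u = u * s → s * v = v * s → ∃ i < 3, ∃ j < 3, s = v ^ i * u⁻¹ ^ j) :
    AbIrr 3 G ∧ NormOm 3 G := by
  have : Fact (Nat.Prime 3) := ⟨Nat.prime_three⟩
  have hz : ∀ x : G, x ^ 3 = 1 → IsPGroup 3 (zpowers x) := fun x hx y => ⟨1, by
    obtain ⟨k, hk⟩ := mem_zpowers_iff.1 y.2
    apply Subtype.ext
    rw [pow_one]
    change (y : G) ^ 3 = 1
    rw [← hk, ← zpow_natCast, ← _root_.zpow_mul, mul_comm, _root_.zpow_mul, _root_.zpow_natCast, hx, _root_.one_zpow]⟩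
  have hP : IsPGroup 3 ((zpowers u ⊔ zpowers v : Subgroup G) : Subgroup G) := by
    refine IsPGroup.to_sup_of_normal_right' (hz u hu) (hz v hv) ?_
    rw [zpowers_le]
    apply Subgroup.mem_normalizer_fintype
    intro x hx
    obtain ⟨k, rfl⟩ := mem_zpowers_iff.1 hx
    have h1 : Commute u (v ^ k) := (show Commute u v from huv).zpow_right k
    rw [h1.eq, mul_inv_cancel_right]
    exact hx
  obtain ⟨S, hS0⟩ := hP.exists_le_sylow
  have huS : u ∈ (S : Subgroup G) := hS0 (mem_sup_left (mem_zpowers u))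
  have hvS : v ∈ (S : Subgroup G) := hS0 (mem_sup_right (mem_zpowers v))
  have hform : IsMulCommutative (S : Subgroup G) → ∀ s ∈ (S : Subgroup G), ∃ i < 3, ∃ j < 3, s = v ^ i * u⁻¹ ^ j :=
    fun hS s hs => hC s (comm_of hS hs huS) (comm_of hS hs hvS)
  have hconj : ∀ i j : ℕ, w * (v ^ i * u⁻¹ ^ j) * w⁻¹ = u⁻¹ ^ i * v⁻¹ ^ j := by
    intro i j
    have h1 : w * (v ^ i * u⁻¹ ^ j) * w⁻¹ = MulAut.conj w (v ^ i * u⁻¹ ^ j) := by rw [MulAut.conj_apply]
    have h2 : MulAut.conj w u = v := by rw [MulAut.conj_apply, hw1]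
    have h3 : MulAut.conj w v = u⁻¹ := by rw [MulAut.conj_apply, hw2]
    rw [h1, map_mul, map_pow, map_pow, map_inv, h2, h3]
  constructor
  · refine abIrr_of_one S fun hS B hBS hB hinv => ?_
    by_cases hB0 : B = ⊥
    · exact Or.inl hB0
    right
    obtain ⟨b, hb, hb1⟩ : ∃ b ∈ B, b ≠ 1 := by
      by_contra hcon
      push Not at hcon
      exact hB0 ((eq_bot_iff_forall B).2 hcon)
    have hwN : w ∈ normalizer ((S : Subgroup G) : Set G) := by
      apply Subgroup.mem_normalizer_fintype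
      intro x hx
      obtain ⟨i, -, j, -, rfl⟩ := hform hS x hx
      rw [hconj]
      exact mul_mem (pow_mem (inv_mem huS) _) (pow_mem (inv_mem hvS) _)
    obtain ⟨i, hi, j, hj, hbe⟩ := hform hS b (hBS hb)
    have hb' : u⁻¹ ^ i * v⁻¹ ^ j ∈ B := by
      rw [← hconj, ← hbe]
      exact hinv w hwN b hb
    have huv' : Commute u⁻¹ v⁻¹ := (show Commute u v from huv).inv_inv
    have huv1 : Commute u⁻¹ v := (show Commute u v from huv).inv_left
    have hv1 : v ^ (i * i + j * j) ∈ B := by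
      have h1 : b ^ i * (u⁻¹ ^ i * v⁻¹ ^ j)⁻¹ ^ j ∈ B := mul_mem (pow_mem hb i) (pow_mem (inv_mem hb') j)
      have h2 : b ^ i = v ^ (i * i) * u⁻¹ ^ (j * i) := by
        rw [hbe, (Commute.pow_pow huv1.symm i j).mul_pow, ← pow_mul, ← pow_mul]
      have h3 : (u⁻¹ ^ i * v⁻¹ ^ j)⁻¹ ^ j = u ^ (i * j) * v ^ (j * j) := by
        rw [(Commute.pow_pow huv' i j).mul_inv, ← inv_pow, ← inv_pow, inv_inv, inv_inv,
          (Commute.pow_pow (show Commute u v from huv) i j).mul_pow, ← pow_mul, ← pow_mul]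
      have h4 : b ^ i * (u⁻¹ ^ i * v⁻¹ ^ j)⁻¹ ^ j = v ^ (i * i + j * j) := by
        rw [h2, h3, mul_comm j i, inv_pow, mul_assoc, ← mul_assoc (u ^ (i * j))⁻¹, inv_mul_cancel, one_mul, ← pow_add]
      rwa [h4] at h1
    have hvB : v ∈ B := by
      have e4 : v ^ 4 = v := by rw [pow_succ, hv, one_mul]
      interval_cases i <;> interval_cases j
      · exfalso
        apply hb1
        rw [hbe]
        simp
      · simpa using hv1
      · rw [show (0 * 0 + 2 * 2 : ℕ) = 4 from rfl, e4] at hv1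
        exact hv1
      · simpa using hv1
      · have h5 := pow_mem hv1 2
        rw [← pow_mul, show ((1 * 1 + 1 * 1) * 2 : ℕ) = 4 from rfl, e4] at h5
        exact h5
      · have h5 := pow_mem hv1 2
        rw [← pow_mul, show ((1 * 1 + 2 * 2) * 2 : ℕ) = 3 * 3 + 1 from rfl, pow_succ, pow_mul, hv, one_pow, one_mul] at h5
        exact h5
      · rw [show (2 * 2 + 0 * 0 : ℕ) = 4 from rfl, e4] at hv1
        exact hv1
      · have h5 := pow_mem hv1 2
        rw [← pow_mul, show ((2 * 2 + 1 * 1) * 2 : ℕ) = 3 * 3 + 1 from rfl, pow_succ, pow_mul, hv, one_pow, one_mul] at h5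
        exact h5
      · have h5 := pow_mem hv1 2
        rw [← pow_mul, show ((2 * 2 + 2 * 2) * 2 : ℕ) = 3 * 5 + 1 from rfl, pow_succ, pow_mul, hv, one_pow, one_mul] at h5
        exact h5
    have huB : u⁻¹ ∈ B := by
      have := hinv w hwN v hvB
      rwa [hw2] at this
    intro x hx _
    obtain ⟨i, -, j, -, rfl⟩ := hform hS x hx
    exact mul_mem (pow_mem hvB i) (pow_mem huB j)
  · refine H104.ClosedSet.normOm_of S fun hS c hc s hs => ?_
    have h1 := mul_inv_eq_iff_eq_mul.1 (hc u huS hu)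
    have h2 := mul_inv_eq_iff_eq_mul.1 (hc v hvS hv)
    obtain ⟨i, -, j, -, rfl⟩ := hform hS s hs
    exact (Commute.mul_right ((show Commute c v from h2).pow_right i) ((show Commute c u from h1).inv_right.pow_right j)).eq

theorem scalar_of_comm {F : Type*} [Field F] {a : F} (ha0 : a ≠ 0) (ha1 : a ≠ 1) (ha3 : a ^ 3 = 1)
    {M : Matrix (Fin 3) (Fin 3) F} (h1 : M * diagonal ![1, a ^ 2, a] = diagonal ![1, a ^ 2, a] * M)
    (h2 : M * !![0, 0, 1; 1, 0, 0; 0, 1, 0] = !![0, 0, 1; 1, 0, 0; 0, 1, 0] * M) :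
    M = Matrix.scalar (Fin 3) (M 0 0) := by
  have ha2 : a ^ 2 ≠ 1 := by
    intro h
    apply ha1
    rw [pow_succ, h, one_mul] at ha3
    exact ha3
  have haa : a ^ 2 ≠ a := by
    intro h
    apply ha1
    have : a * (a - 1) = 0 := by linear_combination h
    exact sub_eq_zero.1 ((mul_eq_zero.1 this).resolve_left ha0)
  have off : ∀ k l : Fin 3, (![1, a ^ 2, a] : Fin 3 → F) k ≠ (![1, a ^ 2, a] : Fin 3 → F) l → M k l = 0 := by
    intro k l hkl
    have h3 := congrFun (congrFun h1 k) l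
    rw [Matrix.mul_diagonal, Matrix.diagonal_mul] at h3
    have h4 : ((![1, a ^ 2, a] : Fin 3 → F) k - (![1, a ^ 2, a] : Fin 3 → F) l) * M k l = 0 := by
      linear_combination -h3
    exact (mul_eq_zero.1 h4).resolve_left (sub_ne_zero.2 hkl)
  have o01 := off 0 1 (Ne.symm ha2)
  have o02 := off 0 2 (Ne.symm ha1)
  have o10 := off 1 0 ha2
  have o12 := off 1 2 haa
  have o20 := off 2 0 ha1
  have o21 := off 2 1 (Ne.symm haa)
  have d1 := congrFun (congrFun h2 1) 0
  have d2 := congrFun (congrFun h2 2) 1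
  simp only [Matrix.mul_apply, Fin.sum_univ_three] at d1 d2
  simp at d1 d2
  ext k l
  fin_cases k <;> fin_cases l <;> simp [o01, o02, o10, o12, o20, o21, d1, d2]

variable {F : Type} [Field F] {H : Subgroup (SpecialLinearGroup (Fin 3) F)} {G : Type*} [Group G] [Finite G]

theorem three (hH : HasMon 3 H) (a t : F) (ha : a ^ 2 + a + 1 = 0) (ht : t = a - a ^ 2) (h3 : (3 : F) ≠ 0)
    (W : H) (hW : mt H W = !![t⁻¹, t⁻¹, t⁻¹; t⁻¹, t⁻¹ * a, t⁻¹ * a ^ 2; t⁻¹, t⁻¹ * a ^ 2, t⁻¹ * a])
    (f : H →* G) (hf : Function.Surjective f) (hker : ∀ z : H, f z = 1 ↔ ∃ c : F, mt H z = Matrix.scalar (Fin 3) c) :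
    AbIrr 3 G ∧ NormOm 3 G := by
  have ha3 : a ^ 3 = 1 := by linear_combination (a - 1) * ha
  have ha1 : a ≠ 1 := by
    rintro rfl
    apply h3
    linear_combination ha
  have ha0 : a ≠ 0 := by
    rintro rfl
    simp at ha
  have ht0 : t ≠ 0 := by
    intro h
    rw [ht] at h
    have h1 : a * (1 - a) = 0 := by linear_combination h
    rcases mul_eq_zero.1 h1 with h2 | h2
    · exact ha0 h2
    · exact ha1 (sub_eq_zero.1 h2).symm
  -- the elements
  obtain ⟨X, hX'⟩ := hH (fun _ => 1) (finRotate 3)⁻¹ (by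
    rw [det_monM, Equiv.Perm.sign_inv, sign_finRotate]
    simp) (fun i => Or.inr (one_pow 3))
  have hX : mt H X = !![0, 0, 1; 1, 0, 0; 0, 1, 0] := by
    rw [hX', monM_one]
    ext i j
    rw [Equiv.Perm.permMatrix, PEquiv.toMatrix_apply]
    fin_cases i <;> fin_cases j <;> simp [Equiv.toPEquiv_apply] <;> decide
  obtain ⟨Z, hZ'⟩ := exists_diag (H := H) hH (β := ![1, a ^ 2, a]) (by
    rw [Fin.prod_univ_three]
    change 1 * a ^ 2 * a = 1
    rw [one_mul, ← pow_succ, ha3]) (fun i => by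
      fin_cases i
      · exact one_pow 3
      · change (a ^ 2) ^ 3 = 1
        rw [← pow_mul, mul_comm, pow_mul, ha3, one_pow]
      · exact ha3)
  have hZ : mt H Z = !![1, 0, 0; 0, a ^ 2, 0; 0, 0, a] := by
    rw [hZ']
    ext i j
    fin_cases i <;> fin_cases j <;> simp
  obtain ⟨C, hC'⟩ := exists_diag (H := H) hH (β := fun _ => a) (by
    rw [Fin.prod_univ_three, ← ha3]
    ring) (fun i => ha3)
  have hC : mt H C = Matrix.scalar (Fin 3) a := hC'
  have hCM : ∀ x : H, C * x = x * C := by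
    intro x
    apply mt_inj H
    rw [map_mul, map_mul, hC]
    exact Matrix.scalar_commute a (fun r' => mul_comm a r') (mt H x)
  have hX3 : X ^ 3 = 1 := by
    apply mt_inj H
    rw [pow_succ, pow_succ, pow_one, map_mul, map_mul, hX, map_one]
    ext i j
    fin_cases i <;> fin_cases j <;> simp [Matrix.mul_apply, Fin.sum_univ_three]
  have hZ3 : Z ^ 3 = 1 := by
    apply mt_inj H
    rw [pow_succ, pow_succ, pow_one, map_mul, map_mul, hZ, map_one]
    ext i j
    fin_cases i <;> fin_cases j <;> simp [Matrix.mul_apply, Fin.sum_univ_three]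
    · linear_combination (a ^ 3 + 1) * ha3
    · linear_combination ha3
  have hC3 : C ^ 3 = 1 := by
    apply mt_inj H
    rw [map_pow, hC, map_one, ← map_pow, ha3, map_one]
  -- the commutator relation
  have hXZ : X * Z = C * Z * X := by
    apply mt_inj H
    rw [map_mul, map_mul, map_mul, hX, hZ, hC]
    ext i j
    fin_cases i <;> fin_cases j <;> simp [Matrix.mul_apply, Fin.sum_univ_three]
    all_goals first | ring1 | linear_combination ha3 | linear_combination (-1 : F) * ha3
  have hfC : f C = 1 := (hker C).2 ⟨a, hC⟩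
  -- scalars in `H`
  have hscal : ∀ z : H, f z = 1 → ∃ i < 3, z = C ^ i := by
    intro z hz
    obtain ⟨c, hc⟩ := (hker z).1 hz
    have hc3 : c ^ 3 = 1 := by
      have h1 := det_mt z
      rw [hc, show Matrix.scalar (Fin 3) c = diagonal fun _ => c from rfl, det_diagonal, Fin.prod_univ_three] at h1
      rw [← h1]
      ring
    have h2 : (c - 1) * ((c - a) * (c - a ^ 2)) = 0 := by
      have h4 : (c - 1) * ((c - a) * (c - a ^ 2)) = c ^ 3 - (a ^ 2 + a + 1) * c ^ 2 + (a ^ 3 + a ^ 2 + a) * c - a ^ 3 := by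
        ring
      rw [h4, hc3, ha, ha3]
      linear_combination c * ha
    rcases mul_eq_zero.1 h2 with h3 | h3
    · refine ⟨0, by norm_num, mt_inj H ?_⟩
      rw [hc, sub_eq_zero.1 h3, pow_zero, map_one, map_one]
    · rcases mul_eq_zero.1 h3 with h3 | h3
      · refine ⟨1, by norm_num, mt_inj H ?_⟩
        rw [hc, sub_eq_zero.1 h3, pow_one, hC]
      · refine ⟨2, by norm_num, mt_inj H ?_⟩
        rw [hc, sub_eq_zero.1 h3, map_pow, map_pow, hC]
  -- the Fourier matrix
  have hWZ : W * Z = X * W := by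
    apply mt_inj H
    rw [map_mul, map_mul, hW, hX, hZ]
    ext i j
    fin_cases i <;> fin_cases j <;> simp [Matrix.mul_apply, Fin.sum_univ_three]
    all_goals first | ring1 | linear_combination (t⁻¹) * ha3 | linear_combination (t⁻¹ * a) * ha3
  have hWX : W * X = Z⁻¹ * W := by
    have h1 : Z * (W * X) = W := by
      apply mt_inj H
      rw [map_mul, map_mul, hW, hX, hZ]
      ext i j
      fin_cases i <;> fin_cases j <;> simp [Matrix.mul_apply, Fin.sum_univ_three]
      all_goals first | ring1 | linear_combination (t⁻¹) * ha3 | linear_combination (t⁻¹ * a) * ha3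
    rw [eq_inv_mul_iff_mul_eq]
    exact h1
  refine three_abs (f Z) (f X) (f W) (by rw [← map_pow, hZ3, map_one]) (by rw [← map_pow, hX3, map_one]) ?_ ?_ ?_ ?_
  · have h1 : f X * f Z = f Z * f X := by rw [← map_mul, hXZ, map_mul, map_mul, hfC, one_mul]
    exact h1.symm
  · rw [← map_mul, ← map_inv, ← map_mul, hWZ, mul_inv_cancel_right]
  · rw [← map_mul, ← map_inv, ← map_mul, hWX, mul_inv_cancel_right, map_inv]
  · intro s hsu hsv
    obtain ⟨x, rfl⟩ := hf s
    obtain ⟨i, hi, hxi⟩ := hscal (x * Z * x⁻¹ * Z⁻¹) (by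
      rw [map_mul, map_mul, map_mul, map_inv, map_inv, hsu]
      group)
    obtain ⟨j, hj, hxj⟩ := hscal (x * X * x⁻¹ * X⁻¹) (by
      rw [map_mul, map_mul, map_mul, map_inv, map_inv, hsv]
      group)
    have hxZ : x * Z * x⁻¹ = C ^ i * Z := by
      rw [← hxi]
      group
    have hxX : x * X * x⁻¹ = C ^ j * X := by
      rw [← hxj]
      group
    -- conjugations as homomorphisms
    have cC : ∀ y : H, MulAut.conj y C = C := fun y => by
      rw [MulAut.conj_apply, ← hCM, mul_inv_cancel_right]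
    have cXZ : MulAut.conj X Z = C * Z := by
      rw [MulAut.conj_apply, hXZ, mul_inv_cancel_right]
    have cXX : MulAut.conj X X = X := by
      rw [MulAut.conj_apply, mul_inv_cancel_right]
    have cZZ : MulAut.conj Z Z = Z := by
      rw [MulAut.conj_apply, mul_inv_cancel_right]
    have cZX : MulAut.conj Z X = C⁻¹ * X := by
      rw [MulAut.conj_apply, mul_inv_eq_iff_eq_mul, mul_assoc C⁻¹, hXZ]
      group
    have cXZk : ∀ k : ℕ, MulAut.conj (X ^ k) Z = C ^ k * Z := by
      intro k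
      induction k with
      | zero => simp
      | succ k ih =>
        rw [pow_succ', map_mul, MulAut.mul_apply, ih, map_mul, map_pow, cC, cXZ, ← mul_assoc, ← pow_succ]
    have cXXk : ∀ k : ℕ, MulAut.conj (X ^ k) X = X := by
      intro k
      rw [MulAut.conj_apply, (Commute.refl X).pow_left k, mul_inv_cancel_right]
    have cZXk : ∀ k : ℕ, MulAut.conj (Z ^ k) X = C⁻¹ ^ k * X := by
      intro k
      induction k with
      | zero => simp
      | succ k ih =>
        rw [pow_succ', map_mul, MulAut.mul_apply, ih, map_mul, map_pow, map_inv, cC, cZX, ← mul_assoc, ← pow_succ]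
    have cZZk : ∀ k : ℕ, MulAut.conj (Z ^ k) Z = Z := by
      intro k
      rw [MulAut.conj_apply, (Commute.refl Z).pow_left k, mul_inv_cancel_right]
    have cCk : ∀ (y : H) (k : ℕ), MulAut.conj y (C ^ k) = C ^ k := fun y k => by rw [map_pow, cC]
    -- `y = Z ^ j * (X ^ i)⁻¹ * x` centralises `Z` and `X`
    have cXiZ : MulAut.conj (X ^ i)⁻¹ (C ^ i * Z) = Z := by
      rw [← cXZk, ← MulAut.mul_apply, ← map_mul, inv_mul_cancel, map_one, MulAut.one_apply]
    have cXiX : MulAut.conj (X ^ i)⁻¹ (C ^ j * X) = C ^ j * X := by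
      have h1 : MulAut.conj (X ^ i) (C ^ j * X) = C ^ j * X := by
        rw [map_mul, cCk, cXXk]
      nth_rewrite 1 [← h1]
      rw [← MulAut.mul_apply, ← map_mul, inv_mul_cancel, map_one, MulAut.one_apply]
    set y := Z ^ j * (X ^ i)⁻¹ * x with hy
    have hyZ : MulAut.conj y Z = Z := by
      have h1 : MulAut.conj x Z = C ^ i * Z := by rw [MulAut.conj_apply, hxZ]
      rw [hy, map_mul, map_mul, MulAut.mul_apply, MulAut.mul_apply, h1, cXiZ, cZZk]
    have hyX : MulAut.conj y X = X := by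
      have h1 : MulAut.conj x X = C ^ j * X := by rw [MulAut.conj_apply, hxX]
      rw [hy, map_mul, map_mul, MulAut.mul_apply, MulAut.mul_apply, h1, cXiX, map_mul, cCk, cZXk, ← mul_assoc, inv_pow,
        mul_inv_cancel, one_mul]
    have hyZ' : mt H y * mt H Z = mt H Z * mt H y := by
      rw [← map_mul, ← map_mul]
      rw [MulAut.conj_apply, mul_inv_eq_iff_eq_mul] at hyZ
      exact congrArg (mt H) hyZ
    have hyX' : mt H y * mt H X = mt H X * mt H y := by
      rw [← map_mul, ← map_mul]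
      rw [MulAut.conj_apply, mul_inv_eq_iff_eq_mul] at hyX
      exact congrArg (mt H) hyX
    have hfy : f y = 1 := by
      rw [hker]
      refine ⟨mt H y 0 0, ?_⟩
      rw [hZ'] at hyZ'
      rw [hX] at hyX'
      exact scalar_of_comm ha0 ha1 ha3 hyZ' hyX'
    refine ⟨i, hi, j, hj, ?_⟩
    have h1 : x = X ^ i * Z⁻¹ ^ j * y := by
      rw [hy, inv_pow]
      group
    rw [h1, map_mul, hfy, mul_one, map_mul, map_pow, map_pow, map_inv]

end Cfsg.Agent.H795.Split
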